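import Mathlib

/-!
# Multiplicities of weights from the dimensions of fixed points
-/

set_option autoImplicit false
set_option maxRecDepth 20000
set_option maxHeartbeats 1000000

namespace CfsgLib.Known.AltE6

variable {n l : ℕ} [NeZero l]

/-- The weights trivial on a vector. -/
def perp (lam v : Fin n → Fin l) : Bool := (∑ i, (lam i : ℕ) * (v i : ℕ)) % l == 0

/-- The number of nonzero coordinates. -/
def cls (v : Fin n → Fin l) : ℕ := (Finset.univ.filter fun i => v i ≠ 0).card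

/-- The number of nonzero pairs of coordinates. -/
def cls2 (v : Fin 6 → Fin 2) : ℕ :=
  (Finset.univ.filter fun k : Fin 3 => v ⟨2 * k, by omega⟩ ≠ 0 ∨ v ⟨2 * k + 1, by omega⟩ ≠ 0).card

theorem transform (m : (Fin n → Fin l) → ℕ) (d : (Fin n → Fin l) → ℕ)
    (hd : ∀ v, d v = ∑ lam ∈ Finset.univ.filter (fun lam => perp lam v = true), m lam)
    (c w : (Fin n → Fin l) → ℤ)
    (hw : ∀ lam, (∑ v, if perp lam v then c v else 0) = w lam) :
    ∑ v, c v * d v = ∑ lam, w lam * m lam := by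
  calc ∑ v, c v * d v = ∑ v, ∑ lam, (if perp lam v then c v else 0) * m lam := by
        refine Finset.sum_congr rfl fun v _ => ?_
        rw [hd, Nat.cast_sum, Finset.mul_sum, Finset.sum_filter]
        refine Finset.sum_congr rfl fun lam _ => ?_
        split_ifs <;> simp
    _ = ∑ lam, ∑ v, (if perp lam v then c v else 0) * m lam := Finset.sum_comm
    _ = ∑ lam, w lam * m lam := Finset.sum_congr rfl fun lam _ => by rw [← Finset.sum_mul, hw]

theorem by_class (f : (Fin n → Fin l) → ℤ) (κ : (Fin n → Fin l) → ℕ) (K : ℕ) (hκ : ∀ v, κ v < K) (D : ℕ → ℕ)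
    (d : (Fin n → Fin l) → ℕ) (hd : ∀ v, d v = D (κ v)) (C : ℕ → ℤ)
    (hC : ∀ j < K, (∑ v, if κ v = j then f v else 0) = C j) :
    ∑ v, f v * d v = ∑ j ∈ Finset.range K, C j * D j := by
  calc ∑ v, f v * d v = ∑ v, ∑ j ∈ Finset.range K, (if κ v = j then f v else 0) * (D j : ℤ) := by
        refine Finset.sum_congr rfl fun v _ => ?_
        rw [Finset.sum_eq_single (κ v)]
        · rw [if_pos rfl, hd]
        · intro j _ hj; rw [if_neg (Ne.symm hj), zero_mul]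
        · intro h; exact absurd (Finset.mem_range.2 (hκ v)) h
    _ = ∑ j ∈ Finset.range K, ∑ v, (if κ v = j then f v else 0) * (D j : ℤ) := Finset.sum_comm
    _ = ∑ j ∈ Finset.range K, C j * D j :=
        Finset.sum_congr rfl fun j hj => by rw [← Finset.sum_mul, hC j (Finset.mem_range.1 hj)]

/-- The transform by classes. -/
theorem transform_class (m : (Fin n → Fin l) → ℕ) (D : ℕ → ℕ) (κ : (Fin n → Fin l) → ℕ) (K : ℕ) (hκ : ∀ v, κ v < K)
    (hd : ∀ v, D (κ v) = ∑ lam ∈ Finset.univ.filter (fun lam => perp lam v = true), m lam)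
    (c w : (Fin n → Fin l) → ℤ) (C : ℕ → ℤ)
    (hw : ∀ lam, (∑ v, if perp lam v then c v else 0) = w lam)
    (hC : ∀ j < K, (∑ v, if κ v = j then c v else 0) = C j) :
    ∑ j ∈ Finset.range K, C j * D j = ∑ lam, w lam * m lam :=
  (by_class c κ K hκ D (fun v => D (κ v)) (fun _ => rfl) C hC).symm.trans (transform m _ hd c w hw)

theorem sum_delta {α : Type*} [Fintype α] [DecidableEq α] (a : α) (m : α → ℕ) (N : ℤ) :
    ∑ x, (if x = a then N else 0) * (m x : ℤ) = N * m a := by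
  rw [Finset.sum_eq_single a]
  · rw [if_pos rfl]
  · intro b _ hb; rw [if_neg hb, zero_mul]
  · simp

/-- The coefficients for three-cycles. -/
def coe3 : List (List ℤ) :=
  [[1, 8, 24, 32, 16], [2, 10, 12, -8, -16], [2, 4, -6, -8, 8], [2, -2, -6, 10, -4], [2, -8, 12, -8, 2]]

theorem cls_le4 : ∀ v : Fin 4 → Fin 3, cls v < 5 := by decide +kernel

theorem coe3_ok : ∀ lam : Fin 4 → Fin 3, lam ≠ 0 →
    (∀ x : Fin 4 → Fin 3, (∑ v, if perp x v then (if perp lam v then (2 : ℤ) else -1) else 0) =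
      (if x = lam then 54 else 0) + (if x = -lam then 54 else 0)) ∧
    ∀ j < 5, (∑ v, if cls v = j then (if perp lam v then (2 : ℤ) else -1) else 0) =
      (coe3.getD (cls lam) []).getD j 0 := by decide +kernel

theorem coe3_zero : (∀ x : Fin 4 → Fin 3, (∑ v : Fin 4 → Fin 3, if perp x v then (1 : ℤ) else 0) =
      27 + (if x = 0 then 54 else 0)) ∧
    ∀ j < 5, (∑ v : Fin 4 → Fin 3, if cls v = j then (1 : ℤ) else 0) = (coe3.getD 0 []).getD j 0 := by
  decide +kernel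

theorem cls_zero4 : ∀ v : Fin 4 → Fin 3, cls v = 0 ↔ v = 0 := by decide +kernel

theorem perp_zero {lam : Fin n → Fin l} : perp lam 0 = true := by simp [perp]

section ThreeCycles

variable {W : ℕ} {m : (Fin 4 → Fin 3) → ℕ} {D : ℕ → ℕ} (h0 : D 0 = W) (hsum : ∑ lam, m lam = W)
  (hd : ∀ v, v ≠ 0 → D (cls v) = ∑ lam ∈ Finset.univ.filter (fun lam => perp lam v = true), m lam)
  (hsym : ∀ lam, m (-lam) = m lam)

include h0 hsum hd in
theorem three_all (v : Fin 4 → Fin 3) :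
    D (cls v) = ∑ lam ∈ Finset.univ.filter (fun lam => perp lam v = true), m lam := by
  by_cases h : v = 0
  · subst h
    rw [(cls_zero4 0).2 rfl, h0, ← hsum]
    exact Finset.sum_congr (Finset.filter_true_of_mem fun x _ => perp_zero).symm fun _ _ => rfl
  · exact hd v h

include h0 hsum hd in
theorem three_zero : (D 0 : ℤ) + 8 * D 1 + 24 * D 2 + 32 * D 3 + 16 * D 4 = 27 * W + 54 * m 0 := by
  have h := transform_class m D cls 5 cls_le4 (three_all h0 hsum hd) (fun _ => 1)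
    (fun x => 27 + (if x = 0 then 54 else 0)) _ coe3_zero.1 coe3_zero.2
  simp only [add_mul, Finset.sum_add_distrib, sum_delta, ← Finset.mul_sum, ← Nat.cast_sum, hsum] at h
  rw [← h]
  simp [Finset.sum_range_succ, coe3]

include h0 hsum hd hsym in
theorem three_ne {lam : Fin 4 → Fin 3} (hl : lam ≠ 0) :
    ∑ j ∈ Finset.range 5, (coe3.getD (cls lam) []).getD j 0 * D j = 108 * m lam := by
  have h := transform_class m D cls 5 cls_le4 (three_all h0 hsum hd) _ _ _ (coe3_ok lam hl).1 (coe3_ok lam hl).2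
  simp only [add_mul, Finset.sum_add_distrib, sum_delta, hsym] at h
  rw [h]; ring

/-- The class representatives. -/
def rep4 (j : ℕ) : Fin 4 → Fin 3 := fun i => if (i : ℕ) < j then 1 else 0

theorem rep4_ok : ∀ j < 5, cls (rep4 j) = j := by decide +kernel

include h0 hsum hd hsym in
theorem three_const (lam : Fin 4 → Fin 3) : m lam = m (rep4 (cls lam)) := by
  by_cases hl : lam = 0
  · subst hl
    rw [(cls_zero4 0).2 rfl]
    exact congrArg m (funext fun i => by simp [rep4])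
  have h1 := three_ne h0 hsum hd hsym hl
  have hne : rep4 (cls lam) ≠ 0 := fun e => hl ((cls_zero4 lam).1 (by
    have := rep4_ok (cls lam) (cls_le4 lam)
    rw [e, (cls_zero4 0).2 rfl] at this
    exact this.symm))
  have h2 := three_ne h0 hsum hd hsym hne
  rw [rep4_ok _ (cls_le4 lam)] at h2
  omega

include h0 hsum hd hsym in
theorem three_eqs :
    2 * (D 0 : ℤ) + 10 * D 1 + 12 * D 2 - 8 * D 3 - 16 * D 4 = 108 * m (rep4 1) ∧
    2 * (D 0 : ℤ) + 4 * D 1 - 6 * D 2 - 8 * D 3 + 8 * D 4 = 108 * m (rep4 2) ∧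
    2 * (D 0 : ℤ) - 2 * D 1 - 6 * D 2 + 10 * D 3 - 4 * D 4 = 108 * m (rep4 3) ∧
    2 * (D 0 : ℤ) - 8 * D 1 + 12 * D 2 - 8 * D 3 + 2 * D 4 = 108 * m (rep4 4) := by
  have h : ∀ j, 1 ≤ j → j < 5 → ∑ i ∈ Finset.range 5, (coe3.getD j []).getD i 0 * D i = 108 * m (rep4 j) := by
    intro j h1 h2
    have hne : rep4 j ≠ 0 := fun e => by
      have := rep4_ok j h2
      rw [e, (cls_zero4 0).2 rfl] at this
      omega
    have h := three_ne h0 hsum hd hsym hne
    rwa [rep4_ok j h2] at h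
  refine ⟨?_, ?_, ?_, ?_⟩
  · have := h 1 le_rfl (by norm_num); simp [Finset.sum_range_succ, coe3] at this; omega
  · have := h 2 (by norm_num) (by norm_num); simp [Finset.sum_range_succ, coe3] at this; omega
  · have := h 3 (by norm_num) (by norm_num); simp [Finset.sum_range_succ, coe3] at this; omega
  · have := h 4 (by norm_num) (by norm_num); simp [Finset.sum_range_succ, coe3] at this; omega

end ThreeCycles

/-- The conditions on the dimensions. -/
def ok81 (d1 d2 d3 d4 : ℤ) : Bool :=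
  decide ((78 + 8 * d1 + 24 * d2 + 32 * d3 + 16 * d4 - 2106) % 54 = 0) &&
    decide ((156 + 10 * d1 + 12 * d2 - 8 * d3 - 16 * d4) % 108 = 0) &&
    decide ((156 + 4 * d1 - 6 * d2 - 8 * d3 + 8 * d4) % 108 = 0) &&
    decide (0 ≤ 156 + 10 * d1 + 12 * d2 - 8 * d3 - 16 * d4) &&
    decide (0 ≤ 156 + 4 * d1 - 6 * d2 - 8 * d3 + 8 * d4) &&
    decide (0 ≤ 156 - 2 * d1 - 6 * d2 + 10 * d3 - 4 * d4) &&
    decide ((156 - 2 * d1 - 6 * d2 + 10 * d3 - 4 * d4) % 108 = 0) &&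
    decide (0 ≤ 156 - 8 * d1 + 12 * d2 - 8 * d3 + 2 * d4) &&
    decide ((156 - 8 * d1 + 12 * d2 - 8 * d3 + 2 * d4) % 108 = 0) &&
    decide (0 ≤ 78 + 8 * d1 + 24 * d2 + 32 * d3 + 16 * d4 - 2106)

/-- The check on the dimensions. -/
def chk81 (d1 d2 d3 d4 : ℤ) : Bool :=
  !(ok81 d1 d2 d3 d4) || decide ([d1, d2, d3, d4] = [30, 36, 24, 30] ∨ [d1, d2, d3, d4] = [36, 30, 24, 36])

theorem chk81_ok : ∀ a ∈ ([24, 28, 30, 36, 46] : List ℕ), ∀ b ∈ ([24, 28, 30, 36, 46] : List ℕ),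
    ∀ c ∈ ([24, 28, 30, 36, 46] : List ℕ), ∀ d ∈ ([24, 28, 30, 36, 46] : List ℕ),
      chk81 a b c d = true := by decide +kernel

theorem e81_num (d1 d2 d3 d4 a0 a1 a2 a3 a4 : ℤ) (h : chk81 d1 d2 d3 d4 = true)
    (p0 : 0 ≤ a0) (p1 : 0 ≤ a1) (p2 : 0 ≤ a2) (p3 : 0 ≤ a3) (p4 : 0 ≤ a4)
    (e0 : 78 + 8 * d1 + 24 * d2 + 32 * d3 + 16 * d4 = 2106 + 54 * a0)
    (e1 : 156 + 10 * d1 + 12 * d2 - 8 * d3 - 16 * d4 = 108 * a1)
    (e2 : 156 + 4 * d1 - 6 * d2 - 8 * d3 + 8 * d4 = 108 * a2)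
    (e3 : 156 - 2 * d1 - 6 * d2 + 10 * d3 - 4 * d4 = 108 * a3)
    (e4 : 156 - 8 * d1 + 12 * d2 - 8 * d3 + 2 * d4 = 108 * a4) :
    d3 = 24 ∧ ((a0 = 6 ∧ a1 = 2 ∧ a2 = 1 ∧ a3 = 0 ∧ a4 = 2) ∨ (a0 = 6 ∧ a1 = 1 ∧ a2 = 2 ∧ a3 = 0 ∧ a4 = 1)) := by
  have hok : ok81 d1 d2 d3 d4 = true := by
    have c0 : (78 + 8 * d1 + 24 * d2 + 32 * d3 + 16 * d4 - 2106) % 54 = 0 := by
      rw [e0, add_sub_cancel_left, Int.mul_emod_right]
    have c0' : 0 ≤ 78 + 8 * d1 + 24 * d2 + 32 * d3 + 16 * d4 - 2106 := by rw [e0]; linarith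
    simp only [ok81, Bool.and_eq_true, decide_eq_true_eq]
    refine ⟨⟨⟨⟨⟨⟨⟨⟨⟨c0, ?_⟩, ?_⟩, ?_⟩, ?_⟩, ?_⟩, ?_⟩, ?_⟩, ?_⟩, c0'⟩ <;>
      simp only [e1, e2, e3, e4, Int.mul_emod_right] <;> linarith
  simp only [chk81, hok, Bool.not_true, Bool.false_or, decide_eq_true_eq, List.cons.injEq, and_true] at h
  rcases h with ⟨rfl, rfl, rfl, rfl⟩ | ⟨rfl, rfl, rfl, rfl⟩
  · exact ⟨rfl, Or.inl ⟨by linarith, by linarith, by linarith, by linarith, by linarith⟩⟩
  · exact ⟨rfl, Or.inr ⟨by linarith, by linarith, by linarith, by linarith, by linarith⟩⟩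

theorem e81_V {m : (Fin 4 → Fin 3) → ℕ} {D : ℕ → ℕ} (h0 : D 0 = 78) (hsum : ∑ lam, m lam = 78)
    (hd : ∀ v, v ≠ 0 → D (cls v) = ∑ lam ∈ Finset.univ.filter (fun lam => perp lam v = true), m lam)
    (hsym : ∀ lam, m (-lam) = m lam) (hD : ∀ j, 1 ≤ j → j < 5 → D j ∈ ([24, 28, 30, 36, 46] : List ℕ)) :
    D 3 = 24 ∧ ((∀ lam, m lam = ([6, 2, 1, 0, 2] : List ℕ).getD (cls lam) 0) ∨
      ∀ lam, m lam = ([6, 1, 2, 0, 1] : List ℕ).getD (cls lam) 0) := by
  have f0 := three_zero h0 hsum hd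
  obtain ⟨f1, f2, f3, f4⟩ := three_eqs h0 hsum hd hsym
  have hz : ((D 0 : ℕ) : ℤ) = 78 := by rw [h0]; rfl
  rw [hz] at f0 f1 f2 f3 f4
  push_cast at f0
  have hin : ∀ x : ℕ, x ∈ ([24, 28, 30, 36, 46] : List ℕ) → x = 24 ∨ x = 28 ∨ x = 30 ∨ x = 36 ∨ x = 46 := by simp
  have hlist : ∀ j, 1 ≤ j → j < 5 → ((D j : ℕ) : ℤ) = ((D j : ℕ) : ℤ) ∧ D j ∈ ([24, 28, 30, 36, 46] : List ℕ) :=
    fun j a b => ⟨rfl, hD j a b⟩
  have h := chk81_ok _ (hlist 1 le_rfl (by norm_num)).2 _ (hlist 2 (by norm_num) (by norm_num)).2 _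
    (hlist 3 (by norm_num) (by norm_num)).2 _ (hlist 4 (by norm_num) (by norm_num)).2
  obtain ⟨h24, hcase⟩ := e81_num _ _ _ _ (m 0 : ℤ) (m (rep4 1) : ℤ) (m (rep4 2) : ℤ) (m (rep4 3) : ℤ)
    (m (rep4 4) : ℤ) h (Int.natCast_nonneg _) (Int.natCast_nonneg _) (Int.natCast_nonneg _) (Int.natCast_nonneg _)
    (Int.natCast_nonneg _) (by linarith) (by linarith) (by linarith) (by linarith) (by linarith)
  refine ⟨Int.ofNat_inj.1 h24, ?_⟩
  have hc := three_const h0 hsum hd hsym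
  have hrep : rep4 0 = 0 := funext fun i => by simp [rep4]
  have key : ∀ (x0 x1 x2 x3 x4 : ℕ), m 0 = x0 → m (rep4 1) = x1 → m (rep4 2) = x2 → m (rep4 3) = x3 →
      m (rep4 4) = x4 → ∀ lam, m lam = ([x0, x1, x2, x3, x4] : List ℕ).getD (cls lam) 0 := by
    intro x0 x1 x2 x3 x4 g0 g1 g2 g3 g4 lam
    rw [hc lam]
    obtain ⟨j, hj⟩ : ∃ j, cls lam = j := ⟨_, rfl⟩
    have hlt : j < 5 := hj ▸ cls_le4 lam
    rw [hj]
    clear hj
    interval_cases j
    · rw [hrep, g0]; rfl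
    · rw [g1]; rfl
    · rw [g2]; rfl
    · rw [g3]; rfl
    · rw [g4]; rfl
  rcases hcase with ⟨a0, a1, a2, a3, a4⟩ | ⟨a0, a1, a2, a3, a4⟩
  · exact Or.inl (key _ _ _ _ _ (Int.ofNat_inj.1 a0) (Int.ofNat_inj.1 a1) (Int.ofNat_inj.1 a2) (Int.ofNat_inj.1 a3) (Int.ofNat_inj.1 a4))
  · exact Or.inr (key _ _ _ _ _ (Int.ofNat_inj.1 a0) (Int.ofNat_inj.1 a1) (Int.ofNat_inj.1 a2) (Int.ofNat_inj.1 a3) (Int.ofNat_inj.1 a4))

theorem e81_U {W : ℕ} {m : (Fin 4 → Fin 3) → ℕ} {D : ℕ → ℕ} (h0 : D 0 = W) (hsum : ∑ lam, m lam = W)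
    (hd : ∀ v, v ≠ 0 → D (cls v) = ∑ lam ∈ Finset.univ.filter (fun lam => perp lam v = true), m lam)
    (hsym : ∀ lam, m (-lam) = m lam)
    (hle : (∀ lam, m lam ≤ ([6, 2, 1, 0, 2] : List ℕ).getD (cls lam) 0) ∨
      ∀ lam, m lam ≤ ([6, 1, 2, 0, 1] : List ℕ).getD (cls lam) 0) :
    (W = 46 → 16 < D 4) ∧ (W = 38 → 14 < D 4 ∨ 18 < D 2) := by
  have e0 := three_zero h0 hsum hd
  obtain ⟨e1, e2, e3, e4⟩ := three_eqs h0 hsum hd hsym
  rw [h0] at e0 e1 e2 e3 e4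
  have hrep : rep4 0 = 0 := funext fun i => by simp [rep4]
  have hb : ∀ (M : List ℕ), (∀ lam, m lam ≤ M.getD (cls lam) 0) → ∀ j < 5, m (rep4 j) ≤ M.getD j 0 := fun M hM j hj => by
    have := hM (rep4 j)
    rwa [rep4_ok j hj] at this
  rcases hle with h | h
  all_goals
    have b0 := hb _ h 0 (by norm_num)
    have b1 := hb _ h 1 (by norm_num)
    have b2 := hb _ h 2 (by norm_num)
    have b3 := hb _ h 3 (by norm_num)
    have b4 := hb _ h 4 (by norm_num)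
    rw [hrep] at b0
    simp at b0 b1 b2 b3 b4
    refine ⟨fun hW => ?_, fun hW => ?_⟩ <;> subst hW <;> omega

/-- The coefficients for Klein four groups. -/
def coe2 : List (List ℤ) := [[1, 9, 27, 27], [1, 5, 3, -9], [1, 1, -5, 3], [1, -3, 3, -1]]

theorem cls2_lt : ∀ v : Fin 6 → Fin 2, cls2 v < 4 := by decide +kernel

theorem cls2_zero : ∀ v : Fin 6 → Fin 2, cls2 v = 0 ↔ v = 0 := by decide +kernel

theorem coe2_ok : ∀ lam : Fin 6 → Fin 2,
    (∀ x : Fin 6 → Fin 2, (∑ v, if perp x v then (if perp lam v then (1 : ℤ) else -1) else 0) =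
      (if x = lam then 32 else 0) + (if lam = 0 then 32 else 0)) ∧
    ∀ j < 4, (∑ v, if cls2 v = j then (if perp lam v then (1 : ℤ) else -1) else 0) =
      (coe2.getD (cls2 lam) []).getD j 0 := by decide +kernel

/-- The class representatives. -/
def rep6 (j : ℕ) : Fin 6 → Fin 2 := fun i => if (i : ℕ) < 2 * j ∧ (i : ℕ) % 2 = 0 then 1 else 0

theorem rep6_ok : (∀ j < 4, cls2 (rep6 j) = j) ∧ rep6 0 = 0 := by decide +kernel

theorem klein_eqs {W : ℕ} {m : (Fin 6 → Fin 2) → ℕ} {D : ℕ → ℕ} (h0 : D 0 = W) (hsum : ∑ lam, m lam = W)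
    (hd : ∀ v, v ≠ 0 → D (cls2 v) = ∑ lam ∈ Finset.univ.filter (fun lam => perp lam v = true), m lam) :
    ((W : ℤ) + 9 * D 1 + 27 * D 2 + 27 * D 3 = 32 * W + 32 * m 0 ∧
    (W : ℤ) + 5 * D 1 + 3 * D 2 - 9 * D 3 = 32 * m (rep6 1) ∧
    (W : ℤ) + D 1 - 5 * D 2 + 3 * D 3 = 32 * m (rep6 2) ∧
    (W : ℤ) - 3 * D 1 + 3 * D 2 - D 3 = 32 * m (rep6 3)) ∧
    ∀ lam, m lam = m (rep6 (cls2 lam)) := by
  have hall : ∀ v, D (cls2 v) = ∑ lam ∈ Finset.univ.filter (fun lam => perp lam v = true), m lam := by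
    intro v
    by_cases h : v = 0
    · subst h
      rw [(cls2_zero 0).2 rfl, h0, ← hsum]
      exact Finset.sum_congr (Finset.filter_true_of_mem fun x _ => perp_zero).symm fun _ _ => rfl
    · exact hd v h
  have key : ∀ lam : Fin 6 → Fin 2, ∑ j ∈ Finset.range 4, (coe2.getD (cls2 lam) []).getD j 0 * D j =
      32 * m lam + (if lam = 0 then 32 else 0) * (W : ℤ) := by
    intro lam
    have h := transform_class m D cls2 4 cls2_lt hall _ _ _ (coe2_ok lam).1 (coe2_ok lam).2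
    simp only [add_mul, Finset.sum_add_distrib, sum_delta, ← Finset.mul_sum, ← Nat.cast_sum, hsum] at h
    exact h
  have hne : ∀ j, 1 ≤ j → j < 4 → rep6 j ≠ 0 := fun j h1 h2 e => by
    have := rep6_ok.1 j h2
    rw [e, (cls2_zero 0).2 rfl] at this
    omega
  refine ⟨⟨?_, ?_, ?_, ?_⟩, fun lam => ?_⟩
  · have := key 0
    rw [(cls2_zero 0).2 rfl, if_pos rfl] at this
    simp [Finset.sum_range_succ, coe2, h0] at this
    omega
  · have := key (rep6 1)
    rw [rep6_ok.1 1 (by norm_num), if_neg (hne 1 le_rfl (by norm_num))] at this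
    simp [Finset.sum_range_succ, coe2, h0] at this
    omega
  · have := key (rep6 2)
    rw [rep6_ok.1 2 (by norm_num), if_neg (hne 2 (by norm_num) (by norm_num))] at this
    simp [Finset.sum_range_succ, coe2, h0] at this
    omega
  · have := key (rep6 3)
    rw [rep6_ok.1 3 (by norm_num), if_neg (hne 3 (by norm_num) (by norm_num))] at this
    simp [Finset.sum_range_succ, coe2, h0] at this
    omega
  · by_cases hl : lam = 0
    · subst hl; rw [(cls2_zero 0).2 rfl, rep6_ok.2]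
    have h1 := key lam
    have h2 := key (rep6 (cls2 lam))
    have hpos : 1 ≤ cls2 lam := Nat.pos_of_ne_zero fun e => hl ((cls2_zero lam).1 e)
    rw [rep6_ok.1 _ (cls2_lt lam), if_neg (hne _ hpos (cls2_lt lam))] at h2
    rw [if_neg hl] at h1
    omega

theorem klein_V {m : (Fin 6 → Fin 2) → ℕ} {D : ℕ → ℕ} (h0 : D 0 = 78) (hsum : ∑ lam, m lam = 78)
    (hd : ∀ v, v ≠ 0 → D (cls2 v) = ∑ lam ∈ Finset.univ.filter (fun lam => perp lam v = true), m lam)
    (hD : ∀ j, 1 ≤ j → j < 4 → D j = 46 ∨ D j = 38) : D 2 = 46 := by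
  obtain ⟨⟨e0, e1, e2, e3⟩, -⟩ := klein_eqs h0 hsum hd
  rcases hD 1 le_rfl (by norm_num) with a | a <;> rcases hD 2 (by norm_num) (by norm_num) with b | b <;>
    rcases hD 3 (by norm_num) (by norm_num) with c | c <;> omega

theorem klein_U {W : ℕ} {m : (Fin 6 → Fin 2) → ℕ} {D : ℕ → ℕ} (h0 : D 0 = W) (hsum : ∑ lam, m lam = W)
    (hd : ∀ v, v ≠ 0 → D (cls2 v) = ∑ lam ∈ Finset.univ.filter (fun lam => perp lam v = true), m lam)
    (hW : (W = 46 ∧ D 2 = 22) ∨ (W = 38 ∧ D 2 = 18)) :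
    (W = 46 → ∀ lam, m lam = ([1, 2, 1, 0] : List ℕ).getD (cls2 lam) 0) ∧
      (W = 38 → ∀ lam, m lam = ([2, 1, 1, 0] : List ℕ).getD (cls2 lam) 0) := by
  obtain ⟨⟨e0, e1, e2, e3⟩, hc⟩ := klein_eqs h0 hsum hd
  have htot : m 0 + 9 * m (rep6 1) + 27 * m (rep6 2) + 27 * m (rep6 3) = W := by omega
  have hW' : W ≤ 46 := by rcases hW with ⟨hw, -⟩ | ⟨hw, -⟩ <;> omega
  have b2 : m (rep6 2) ≤ 1 := by omega
  have b3 : m (rep6 3) ≤ 1 := by omega
  obtain ⟨v0, v1, v2, v3⟩ : (W = 46 → m 0 = 1 ∧ m (rep6 1) = 2 ∧ m (rep6 2) = 1 ∧ m (rep6 3) = 0) ∧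
      (W = 38 → m 0 = 2 ∧ m (rep6 1) = 1 ∧ m (rep6 2) = 1 ∧ m (rep6 3) = 0) ∧ True ∧ True := by
    have b1 : m (rep6 1) ≤ 5 := by omega
    refine ⟨fun h => ?_, fun h => ?_, trivial, trivial⟩ <;> rcases hW with ⟨hw, hw2⟩ | ⟨hw, hw2⟩ <;>
      first | omega | (interval_cases (m (rep6 2)) <;> interval_cases (m (rep6 3)) <;> interval_cases (m (rep6 1)) <;> omega)
  refine ⟨fun h lam => ?_, fun h lam => ?_⟩ <;> rw [hc lam] <;> have hlt := cls2_lt lam <;>
    interval_cases cls2 lam <;> simp [rep6_ok.2, v0, v1, h]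

theorem coe8_ok : ∀ lam : Fin 3 → Fin 2,
    (∀ x : Fin 3 → Fin 2, (∑ v, if perp x v then (if perp lam v then (1 : ℤ) else -1) else 0) =
      (if x = lam then 4 else 0) + (if lam = 0 then 4 else 0)) ∧
    (∑ v : Fin 3 → Fin 2, if v = 0 then (if perp lam v then (1 : ℤ) else -1) else 0) = 1 ∧
    (∑ v : Fin 3 → Fin 2, if v = 0 then 0 else (if perp lam v then (1 : ℤ) else -1)) =
      (if lam = 0 then 7 else -1) := by decide +kernel

theorem eight_U {m : (Fin 3 → Fin 2) → ℕ} (hsum : ∑ lam, m lam = 38)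
    (hd : ∀ v, v ≠ 0 → ∑ lam ∈ Finset.univ.filter (fun lam => perp lam v = true), m lam = 18)
    (lam : Fin 3 → Fin 2) : m lam = if lam = 0 then 3 else 5 := by
  have h := transform m (fun v => if v = 0 then 38 else 18) (fun v => by
    by_cases h : v = 0
    · subst h
      rw [if_pos rfl, ← hsum]
      exact Finset.sum_congr (Finset.filter_true_of_mem fun x _ => perp_zero).symm fun _ _ => rfl
    · rw [if_neg h, hd v h]) _ _ (coe8_ok lam).1
  have e : ∀ (f : (Fin 3 → Fin 2) → ℤ), ∑ v, f v * (((if v = 0 then 38 else 18) : ℕ) : ℤ) =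
      38 * (∑ v, if v = 0 then f v else 0) + 18 * (∑ v, if v = 0 then 0 else f v) := by
    intro f
    rw [Finset.mul_sum, Finset.mul_sum, ← Finset.sum_add_distrib]
    refine Finset.sum_congr rfl fun v _ => ?_
    split_ifs <;> push_cast <;> ring
  rw [e, (coe8_ok lam).2.1, (coe8_ok lam).2.2] at h
  simp only [add_mul, Finset.sum_add_distrib, sum_delta, ← Finset.mul_sum, ← Nat.cast_sum, hsum] at h
  split_ifs at h ⊢ <;> omega

theorem coe9_ok : ∀ x : Fin 2 → Fin 3,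
    (∑ v : Fin 2 → Fin 3, if perp x v then (1 : ℤ) else 0) = 3 + (if x = 0 then 6 else 0) := by decide +kernel

theorem nine_V {m : (Fin 2 → Fin 3) → ℕ} (hsum : ∑ lam, m lam = 78)
    (hd : ∀ v, v ≠ 0 → ∑ lam ∈ Finset.univ.filter (fun lam => perp lam v = true), m lam = 24) : m 0 = 6 := by
  have h := transform m (fun v => if v = 0 then 78 else 24) (fun v => by
    by_cases h : v = 0
    · subst h
      rw [if_pos rfl, ← hsum]
      exact Finset.sum_congr (Finset.filter_true_of_mem fun x _ => perp_zero).symm fun _ _ => rfl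
    · rw [if_neg h, hd v h]) _ _ coe9_ok
  simp only [add_mul, Finset.sum_add_distrib, sum_delta, ← Finset.mul_sum, ← Nat.cast_sum, hsum, one_mul] at h
  rw [Finset.sum_ite, Finset.sum_const, Finset.sum_const,
    show (Finset.univ.filter fun v : Fin 2 → Fin 3 => v = 0).card = 1 by decide +kernel,
    show (Finset.univ.filter fun v : Fin 2 → Fin 3 => ¬v = 0).card = 8 by decide +kernel] at h
  simp at h
  omega

end CfsgLib.Known.AltE6
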