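import Cfsg.Agent.Lib.Known.AltE6.W
import Cfsg.Agent.Lib.Lie.Rel.Order

/-!
# Indices of the split torus and its monomial group in type E6
-/

set_option autoImplicit false

namespace CfsgLib.Known.AltE6

open Cfsg.Lie (ChevalleyDatum chevE6)
open CfsgLib.Lie.Chev

theorem two_dvd_once {x : ℕ} (hx : 4 ∣ x - 1) (h1 : 1 ≤ x) : padicValNat 2 (x + 1) = 1 := by
  haveI : Fact (Nat.Prime 2) := ⟨Nat.prime_two⟩
  obtain ⟨k, hk⟩ := hx
  rw [show x + 1 = 2 * (2 * k + 1) by omega, padicValNat.mul (by norm_num) (by omega), padicValNat.self (by norm_num),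
    padicValNat.eq_zero_of_not_dvd (by omega)]

/-- Lifting the exponent. -/
theorem val_pow_sub_one {l Q : ℕ} [Fact l.Prime] (hQ : 1 < Q) (h : l ∣ Q - 1) (h2 : l = 2 → 4 ∣ Q - 1) {n : ℕ}
    (hn : n ≠ 0) : padicValNat l (Q ^ n - 1) = padicValNat l (Q - 1) + padicValNat l n := by
  have hl : l.Prime := Fact.out
  have hnQ : ¬ l ∣ Q := fun hd => hl.not_dvd_one (by
    have := Nat.dvd_sub hd h
    rwa [Nat.sub_sub_self hQ.le] at this)
  rcases hl.eq_two_or_odd' with rfl | hodd
  · have h4 := h2 rfl
    have h1n : 1 < Q ^ n := Nat.one_lt_pow hn hQ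
    have e := padicValNat.pow_two_sub_pow (x := Q) (y := 1) hQ h hnQ (n := 2 * n) (by omega) (by simp)
    rw [one_pow, two_dvd_once h4 hQ.le, padicValNat.mul (by norm_num) hn, padicValNat.self (by norm_num),
      show Q ^ (2 * n) - 1 = (Q ^ n + 1) * (Q ^ n - 1) by
        rw [← Nat.sq_sub_sq, one_pow, ← pow_mul, mul_comm n 2],
      padicValNat.mul (by omega) (by omega),
      two_dvd_once (h4.trans (by simpa using Nat.sub_dvd_pow_sub_pow Q 1 n)) h1n.le] at e
    omega
  · have e := padicValNat.pow_sub_pow (p := l) hodd (x := Q) (y := 1) hQ h hnQ hn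
    rwa [one_pow] at e

variable (F : Type*) [Field F] [Fintype F]

theorem index_HS_mul : (chevRel certE6 F).HS.index * (Fintype.card F - 1) ^ 6 =
    Fintype.card F ^ 36 * ([2, 5, 6, 8, 9, 12].map fun k => Fintype.card F ^ k - 1).prod := by
  haveI := (chevRel certE6 F).Finite_of_field
  have h := card_group certE6 F cmat_E6 smithE6 polyE6 rfl
  have h2 := card_HS_mul certE6 F cmat_E6 smithE6
  rw [← Subgroup.card_mul_index (chevRel certE6 F).HS, ← mul_assoc, h2, mul_comm] at h
  exact h

theorem val_index {l : ℕ} [Fact l.Prime] (h : l ∣ Fintype.card F - 1) (h2 : l = 2 → 4 ∣ Fintype.card F - 1) :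
    padicValNat l (chevRel certE6 F).HS.index = padicValNat l 51840 := by
  haveI := (chevRel certE6 F).Finite_of_field
  have hl : l.Prime := Fact.out
  have hQ : 1 < Fintype.card F := Fintype.one_lt_card
  have hnQ : ¬ l ∣ Fintype.card F := fun hd => hl.not_dvd_one (by
    have := Nat.dvd_sub hd h
    rwa [Nat.sub_sub_self hQ.le] at this)
  have hne : ∀ n, n ≠ 0 → Fintype.card F ^ n - 1 ≠ 0 := fun n hn => Nat.sub_ne_zero_of_lt (Nat.one_lt_pow hn hQ)
  have e := congrArg (padicValNat l) (index_HS_mul F)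
  rw [padicValNat.mul Subgroup.index_ne_zero_of_finite (pow_ne_zero _ (by omega)), padicValNat.pow,
    padicValNat.mul (pow_ne_zero _ (by omega)) (List.prod_ne_zero (by simp [(hne 2 (by norm_num)).symm, (hne 5 (by norm_num)).symm, (hne 6 (by norm_num)).symm, (hne 8 (by norm_num)).symm, (hne 9 (by norm_num)).symm, (hne 12 (by norm_num)).symm])),
    padicValNat.pow, padicValNat.eq_zero_of_not_dvd hnQ, mul_zero, zero_add] at e
  simp only [List.map_cons, List.map_nil, List.prod_cons, List.prod_nil, mul_one] at e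
  have v := fun n (hn : n ≠ 0) => val_pow_sub_one hQ h h2 hn
  rw [padicValNat.mul (hne 2 (by norm_num)) (by simp [hne]), padicValNat.mul (hne 5 (by norm_num)) (by simp [hne]),
    padicValNat.mul (hne 6 (by norm_num)) (by simp [hne]), padicValNat.mul (hne 8 (by norm_num)) (by simp [hne]),
    padicValNat.mul (hne 9 (by norm_num)) (hne 12 (by norm_num)), v 2 (by norm_num), v 5 (by norm_num),
    v 6 (by norm_num), v 8 (by norm_num), v 9 (by norm_num), v 12 (by norm_num)] at e
  rw [show (51840 : ℕ) = 2 * (5 * (6 * (8 * (9 * 12)))) from rfl, padicValNat.mul (by norm_num) (by norm_num),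
    padicValNat.mul (by norm_num) (by norm_num), padicValNat.mul (by norm_num) (by norm_num),
    padicValNat.mul (by norm_num) (by norm_num), padicValNat.mul (by norm_num) (by norm_num)]
  omega

theorem not_dvd_index_HS {l : ℕ} [Fact l.Prime] (h : l ∣ Fintype.card F - 1) (hl : ¬ l ∣ 51840) :
    ¬ l ∣ (chevRel certE6 F).HS.index := by
  haveI := (chevRel certE6 F).Finite_of_field
  intro hd
  have e := val_index F h (fun h2 => absurd (h2 ▸ (by norm_num : 2 ∣ 51840)) hl)
  rw [padicValNat.eq_zero_of_not_dvd hl] at e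
  rcases padicValNat.eq_zero_iff.1 e with h1 | h1 | h1
  · exact (Fact.out : l.Prime).ne_one h1
  · exact Subgroup.index_ne_zero_of_finite h1
  · exact h1 hd

theorem not_dvd_index_NS {l : ℕ} [Fact l.Prime] (h : l ∣ Fintype.card F - 1) (h2 : l = 2 → 4 ∣ Fintype.card F - 1) :
    ¬ l ∣ (chevRel certE6 F).NS.index := by
  haveI := (chevRel certE6 F).Finite_of_field
  intro hd
  have e := val_index F h h2
  rw [← Subgroup.relIndex_mul_index (chevRel certE6 F).HS_le_NS,
    show (chevRel certE6 F).HS.relIndex (chevRel certE6 F).NS = 51840 from card_WQ_E6 (chevRel certE6 F),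
    padicValNat.mul (by norm_num) Subgroup.index_ne_zero_of_finite, add_eq_left] at e
  rcases padicValNat.eq_zero_iff.1 e with h1 | h1 | h1
  · exact (Fact.out : l.Prime).ne_one h1
  · exact Subgroup.index_ne_zero_of_finite h1
  · exact h1 hd

end CfsgLib.Known.AltE6
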