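import Cfsg.Agent.Lib.Known.AltE6.W

/-!
# A Sylow subgroup for the prime three of the Weyl group of type E6
-/

set_option autoImplicit false
set_option maxRecDepth 20000

namespace CfsgLib.Known.AltE6

open Cfsg.Lie (chevE6)
open CfsgLib.Lie.Chev

/-- The words. -/
def w3Words : List (List ℕ) := [
  [], [5, 3, 4, 1, 3, 2, 1, 0], [3, 2, 1, 3, 4, 3, 2, 1],
  [3, 4, 5, 4, 3, 2, 1, 3, 4, 2, 1, 3, 0, 2, 1, 0],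
  [3, 2, 1, 3, 4, 5, 3, 2, 1, 3, 4, 1, 3, 2, 1, 0],
  [5, 3, 4, 2, 3, 0, 2, 1, 3, 4, 0, 2, 3, 0, 2, 1], [2, 1, 3, 4, 3, 2, 1, 3],
  [5, 4, 3, 2, 1, 3, 4, 5, 3, 4, 2, 3, 0, 2, 1, 3, 4, 2, 1, 3, 0, 2, 1, 0],
  [4, 3, 2, 1, 3, 4, 5, 4, 3, 2, 1, 3, 4, 2, 1, 3, 0, 2],
  [5, 3, 4, 2, 3, 0, 2, 1, 3, 4, 5, 2, 3, 0, 2, 1, 3, 4, 3, 2, 1, 0],
  [2, 1, 3, 4, 5, 3, 4, 2, 3, 2, 1, 0],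
  [3, 4, 5, 3, 4, 2, 3, 0, 2, 1, 3, 4, 2, 3, 0, 2, 1, 3, 0, 2],
  [3, 2, 1, 3, 4, 5, 1, 3, 4, 2, 3, 0, 2, 1, 3, 4, 0, 2, 3, 2, 1, 0],
  [5, 3, 0, 2, 1, 3, 4, 2, 3, 0, 2, 1, 3, 0],
  [3, 4, 5, 1, 3, 4, 2, 3, 0, 2, 1, 3, 4, 5, 3, 4, 2, 3, 0, 2, 1, 3, 4, 3, 2, 1, 3, 0, 2, 1],
  [5, 4, 3, 2, 1, 3, 4, 5, 4, 2, 3, 0, 2, 1, 3, 4, 2, 3, 0, 2, 1, 3, 2, 0],
  [5, 1, 3, 4, 2, 3, 0, 2, 1, 3, 4, 5, 4, 2, 3, 0, 2, 1, 3, 4, 2, 3, 0, 2],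
  [4, 5, 4, 3, 2, 1, 3, 4, 0, 2],
  [4, 5, 3, 4, 2, 3, 0, 2, 1, 3, 4, 5, 4, 3, 2, 1, 3, 4, 0, 2, 3, 2, 1, 0],
  [2, 3, 4, 5, 1, 3, 4, 2, 3, 0, 2, 1, 3, 4, 5, 4, 3, 0, 2, 1, 3, 4, 0, 2, 1, 0],
  [3, 0, 2, 1, 3, 4, 5, 2, 3, 4, 0, 2, 3, 0, 2, 1],
  [4, 3, 2, 1, 3, 4, 5, 4, 3, 0, 2, 1, 3, 4, 0, 2, 1, 3, 0, 2],
  [5, 3, 4, 2, 3, 0, 2, 1, 3, 4, 5, 1, 3, 4, 2, 3, 0, 2, 1, 3, 4, 3, 0, 2, 1, 3, 1, 0],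
  [2, 1, 3, 4, 5, 4, 3, 0, 2, 1, 3, 4, 0, 2, 3, 1], [3, 4, 5, 2, 3, 4, 0, 2, 1, 3, 2, 0],
  [3, 2, 1, 3, 4, 5, 2, 3, 0, 2, 1, 3, 4, 3, 2, 1, 3, 0],
  [2, 3, 4, 5, 1, 3, 4, 2, 3, 0, 2, 1, 3, 4, 5, 1, 3, 4, 2, 3, 0, 2, 1, 3, 4, 3, 0, 2, 1, 3],
  [4, 5, 1, 3, 4, 2, 3, 0, 2, 1, 3, 4, 5, 3, 0, 2, 1, 3, 4, 0, 2, 1, 3, 0, 2, 1],
  [3, 4, 5, 1, 3, 4, 2, 3, 0, 2, 1, 3, 4, 5, 4, 3, 2, 1, 3, 4, 2, 3, 0, 2, 1, 3, 2, 0],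
  [5, 4, 3, 2, 1, 3, 4, 5, 0, 2, 3, 4, 1, 3, 2, 0],
  [3, 4, 2, 3, 0, 2, 1, 3, 4, 5, 3, 4, 2, 3, 0, 2, 1, 3, 4, 2],
  [5, 1, 3, 4, 2, 3, 0, 2, 1, 3, 4, 5, 4, 3, 0, 2, 1, 3, 4, 0, 2, 3, 0, 2],
  [1, 3, 4, 5, 1, 3, 4, 2, 3, 0, 2, 1, 3, 4, 2, 0],
  [4, 5, 3, 4, 2, 3, 0, 2, 1, 3, 4, 5, 3, 2, 1, 3, 4, 3, 0, 2, 1, 3, 1, 0],
  [0, 2, 3, 4, 5, 1, 3, 4, 2, 3, 0, 2, 1, 3, 4, 5, 3, 2, 1, 3, 4, 3, 2, 1],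
  [5, 4, 2, 3, 0, 2, 1, 3, 4, 5, 2, 3, 0, 2, 1, 3, 4, 2, 1, 0],
  [2, 3, 4, 5, 2, 1, 3, 4, 3, 0, 2, 1, 3, 0, 2, 1],
  [1, 3, 4, 2, 3, 0, 2, 1, 3, 4, 5, 4, 3, 0, 2, 1],
  [4, 5, 3, 4, 2, 3, 0, 2, 1, 3, 4, 0, 2, 1, 3, 2],
  [3, 0, 2, 1, 3, 4, 5, 3, 2, 1, 3, 4, 3, 0, 2, 1, 3, 1],
  [4, 3, 2, 1, 3, 4, 5, 1, 3, 4, 0, 2, 3, 0, 2, 0],
  [5, 3, 4, 2, 3, 0, 2, 1, 3, 4, 5, 3, 2, 1, 3, 4, 3, 2, 1, 3, 2, 0],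
  [2, 1, 3, 4, 5, 0, 2, 3, 4, 3, 0, 2, 1, 3, 1, 0],
  [0, 2, 3, 4, 5, 1, 3, 4, 2, 3, 0, 2, 1, 3, 4, 5, 2, 1, 3, 4, 3, 2, 1, 3],
  [5, 4, 2, 3, 0, 2, 1, 3, 4, 5, 1, 3, 4, 2, 3, 0, 2, 1, 3, 4, 1, 3],
  [1, 3, 4, 2, 3, 0, 2, 1, 3, 4, 5, 0, 2, 1, 3, 4, 3, 2, 1, 3, 2, 1],
  [5, 4, 3, 0, 2, 1, 3, 4, 5, 3, 0, 2, 1, 3, 4, 3, 2, 1, 3, 0, 2, 1],
  [2, 3, 4, 5, 1, 3, 4, 2, 3, 0, 2, 1, 3, 4, 5, 1, 3, 4, 2, 3, 2, 0],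
  [4, 5, 1, 3, 4, 2, 3, 0, 2, 1, 3, 4, 5, 1, 3, 4, 2, 3, 0, 2, 1, 3],
  [3, 4, 5, 1, 3, 4, 2, 3, 0, 2, 1, 3, 4, 5, 2, 3, 4, 1, 3, 0, 2, 0],
  [4, 2, 3, 0, 2, 1, 3, 4, 5, 4, 3, 2, 1, 3, 4, 3, 2, 1],
  [3, 4, 2, 3, 0, 2, 1, 3, 4, 5, 2, 3, 0, 2, 1, 3, 4, 0, 2, 3],
  [5, 1, 3, 4, 2, 3, 0, 2, 1, 3, 4, 5, 0, 2, 1, 3, 4, 2, 3, 0, 2, 0],
  [1, 3, 4, 5, 3, 4, 2, 3, 0, 2, 1, 3, 4, 2, 3, 0],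
  [4, 5, 3, 4, 2, 3, 0, 2, 1, 3, 4, 5, 1, 3, 4, 0, 2, 1, 3, 2, 1, 0],
  [4, 3, 0, 2, 1, 3, 4, 5, 3, 0, 2, 1, 3, 4, 3, 1],
  [2, 3, 4, 5, 1, 3, 4, 2, 3, 0, 2, 1, 3, 0, 2, 1],
  [2, 3, 0, 2, 1, 3, 4, 5, 0, 2, 3, 4, 1, 3, 0, 2], [0, 2, 1, 3, 4, 5, 2, 3, 4, 3, 2, 1],
  [4, 5, 2, 3, 4, 0, 2, 3, 2, 0], [3, 0, 2, 1, 3, 4, 5, 3, 0, 2, 1, 3, 1, 0],
  [4, 2, 3, 0, 2, 1, 3, 4, 5, 2, 1, 3, 4, 2, 1, 3],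
  [0, 2, 3, 4, 5, 1, 3, 4, 2, 3, 0, 2, 1, 3, 4, 5],
  [4, 3, 0, 2, 1, 3, 4, 5, 0, 2, 1, 3, 4, 1, 3, 1],
  [2, 3, 0, 2, 1, 3, 4, 5, 2, 3, 4, 0, 2, 1, 3, 2],
  [0, 2, 1, 3, 4, 5, 3, 2, 1, 3, 4, 3, 2, 1, 3, 1],
  [5, 4, 2, 3, 0, 2, 1, 3, 4, 5, 3, 2, 1, 3, 4, 2, 3, 0],
  [1, 3, 4, 2, 3, 0, 2, 1, 3, 4, 5, 3, 0, 2, 1, 3],
  [5, 4, 3, 0, 2, 1, 3, 4, 5, 3, 2, 1, 3, 4, 2, 3, 0, 2, 1, 3, 0, 2],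
  [4, 5, 1, 3, 4, 2, 3, 0, 2, 1, 3, 4, 5, 2, 1, 3, 0, 2, 1, 0],
  [0, 2, 3, 4, 5, 4, 2, 3, 0, 2, 1, 3, 4, 1, 3, 2],
  [3, 4, 2, 3, 0, 2, 1, 3, 4, 5, 0, 2, 3, 4, 2, 0], [1, 3, 4, 5, 4, 3, 0, 2, 1, 3, 4, 3, 2, 0],
  [2, 3, 4, 5, 4, 3, 0, 2, 1, 3, 0, 2, 1, 0], [0, 2, 1, 3, 4, 5, 1, 3],
  [0, 2, 3, 4, 5, 2, 1, 3, 4, 0, 2, 3], [4, 2, 3, 0, 2, 1, 3, 4, 5, 4],
  [4, 3, 0, 2, 1, 3, 4, 5, 1, 3, 4, 3, 1, 0], [2, 3, 0, 2, 1, 3, 4, 5, 4, 2, 1, 3, 0, 2],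
  [5, 4, 3, 0, 2, 1, 3, 4, 5, 3, 4, 3, 2, 1, 3, 0, 2, 0], [0, 2, 3, 4, 5, 2, 3, 4, 0, 2]]

/-- The generators. -/
def w3Gens : List (List ℕ) := [
  [5, 3, 4, 1, 3, 2, 1, 0], [3, 2, 1, 3, 4, 3, 2, 1]]

/-- The left multiplications. -/
def w3Next : List (List ℕ) := [
  [1, 2], [3, 4], [5, 6], [7, 8], [9, 10], [11, 12], [13, 0], [14, 15], [16, 17], [18, 19], [20, 1],
  [15, 21], [22, 23], [24, 25], [26, 27], [28, 29], [30, 31], [32, 3], [27, 33], [34, 35], [36, 37],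
  [31, 38], [33, 26], [39, 5], [29, 40], [41, 42], [43, 44], [45, 46], [47, 48], [49, 7], [44, 50],
  [51, 52], [12, 53], [48, 54], [50, 43], [55, 9], [46, 56], [57, 58], [53, 11], [56, 45], [52, 59],
  [54, 47], [60, 13], [61, 62], [63, 22], [64, 65], [21, 14], [62, 66], [67, 68], [19, 69],
  [65, 70], [66, 61], [71, 16], [25, 72], [69, 18], [23, 63], [68, 73], [70, 64], [2, 20], [72, 24],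
  [73, 67], [74, 75], [76, 34], [42, 77], [75, 78], [6, 39], [77, 41], [78, 74], [40, 28], [37, 79],
  [38, 30], [35, 76], [4, 32], [79, 36], [0, 60], [59, 51], [58, 80], [10, 55], [80, 57], [8, 49],
  [17, 71]]

/-- The spanning tree. -/
def w3Par : List (ℕ × ℕ) := [
  (0, 0), (0, 0), (0, 1), (1, 0), (1, 1), (2, 0), (2, 1), (3, 0), (3, 1), (4, 0), (4, 1), (5, 0),
  (5, 1), (6, 0), (7, 0), (7, 1), (8, 0), (8, 1), (9, 0), (9, 1), (10, 0), (11, 1), (12, 0),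
  (12, 1), (13, 0), (13, 1), (14, 0), (14, 1), (15, 0), (15, 1), (16, 0), (16, 1), (17, 0), (18, 1),
  (19, 0), (19, 1), (20, 0), (20, 1), (21, 1), (23, 0), (24, 1), (25, 0), (25, 1), (26, 0), (26, 1),
  (27, 0), (27, 1), (28, 0), (28, 1), (29, 0), (30, 1), (31, 0), (31, 1), (32, 1), (33, 1), (35, 0),
  (36, 1), (37, 0), (37, 1), (40, 1), (42, 0), (43, 0), (43, 1), (44, 0), (45, 0), (45, 1), (47, 1),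
  (48, 0), (48, 1), (49, 1), (50, 1), (52, 0), (53, 1), (56, 1), (61, 0), (61, 1), (62, 0), (63, 1),
  (64, 1), (69, 1), (76, 1)]

/-- The table. -/
def threeT : Table chevE6 auxE6 81 2 where
  wd i := w3Words.getD i []
  gn j := w3Gens.getD j []
  nx i j := ⟨(w3Next.getD i []).getD j 0 % 81, Nat.mod_lt _ (by norm_num)⟩
  par i := (⟨(w3Par.getD i (0, 0)).1 % 81, Nat.mod_lt _ (by norm_num)⟩, ⟨(w3Par.getD i (0, 0)).2 % 2, Nat.mod_lt _ (by norm_num)⟩)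

theorem threeT_ok : threeT.OK := ⟨by decide +kernel, by decide +kernel, by norm_num, by decide +kernel⟩

/-- The elements of order dividing three with projections onto their fixed lattices. -/
def w3Proj : List (ℕ × List (List ℤ)) := [

  (0, [[1, 0, 0, 0, 0, 0], [0, 1, 0, 0, 0, 0], [0, 0, 1, 0, 0, 0], [0, 0, 0, 1, 0, 0], [0, 0, 0, 0, 1, 0], [0, 0, 0, 0, 0, 1]]),
  (2, [[0, 0, 0, 0, 0, 0], [0, 0, 0, 0, 0, 0], [0, -1, 1, 0, 0, 0], [1, 2, 0, 1, 0, 0], [0, -1, 0, 0, 1, 0], [-1, 0, 0, 0, 0, 1]]),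
  (6, [[0, 0, 0, 0, 0, 0], [0, 0, 0, 0, 0, 0], [0, -1, 1, 0, 0, 0], [1, 2, 0, 1, 0, 0], [0, -1, 0, 0, 1, 0], [-1, 0, 0, 0, 0, 1]]),
  (7, [[0, 0, 0, 0, 0, 0], [0, 0, 0, 0, 0, 0], [0, 0, 0, 0, 0, 0], [0, 0, 0, 0, 0, 0], [0, 0, 0, 0, 0, 0], [0, 0, 0, 0, 0, 0]]),
  (8, [[0, 0, 0, 0, 0, 0], [0, 0, 0, 0, 0, 0], [0, 0, 0, 0, 0, 0], [0, 0, 0, 0, 0, 0], [1, 1, 1, 2, 1, 0], [0, 0, 0, 0, 0, 1]]),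
  (9, [[0, 0, 0, 0, 0, 0], [0, 0, 0, 0, 0, 0], [0, 0, 1, 0, 0, 0], [0, 0, 0, 0, 0, 0], [0, 0, 0, 1, 1, 0], [0, 0, 0, 0, 0, 0]]),
  (10, [[0, 0, 0, 0, 0, 0], [0, 0, 0, 0, 0, 0], [0, 0, 0, 0, 0, 0], [0, 0, 0, 0, 0, 0], [1, 1, 2, 2, 1, 0], [-1, -1, -2, -1, 0, 1]]),
  (11, [[1, 0, 0, 0, 0, 0], [0, 0, 0, 0, 0, 0], [0, 0, 0, 0, 0, 0], [0, 0, 0, 0, 0, 0], [0, 0, 0, 0, 0, 0], [0, 1, 1, 1, 1, 1]]),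
  (12, [[0, 0, 0, 0, 0, 0], [0, 0, 0, 0, 0, 0], [0, 0, 0, 0, 0, 0], [1, 0, 1, 1, 0, 0], [0, 0, 0, 0, 0, 0], [0, 0, 0, 0, 1, 1]]),
  (13, [[0, 0, 0, 0, 0, 0], [0, 0, 0, 0, 0, 0], [1, 0, 1, 0, 0, 0], [0, 0, 0, 0, 0, 0], [0, 0, 0, 0, 0, 0], [-1, 1, 0, 2, 2, 1]]),
  (15, [[0, 0, 0, 0, 0, 0], [0, 0, 0, 0, 0, 0], [0, 0, 0, 0, 0, 0], [0, 0, 0, 0, 0, 0], [0, 0, 0, 0, 0, 0], [0, 0, 0, 0, 0, 0]]),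
  (16, [[0, 0, 0, 0, 0, 0], [0, 0, 0, 0, 0, 0], [0, 0, 0, 0, 0, 0], [0, 0, 0, 0, 0, 0], [0, 0, 0, 0, 0, 0], [0, 0, 0, 0, 0, 0]]),
  (18, [[0, 0, 0, 0, 0, 0], [0, 0, 0, 0, 0, 0], [0, 0, 0, 0, 0, 0], [0, 0, 0, 0, 0, 0], [0, 0, 0, 0, 0, 0], [0, 0, 0, 0, 0, 0]]),
  (29, [[0, 0, 0, 0, 0, 0], [0, 0, 0, 0, 0, 0], [0, 0, 0, 0, 0, 0], [0, 0, 0, 1, 0, 0], [0, 1, 1, 0, 1, 0], [0, 0, 0, 0, 0, 0]]),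
  (31, [[0, 0, 0, 0, 0, 0], [0, 0, 0, 0, 0, 0], [0, 0, 0, 0, 0, 0], [0, 0, 0, 0, 0, 0], [0, 0, 0, 0, 0, 0], [0, 0, 0, 0, 0, 0]]),
  (32, [[0, 0, 0, 0, 0, 0], [0, 0, 0, 0, 0, 0], [0, 0, 0, 0, 0, 0], [1, 1, 1, 1, 0, 0], [0, 0, 0, 0, 0, 0], [-1, -1, 0, 0, 1, 1]]),
  (33, [[0, 0, 0, 0, 0, 0], [0, 0, 0, 0, 0, 0], [0, 0, 0, 0, 0, 0], [0, 0, 0, 0, 0, 0], [0, 0, 0, 0, 0, 0], [0, 0, 0, 0, 0, 0]]),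
  (34, [[0, 0, 0, 0, 0, 0], [0, 0, 0, 0, 0, 0], [0, 0, 0, 0, 0, 0], [0, 0, 0, 0, 0, 0], [0, 0, 0, 0, 0, 0], [0, 0, 0, 0, 0, 0]]),
  (36, [[0, 0, 0, 0, 0, 0], [0, 0, 0, 0, 0, 0], [0, 0, 0, 0, 0, 0], [0, 0, 0, 0, 0, 0], [1, 0, 1, 1, 1, 0], [-1, 1, -1, 0, 0, 1]]),
  (43, [[0, 0, 0, 0, 0, 0], [0, 0, 0, 0, 0, 0], [0, 0, 0, 0, 0, 0], [0, 0, 0, 0, 0, 0], [0, 0, 0, 0, 0, 0], [0, 0, 0, 0, 0, 0]]),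
  (44, [[0, 0, 0, 0, 0, 0], [0, 1, 0, 0, 0, 0], [0, 0, 0, 0, 0, 0], [0, 0, 1, 1, 0, 0], [0, 0, 0, 0, 0, 0], [0, 0, 0, 0, 0, 0]]),
  (45, [[0, 0, 0, 0, 0, 0], [0, 0, 0, 0, 0, 0], [1, 0, 1, 1, 0, 0], [0, 0, 0, 0, 0, 0], [0, 0, 0, 0, 0, 0], [0, 0, 0, 0, 1, 1]]),
  (46, [[0, 0, 0, 0, 0, 0], [0, 0, 0, 0, 0, 0], [0, 0, 0, 0, 0, 0], [0, 1, 0, 1, 0, 0], [0, 0, 0, 0, 1, 0], [0, 0, 0, 0, 0, 0]]),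
  (47, [[0, 0, 0, 0, 0, 0], [0, 0, 0, 0, 0, 0], [0, 0, 0, 0, 0, 0], [0, 1, 0, 1, 0, 0], [0, 0, 0, 0, 1, 0], [0, 0, 0, 0, 0, 0]]),
  (48, [[0, 0, 0, 0, 0, 0], [0, 0, 0, 0, 0, 0], [0, 0, 1, 0, 0, 0], [0, 0, 0, 0, 0, 0], [0, 0, 0, 1, 1, 0], [0, 0, 0, 0, 0, 0]]),
  (49, [[0, 0, 0, 0, 0, 0], [0, 1, 0, 0, 0, 0], [0, 0, 0, 0, 0, 0], [0, 0, 1, 1, 0, 0], [0, 0, 0, 0, 0, 0], [0, 0, 0, 0, 0, 0]]),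
  (50, [[0, 0, 0, 0, 0, 0], [0, 0, 0, 0, 0, 0], [0, 0, 0, 0, 0, 0], [0, 0, 0, 0, 0, 0], [1, 1, 1, 2, 1, 0], [0, 0, 0, 0, 0, 1]]),
  (51, [[1, 0, 0, 0, 0, 0], [0, 0, 0, 0, 0, 0], [0, 0, 0, 0, 0, 0], [0, 0, 0, 0, 0, 0], [0, 0, 0, 0, 0, 0], [0, 1, 1, 1, 1, 1]]),
  (52, [[0, 0, 0, 0, 0, 0], [0, 0, 0, 0, 0, 0], [0, 1, 1, 0, 1, 0], [0, 0, 0, 1, 0, 0], [0, 0, 0, 0, 0, 0], [0, 0, 0, 0, 0, 0]]),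
  (53, [[0, 0, 0, 0, 0, 0], [0, 0, 0, 0, 0, 0], [0, 0, 0, 0, 0, 0], [1, 1, 1, 1, 0, 0], [0, 0, 0, 0, 0, 0], [-1, -1, 0, 0, 1, 1]]),
  (54, [[0, 0, 0, 0, 0, 0], [0, 0, 0, 0, 0, 0], [0, 0, 0, 0, 0, 0], [0, 0, 0, 1, 0, 0], [0, 1, 1, 0, 1, 0], [0, 0, 0, 0, 0, 0]]),
  (55, [[0, 0, 0, 0, 0, 0], [0, 0, 0, 0, 0, 0], [0, 0, 0, 0, 0, 0], [1, 1, 1, 1, 0, 0], [0, 0, 0, 0, 0, 0], [-1, -1, 0, 0, 1, 1]]),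
  (56, [[0, 0, 0, 0, 0, 0], [0, 0, 0, 0, 0, 0], [0, 0, 0, 0, 0, 0], [0, 0, 0, 0, 0, 0], [1, 0, 1, 1, 1, 0], [-1, 1, -1, 0, 0, 1]]),
  (57, [[0, 0, 0, 0, 0, 0], [0, 0, 0, 0, 0, 0], [0, 0, 0, 0, 0, 0], [0, 0, 0, 0, 0, 0], [1, 0, 1, 1, 1, 0], [-1, 1, -1, 0, 0, 1]]),
  (58, [[0, 0, 0, 0, 0, 0], [1, 1, 2, 2, 1, 0], [0, 0, 0, 0, 0, 0], [0, 0, 0, 0, 0, 0], [0, 0, 0, 0, 0, 0], [0, 0, 0, 1, 1, 1]]),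
  (59, [[0, 0, 0, 0, 0, 0], [1, 1, 1, 1, 1, 0], [0, 0, 0, 0, 0, 0], [0, 0, 0, 0, 0, 0], [0, 0, 0, 0, 0, 0], [-1, 0, 0, 1, 0, 1]]),
  (60, [[0, 0, 0, 0, 0, 0], [-1, 1, 0, 2, 2, 1], [1, 0, 1, 0, 0, 0], [0, 0, 0, 0, 0, 0], [0, 0, 0, 0, 0, 0], [0, 0, 0, 0, 0, 0]]),
  (62, [[0, 0, 0, 0, 0, 0], [0, 0, 0, 0, 0, 0], [0, 0, 0, 0, 0, 0], [0, 0, 0, 1, 0, 0], [0, 1, 1, 0, 1, 0], [0, 0, 0, 0, 0, 0]]),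
  (63, [[0, 0, 0, 0, 0, 0], [0, 0, 0, 0, 0, 0], [0, 0, 0, 0, 0, 0], [1, 1, 1, 1, 0, 0], [0, 0, 0, 0, 0, 0], [-1, -1, 0, 0, 1, 1]]),
  (64, [[0, 0, 0, 0, 0, 0], [0, 0, 0, 0, 0, 0], [0, 0, 0, 0, 0, 0], [0, 0, 0, 0, 0, 0], [1, 0, 1, 1, 1, 0], [-1, 1, -1, 0, 0, 1]]),
  (72, [[0, 0, 0, 0, 0, 0], [0, 0, 0, 0, 0, 0], [1, 1, 1, 0, 0, 0], [0, 0, 0, 1, 0, 0], [-1, 0, 0, 0, 1, 0], [0, -1, 0, 0, 0, 1]]),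
  (73, [[0, 0, 0, 0, 0, 0], [-1, 1, 0, 0, 0, 0], [0, 0, 0, 0, 0, 0], [0, 0, 0, 1, 0, 0], [1, 0, 1, 0, 1, 0], [0, 0, -1, 0, 0, 1]]),
  (77, [[0, 0, 0, 0, 0, 0], [0, 0, 0, 0, 0, 0], [1, 1, 1, 0, 0, 0], [0, 0, 0, 1, 0, 0], [-1, 0, 0, 0, 1, 0], [0, -1, 0, 0, 0, 1]]),
  (78, [[1, -1, 0, 0, 0, 0], [0, 0, 0, 0, 0, 0], [0, 0, 0, 0, 0, 0], [0, 0, 0, 1, 0, 0], [0, 1, 1, 0, 1, 0], [0, 0, -1, 0, 0, 1]]),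
  (80, [[0, 0, 0, 0, 0, 0], [0, 0, 0, 0, 0, 0], [1, 1, 1, 1, 1, 0], [0, 0, 0, 0, 0, 0], [0, 0, 0, 0, 0, 0], [-1, 0, 0, 1, 0, 1]])]

theorem w3Proj_cover : ∀ i : Fin 81,
    keyW chevE6 auxE6 (threeT.wd i ++ threeT.wd i ++ threeT.wd i) = keyW chevE6 auxE6 [] →
      (i : ℕ) ∈ w3Proj.map Prod.fst := by decide +kernel

theorem threeT_nine : ∃ j : Fin 2, keyW chevE6 auxE6 (threeT.gn j ++ threeT.gn j ++ threeT.gn j) ≠ keyW chevE6 auxE6 [] :=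
  ⟨0, by decide +kernel⟩

/-- The action of a word on the roots. -/
def actW (l : List ℕ) (r : ℕ) : ℕ := wordAct auxE6 ((fins chevE6 l).map fun j : Fin chevE6.rank => (j : ℕ)) r

/-- The coordinates of a root as a list. -/
def crd (s : ℕ) : List ℤ := (List.range 6).map fun j => auxE6.coef j s

/-- A product of a row and a column. -/
def dot6 (a b : List ℤ) : ℤ := (List.zipWith (· * ·) a b).sum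

/-- A combination of rows. -/
def rowC (v : List ℤ) (M : List (List ℤ)) : List ℤ :=
  (List.range 6).map fun j => dot6 v (M.map fun row => row.getD j 0)

/-- The vectors modulo three. -/
def vecs3 : ℕ → List (List ℤ)
  | 0 => [[]]
  | n + 1 => (vecs3 n).flatMap fun v => [0 :: v, 1 :: v, 2 :: v]

/-- The fixed roots. -/
def fixR (l : List ℕ) : List ℕ := (List.range 72).filter fun r => actW l r == r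

/-- The least members of the moved orbits. -/
def minR (l : List ℕ) : List ℕ :=
  (List.range 72).filter fun r => Nat.blt r (actW l r) && Nat.blt r (actW l (actW l r))

/-- The sum of the orbit of a simple root. -/
def normRow (l : List ℕ) (j : ℕ) : List ℤ :=
  List.zipWith (· + ·) (crd (chevE6.simple j))
    (List.zipWith (· + ·) (crd (actW l (chevE6.simple j))) (crd (actW l (actW l (chevE6.simple j)))))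

/-- Three times the dimension of the fixed points on the Cartan algebra. -/
def traceSum (l : List ℕ) : ℤ :=
  6 + ((List.range 6).map fun i => auxE6.coef i (actW l (chevE6.simple i))).sum +
    ((List.range 6).map fun i => auxE6.coef i (actW l (actW l (chevE6.simple i)))).sum

/-- The projection fixes the fixed roots and the orbit sums, and its rows are fixed. -/
def chkProj (l : List ℕ) (P : List (List ℤ)) : Bool :=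
  ((fixR l).all fun r => rowC (crd r) P == crd r) &&
  ((List.range 6).all fun j => rowC (normRow l j) P == normRow l j) &&
  (List.range 6).all fun j =>
    rowC (P.getD j []) ((List.range 6).map fun i => crd (actW l (chevE6.simple i))) == P.getD j []

/-- The dimensions of the fixed points of the elements of order three over the word. -/
def chkDims (l : List ℕ) : Bool :=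
  decide (0 ≤ traceSum l) && decide (traceSum l ≤ 18) && decide (traceSum l % 3 = 0) &&
  (vecs3 6).all fun e =>
    !((List.range 6).all fun j => decide (dot6 (normRow l j) e % 3 = 0)) ||
      (([24, 28, 30, 36, 46] : List ℕ).contains ((traceSum l / 3).toNat + (minR l).length +
        ((fixR l).countP fun r => decide (dot6 (crd r) e % 3 = 0)))) ||
      ((fixR l).length == 72 && e == [0, 0, 0, 0, 0, 0])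

theorem w3Proj_ok : w3Proj.all (fun p => chkProj (w3Words.getD p.1 []) p.2 && chkDims (w3Words.getD p.1 [])) = true := by
  decide +kernel

end CfsgLib.Known.AltE6
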