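import Cfsg.Agent.Lib.Known.AltE6.TwoData
import Cfsg.Agent.Lib.Known.AltE6.ThreeData
import Cfsg.Agent.Lib.Known.AltE6.Index
import Cfsg.Agent.Lib.Known.AltTorus.Lift

/-!
# Elementary abelian quotients of prime power subgroups of the monomial group of type E6
-/

set_option autoImplicit false

namespace CfsgLib.Known.AltE6

open Cfsg.Lie (ChevalleyDatum chevE6)
open CfsgLib.Lie.Chev

theorem card_ker_pow {X : Type*} [CommGroup X] [Finite X] (l : ℕ) :
    Nat.card (powMonoidHom l : X →* X).ker = (powMonoidHom l : X →* X).range.index := by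
  have h1 := (powMonoidHom l : X →* X).range.card_mul_index
  have h2 : Nat.card (powMonoidHom l : X →* X).ker * (powMonoidHom l : X →* X).ker.index = Nat.card X :=
    Subgroup.card_mul_index _
  rw [Subgroup.index_ker] at h2
  exact Nat.eq_of_mul_eq_mul_right Nat.card_pos (h2.trans (h1.symm.trans (mul_comm _ _)))

theorem card_torsion_le {A B : Type*} [CommGroup A] [CommGroup B] [Finite A] (l : ℕ) (f : A →* B)
    (hf : Function.Surjective f) :
    Nat.card (powMonoidHom l : B →* B).ker ≤ Nat.card (powMonoidHom l : A →* A).ker := by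
  haveI : Finite B := Finite.of_surjective f hf
  rw [card_ker_pow, card_ker_pow]
  refine Nat.le_of_dvd (Nat.pos_of_ne_zero Subgroup.index_ne_zero_of_finite) ?_
  have h : (powMonoidHom l : A →* A).range.map f = (powMonoidHom l : B →* B).range := by
    refine le_antisymm ?_ ?_
    · rintro _ ⟨_, ⟨a, rfl⟩, rfl⟩
      exact ⟨f a, by simp⟩
    · rintro _ ⟨b, rfl⟩
      obtain ⟨a, rfl⟩ := hf b
      exact ⟨_, ⟨a, rfl⟩, by simp⟩
  rw [← h]
  exact Subgroup.index_map_dvd _ hf

variable {F : Type*} [Field F] {G : Type*} [Group G] (R : Rel chevE6 auxE6 F G)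

/-- The torus has at most `l ^ 6` elements killed by `l`. -/
theorem card_HS_torsion [Fintype F] (l : ℕ) [NeZero l] :
    Nat.card {t : ↥R.HS // t ^ l = 1} ≤ l ^ 6 := by
  classical
  letI := R.hsCommGroup
  haveI : Finite ↥R.HS := Finite.of_surjective R.torusHom R.torusHom_surjective
  refine le_trans (card_torsion_le l R.torusHom R.torusHom_surjective) ?_
  refine (Nat.card_le_card_of_injective
    (fun c i => (⟨c.1 i, by rw [mem_rootsOfUnity]; exact congrFun (MonoidHom.mem_ker.1 c.2) i⟩ : rootsOfUnity l F))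
    fun a b e => Subtype.ext (funext fun i => congrArg Subtype.val (congrFun e i))).trans ?_
  rw [Nat.card_fun, Nat.card_eq_fintype_card (α := Fin _), Fintype.card_fin]
  exact Nat.pow_le_pow_left (card_rootsOfUnity F l) 6

section Quot

variable [Finite R.WQ] {l : ℕ} [Fact l.Prime] {P : Subgroup R.WQ} (hP : IsPGroup l P)

include hP in
theorem exists_card_P : ∃ k, Nat.card ↥P = l ^ k ∧ l ^ k ∣ 51840 := by
  obtain ⟨k, hk⟩ := IsPGroup.iff_card.1 hP
  exact ⟨k, hk, hk ▸ card_WQ_E6 R ▸ Subgroup.card_subgroup_dvd_card P⟩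

include hP in
theorem quot_big (hl : 5 ≤ l) (Rs : Subgroup ↥P) : Rs.index ≤ l := by
  have hp : l.Prime := Fact.out
  obtain ⟨k, hk, hd⟩ := exists_card_P R hP
  have hk1 : k ≤ 1 := by
    by_contra hk1
    have h2 : l ^ 2 ∣ 51840 := (pow_dvd_pow l (by omega)).trans hd
    have hle : l ≤ 227 := by
      have := Nat.le_of_dvd (by norm_num) h2
      nlinarith
    interval_cases l <;> first | (exfalso; revert h2; decide +kernel) | (exfalso; revert hp; decide +kernel)
  have h1 := Nat.le_of_dvd (by rw [hk]; exact pow_pos hp.pos k) Rs.index_dvd_card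
  rw [hk] at h1
  exact h1.trans ((Nat.pow_le_pow_right hp.pos hk1).trans (pow_one l).le)

end Quot

theorem quot_three [Finite R.WQ] {P : Subgroup R.WQ} (hP : IsPGroup 3 P) (Rs : Subgroup ↥P)
    (hpow : ∀ x : ↥P, x ^ 3 ∈ Rs) : Rs.index ≤ 27 := by
  haveI : Fact (Nat.Prime 3) := ⟨Nat.prime_three⟩
  obtain ⟨k, hk, hd⟩ := exists_card_P R hP
  obtain ⟨n, hn⟩ := hP.index Rs
  have hnk : n ≤ k := (Nat.pow_dvd_pow_iff_le_right (by norm_num : 1 < 3)).1 (hn ▸ hk ▸ Rs.index_dvd_card)
  have hk4 : k ≤ 4 := by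
    by_contra hc
    exact absurd ((pow_dvd_pow 3 (by omega : 5 ≤ k)).trans hd) (by norm_num)
  by_contra hc
  have hn4 : n = 4 := by
    by_contra hne
    have : (3 : ℕ) ^ n ≤ 3 ^ 3 := Nat.pow_le_pow_right (by norm_num) (by omega)
    omega
  have hk4' : k = 4 := by omega
  have hbot : Rs = ⊥ := by
    refine Subgroup.eq_bot_of_card_eq _ ?_
    have h := Rs.card_mul_index
    rw [hn, hk, hk4', hn4] at h
    omega
  obtain ⟨g, hg⟩ := threeT_ok.conj_into R (p := 3) (N := 640) (card_WQ_E6 R) (by norm_num) hP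
  have heq : P.map (MulAut.conj g).toMonoidHom = threeT.sub R := by
    refine Subgroup.eq_of_le_of_card_ge ?_ ?_
    · rintro _ ⟨s, hs, rfl⟩; exact hg s hs
    · rw [threeT_ok.card, Subgroup.card_map_of_injective (MulAut.conj g).injective, hk, hk4']; norm_num
  obtain ⟨j, hj⟩ := threeT_nine
  refine hj ?_
  obtain ⟨x, hx, e⟩ : wq R (threeT.gn j) ∈ P.map (MulAut.conj g).toMonoidHom :=
    heq ▸ Subgroup.subset_closure ⟨j, rfl⟩
  have hx3 := hpow ⟨x, hx⟩
  rw [hbot, Subgroup.mem_bot] at hx3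
  have h3 : wq R (threeT.gn j) ^ 3 = 1 := by
    rw [← e, ← map_pow, show x ^ 3 = 1 from congrArg Subtype.val hx3, map_one]
  rw [← key_wq R, ← key_wq R, wq_append, wq_append, wq_nil, ← h3, pow_succ, pow_two]

theorem quot_two [Finite R.WQ] {P : Subgroup R.WQ} (hP : IsPGroup 2 P) (hPT : P ≤ twoT.sub R) (Rs : Subgroup ↥P)
    (hpow : ∀ x : ↥P, x ^ 2 ∈ Rs) (hcomm : ∀ x y : ↥P, x * y * x⁻¹ * y⁻¹ ∈ Rs) : Rs.index ≤ 16 := by
  classical
  haveI : Fact (Nat.Prime 2) := ⟨Nat.prime_two⟩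
  obtain ⟨n, hn⟩ := hP.index Rs
  obtain ⟨k, hk⟩ := IsPGroup.iff_card.1 hP
  have hnk : n ≤ k := (Nat.pow_dvd_pow_iff_le_right (by norm_num : 1 < 2)).1 (hn ▸ hk ▸ Rs.index_dvd_card)
  have hk7 : k ≤ 7 := by
    refine (Nat.pow_dvd_pow_iff_le_right (by norm_num : 1 < 2)).1 ?_
    rw [← hk]
    exact (Subgroup.card_dvd_of_le hPT).trans (twoT_ok.card R).dvd
  by_contra hc
  have hn5 : 5 ≤ n := by
    by_contra hne
    have : (2 : ℕ) ^ n ≤ 2 ^ 4 := Nat.pow_le_pow_right (by norm_num) (by omega)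
    omega
  have hRs : Nat.card Rs * 2 ^ n = 2 ^ k := by rw [← hn, ← hk]; exact Rs.card_mul_index
  obtain ⟨J, hJ⟩ : ∃ J : Finset (Fin 128), J = Finset.univ.filter fun i => wq R (twoT.wd i) ∈ P := ⟨_, rfl⟩
  -- the squares lie in `Rs`
  have hsq : ∀ L : List ℕ, (∀ i ∈ L, i < 128 ∧ wq R (w2Words.getD i []) ∈ P) →
      (L.map fun i => w2Sq.getD i 0).toFinset.card ≤ Nat.card Rs := by
    intro L hL
    have hmem : ∀ a ∈ (L.map fun i => w2Sq.getD i 0).toFinset, a < 128 ∧ ∃ h : wq R (w2Words.getD a []) ∈ P,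
        (⟨_, h⟩ : ↥P) ∈ Rs := by
      intro a ha
      obtain ⟨i, hi, rfl⟩ := List.mem_map.1 (List.mem_toFinset.1 ha)
      obtain ⟨hlt, hkey⟩ := w2Sq_ok ⟨i, (hL i hi).1⟩
      have e : wq R (w2Words.getD i []) * wq R (w2Words.getD i []) = wq R (w2Words.getD (w2Sq.getD i 0) []) := by
        rw [← wq_append]; exact wq_eq R hkey
      refine ⟨hlt, e ▸ mul_mem (hL i hi).2 (hL i hi).2, ?_⟩
      convert hpow ⟨_, (hL i hi).2⟩ using 1
      exact Subtype.ext (e.symm.trans (pow_two _).symm)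
    rw [← Nat.card_eq_finsetCard]
    refine Nat.card_le_card_of_injective (fun a => (⟨⟨_, (hmem a.1 a.2).2.1⟩, (hmem a.1 a.2).2.2⟩ : Rs))
      fun a b e => Subtype.ext ?_
    have e' : wq R (twoT.wd ⟨a.1, (hmem a.1 a.2).1⟩) = wq R (twoT.wd ⟨b.1, (hmem b.1 b.2).1⟩) :=
      congrArg (fun z : Rs => ((z : ↥P) : R.WQ)) e
    exact congrArg Fin.val (twoT_ok.injective R e')
  have hcases : k = 7 ∨ k = 6 ∨ k = 5 := by omega
  rcases hcases with hk' | hk' | hk'
  · have hTP : P = twoT.sub R :=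
      Subgroup.eq_of_le_of_card_ge hPT (by rw [twoT_ok.card, hk, hk']; norm_num)
    have h := (w2Sq_many.1).trans_le (hsq (List.range 128) fun i hi =>
      ⟨List.mem_range.1 hi, hTP ▸ twoT_ok.mem_sub R ⟨i, List.mem_range.1 hi⟩⟩)
    have : (2 : ℕ) ^ 5 ≤ 2 ^ n := Nat.pow_le_pow_right (by norm_num) hn5
    rw [hk'] at hRs
    nlinarith
  · -- a subgroup of index two of the table
    obtain ⟨P', hP'⟩ : ∃ P', P' = P.subgroupOf (twoT.sub R) := ⟨_, rfl⟩
    have hidx : P'.index = 2 := by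
      have h := P'.card_mul_index
      rw [twoT_ok.card, hP', Nat.card_congr (Subgroup.subgroupOfEquivOfLe hPT).toEquiv, hk, hk'] at h
      rw [hP']; omega
    have hiff : ∀ {a b : R.WQ}, a ∈ twoT.sub R → b ∈ twoT.sub R → (a * b ∈ P ↔ (a ∈ P ↔ b ∈ P)) := by
      intro a b ha hb
      have h := Subgroup.mul_mem_iff_of_index_two hidx (a := (⟨a, ha⟩ : ↥(twoT.sub R))) (b := ⟨b, hb⟩)
      rw [hP', Subgroup.mem_subgroupOf, Subgroup.mem_subgroupOf, Subgroup.mem_subgroupOf] at h
      exact h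
    obtain ⟨f, hf⟩ : ∃ f : Fin 3 → Bool, ∀ j, f j = decide (wq R (twoT.gn j) ∉ P) := ⟨_, fun _ => rfl⟩
    have hpar : ∀ i : Fin 128, parVal f i = decide (wq R (twoT.wd i) ∉ P) := by
      refine twoT_ok.induct (fun i hi => ?_) fun i j hi => ?_
      · rw [twoT_ok.zero R i hi, hi, parVal_zero, eq_comm, decide_eq_false_iff_not, not_not]
        exact one_mem P
      · rw [parVal_step, hi, hf, ← twoT_ok.mul R]
        have h := hiff (a := wq R (twoT.gn j)) (b := wq R (twoT.wd i)) (Subgroup.subset_closure ⟨j, rfl⟩)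
          (twoT_ok.mem_sub R i)
        by_cases ha : wq R (twoT.gn j) ∈ P <;> by_cases hb : wq R (twoT.wd i) ∈ P <;> simp [h, ha, hb]
    have h := (w2Sq_many.2 f).trans_le (hsq ((List.range 128).filter fun i => !parVal f i) fun i hi => by
      obtain ⟨hi, hi'⟩ := List.mem_filter.1 hi
      refine ⟨List.mem_range.1 hi, ?_⟩
      have h' := hpar ⟨i, List.mem_range.1 hi⟩
      simp only [Bool.not_eq_true'] at hi'
      rw [show parVal f ((⟨i, List.mem_range.1 hi⟩ : Fin 128) : ℕ) = false from hi', eq_comm,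
        decide_eq_false_iff_not, not_not] at h'
      exact h')
    have : (2 : ℕ) ^ 5 ≤ 2 ^ n := Nat.pow_le_pow_right (by norm_num) hn5
    rw [hk'] at hRs
    nlinarith
  · -- an elementary abelian subgroup of order thirty two
    have hbot : Rs = ⊥ := by
      refine Subgroup.eq_bot_of_card_eq _ ?_
      rw [hk', show n = 5 by omega] at hRs
      omega
    have hJc : J.card = 32 := by
      have e : Nat.card ↥P = J.card := by
        rw [hJ, ← Fintype.card_subtype, ← Nat.card_eq_fintype_card]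
        refine (Nat.card_eq_of_bijective (fun i => (⟨_, i.2⟩ : ↥P)) ⟨fun a b e => ?_, fun x => ?_⟩).symm
        · exact Subtype.ext (twoT_ok.injective R (congrArg Subtype.val e))
        · obtain ⟨i, hi⟩ := twoT_ok.exists_of_mem R (hPT x.2)
          exact ⟨⟨i, hi ▸ x.2⟩, Subtype.ext hi.symm⟩
      rw [← e, hk, hk']; norm_num
    obtain ⟨S, hS⟩ : ∃ S : Finset ℕ, S = (J.erase 0).map Fin.valEmbedding := ⟨_, rfl⟩
    have hSc : 31 ≤ S.card := by
      rw [hS, Finset.card_map]
      have := Finset.pred_card_le_card_erase (s := J) (a := 0)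
      omega
    have hSmem : ∀ a ∈ S, a ∈ w2Inv ∧ a < 128 ∧ wq R (w2Words.getD a []) ∈ P := by
      intro a ha
      rw [hS, Finset.mem_map] at ha
      obtain ⟨i, hi, rfl⟩ := ha
      obtain ⟨hi0, hiJ⟩ := Finset.mem_erase.1 hi
      rw [hJ, Finset.mem_filter] at hiJ
      refine ⟨w2Inv_ok i (fun e => hi0 (Fin.ext e)) ?_, i.2, hiJ.2⟩
      rw [← key_wq R, ← key_wq R, wq_append, wq_nil]
      have h := hpow ⟨_, hiJ.2⟩
      rw [hbot, Subgroup.mem_bot] at h
      rw [show wq R (twoT.wd i) * wq R (twoT.wd i) = 1 from (pow_two _).symm.trans (congrArg Subtype.val h)]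
    have hle : ∀ (q : ℕ → Bool), (∀ a ∈ S, q a = true) → S.card ≤ w2Inv.countP q := by
      intro q hq
      rw [List.countP_eq_length_filter]
      refine (Finset.card_le_card ?_).trans (List.toFinset_card_le _)
      intro a ha
      rw [List.mem_toFinset, List.mem_filter]
      exact ⟨(hSmem a ha).1, hq a ha⟩
    have h := w2Inv_graph
    have := hle (fun i => Nat.ble 31 (commCount i)) fun a ha => by
      rw [Nat.ble_eq]
      refine hSc.trans ?_
      refine hle _ fun b hb => beq_iff_eq.2 ?_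
      rw [← key_wq R, ← key_wq R, wq_append, wq_append]
      have h := hcomm ⟨_, (hSmem a ha).2.2⟩ ⟨_, (hSmem b hb).2.2⟩
      rw [hbot, Subgroup.mem_bot, mul_inv_eq_one, mul_inv_eq_iff_eq_mul] at h
      rw [show wq R (w2Words.getD a []) * wq R (w2Words.getD b []) =
        wq R (w2Words.getD b []) * wq R (w2Words.getD a []) from congrArg Subtype.val h]
    omega

end CfsgLib.Known.AltE6
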