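import Cfsg.Agent.Lib.Known.AltE6.Five
import Cfsg.Agent.Lib.Known.AltE6.Index
import Cfsg.Agent.Lib.Known.AltTorus.Counting
import Cfsg.Agent.Lib.Known.AltTorus.Sections

/-!
# The alternating group of degree thirteen is no section of E6 away from characteristic eleven
-/

set_option autoImplicit false

namespace CfsgLib.Known.AltE6

open Cfsg.Lie (ChevalleyDatum chevE6)
open CfsgLib.Lie.Chev
open CfsgLib.Known.AltTorus (AltSect exists_lift exists_conj_into exists_ext exists_commutator_eq)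

/-- An eleven cycle with an element inducing an automorphism of order ten on it. -/
theorem alt13_eleven : ∃ x a : alternatingGroup (Fin 13), x ^ 11 = 1 ∧ x ≠ 1 ∧ a * x * a⁻¹ = x ^ 2 := by
  refine ⟨⟨⟨![1, 2, 3, 4, 5, 6, 7, 8, 9, 10, 0, 11, 12], ![10, 0, 1, 2, 3, 4, 5, 6, 7, 8, 9, 11, 12], by decide,
        by decide⟩, Equiv.Perm.mem_alternatingGroup.2 (by decide +kernel)⟩,
    ⟨⟨![0, 2, 4, 6, 8, 10, 1, 3, 5, 7, 9, 12, 11], ![0, 6, 1, 7, 2, 8, 3, 9, 4, 10, 5, 12, 11], by decide,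
        by decide⟩, Equiv.Perm.mem_alternatingGroup.2 (by decide +kernel)⟩, ?_, ?_, ?_⟩ <;> decide +kernel

theorem not_altSect_thirteen {F : Type*} [Field F] [Fintype F] {p : ℕ} [Fact p.Prime] [CharP F p] (hp : p ≠ 11) :
    ¬ AltSect ↥(chevE6.group F) 13 := by
  intro h
  haveI : Fact (Nat.Prime 11) := ⟨by norm_num⟩
  obtain ⟨L, _, _, j, hL⟩ := exists_ext F 10
  have h11 : 11 ∣ Fintype.card L - 1 := hL ▸ AltTorus.dvd_pow_sub_one_of_char (p := p) (by norm_num) hp (dvd_refl 10)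
  obtain ⟨x, a, hx, hx1, hax⟩ := alt13_eleven
  obtain ⟨H, π, hπ⟩ := h.map (ChevFixed.groupMap_injective j)
  haveI : Finite ↥(chevE6.group L) := (chevRel certE6 L).Finite_of_field
  obtain ⟨S, hS, hmap, hlift⟩ := exists_lift hπ (AltTorus.isPGroup_zpowers hx)
  obtain ⟨y, hy, hya⟩ := hlift a (AltTorus.mem_normalizer_zpowers hax)
  obtain ⟨g, hg⟩ := exists_conj_into (not_dvd_index_HS L h11 (by norm_num)) (hS.map H.subtype)
  obtain ⟨ψ, hψ⟩ : ∃ ψ : ↥H →* ↥(chevE6.group L), ψ = (MulAut.conj g).toMonoidHom.comp H.subtype := ⟨_, rfl⟩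
  have hψi : Function.Injective ψ := by
    rw [hψ]; exact (MulAut.conj g).injective.comp H.subtype_injective
  have hST : ∀ s ∈ S, ψ s ∈ (chevRel certE6 L).HS := fun s hs => by
    rw [hψ]; exact hg _ ⟨s, hs, rfl⟩
  obtain ⟨b, hb, n, u, hu, e⟩ := (chevRel certE6 L).exists_bnu (ψ y)
  have hxS : x ∈ S.map π := hmap ▸ Subgroup.mem_zpowers x
  obtain ⟨s, hs, rfl⟩ := hxS
  obtain ⟨t, ht, hst⟩ := exists_commutator_eq certE6 hψi hS hST hy hb hu e
    (noEigen_eleven (chevRel certE6 L) n) hs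
  obtain ⟨k, hk⟩ : π t ∈ Subgroup.zpowers (π s) := hmap ▸ ⟨t, ht, rfl⟩
  apply hx1
  have hk' : π s ^ k = π t := hk
  rw [hst, map_mul, map_mul, map_mul, map_inv, map_inv, map_pow, hya, ← hk', ← conj_zpow, hax, mul_inv_eq_one,
    ← zpow_natCast, ← zpow_natCast, ← zpow_mul, ← zpow_mul, mul_comm]

end CfsgLib.Known.AltE6
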