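import Cfsg.Agent.Lib.Known.AltE6.Main
import Cfsg.Agent.Lib.Known.AltE6.Small
import Cfsg.Agent.Lib.Lie.Twisted.E6

/-!
# Degrees of alternating sections of the groups of type E6
-/

set_option autoImplicit false

namespace CfsgLib.Known.AltE6

open Cfsg.Lie (chevE6 twistedE6)

theorem degree_bound {F : Type*} [Field F] [Fintype F] {p : ℕ} [Fact p.Prime] [CharP F p] {r : ℕ}
    (h : AltTorus.AltSect ↥(chevE6.group F) r) : r ≤ 11 + (if p = 2 ∨ p = 3 ∨ p = 5 then 1 else 0) := by
  by_contra hlt
  have hp : p.Prime := Fact.out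
  by_cases h235 : p = 2 ∨ p = 3 ∨ p = 5
  · rw [if_pos h235] at hlt
    exact not_altSect_thirteen (p := p) (by omega) (h.le (by omega))
  · rw [if_neg h235] at hlt
    have h2 := hp.two_le
    have h7 : 7 ≤ p := by
      by_contra hc
      interval_cases p <;> first | omega | exact absurd hp (by decide)
    exact not_altSect_twelve h7 (h.le (by omega))

theorem degree_bound_twisted {K : Type*} [Field K] [Fintype K] {p : ℕ} [Fact p.Prime] [CharP K p] {q r : ℕ}
    (h : AltTorus.AltSect ↥(twistedE6 K q) r) : r ≤ 11 + (if p = 2 ∨ p = 3 ∨ p = 5 then 1 else 0) :=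
  degree_bound (h.map (Subgroup.inclusion_injective CfsgLib.Lie.Chev.TwGroups.twE6_le))

end CfsgLib.Known.AltE6
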