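import Cfsg.Agent.Lib.Known.AltE6.Mono
import Cfsg.Agent.Lib.Known.AltE6.ThreeData
import Cfsg.Agent.Lib.Known.AltE6.Index
import Cfsg.Agent.Lib.Lie.OddInvolution.Classes
import Cfsg.Agent.Lib.Lie.OddInvolution.Descent
import Cfsg.Agent.Lib.Known.AltTorus.Lift

/-!
# The dimensions of the fixed points of elements of order two and three on the Lie algebra of type E6
-/

set_option autoImplicit false
set_option maxRecDepth 20000
set_option maxHeartbeats 1000000

namespace CfsgLib.Known.AltE6

open Cfsg.Lie (ChevalleyDatum chevE6)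
open CfsgLib.Lie.Chev
open scoped Matrix

/-- The representation on the Lie algebra. -/
noncomputable def rep (D : ChevalleyDatum) (F : Type*) [Field F] : ↥(D.group F) →* Module.End F (D.Idx → F) :=
  (Matrix.toLinAlgEquiv' (R := F) (n := D.Idx)).toMonoidHom.comp ((Units.coeHom _).comp (D.group F).subtype)

theorem rep_apply {D : ChevalleyDatum} {X : Aux} (C : Cert D X) {F : Type*} [Field F] (x : ↥(D.group F)) :
    rep D F x = Matrix.toLin' ((chevRel C F).mat x) := rfl

theorem rep_injective (D : ChevalleyDatum) (F : Type*) [Field F] : Function.Injective (rep D F) := fun a b h =>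
  Subtype.ext (Units.ext ((Matrix.toLinAlgEquiv' (R := F) (n := D.Idx)).injective h))

theorem fixd_rep_conj {D : ChevalleyDatum} {F : Type*} [Field F] (g x : ↥(D.group F)) :
    fixd (rep D F (g * x * g⁻¹)) = fixd (rep D F x) := by
  obtain ⟨u, hu⟩ : ∃ u : (Module.End F (D.Idx → F))ˣ, u = Units.map (rep D F) (toUnits g) := ⟨_, rfl⟩
  have h1 : (u : Module.End F (D.Idx → F)) = rep D F g := by rw [hu]; rfl
  have h2 : ((u⁻¹ : (Module.End F (D.Idx → F))ˣ) : Module.End F (D.Idx → F)) = rep D F g⁻¹ := by
    rw [hu, ← map_inv, ← map_inv]; rfl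
  rw [map_mul, map_mul, ← h1, ← h2]
  exact fixd_conj _ u

theorem symE6 : ∀ i j : Fin chevE6.rank, chevE6.cartan i (chevE6.simple j) = chevE6.cartan j (chevE6.simple i) := by
  decide +kernel

theorem cartanOK_E6 : Lie.OddInvolution.CartanOK chevE6 := ⟨by decide +kernel, by decide +kernel⟩

/-- An involution is conjugate into the split torus over the quadratic extension. -/
theorem exists_conj_HS {F L : Type*} [Field F] [Field L] [Fintype F] [Fintype L] (ι : F →+* L)
    (hL : Fintype.card L = Fintype.card F ^ 2) (hF : Odd (Fintype.card F)) (u : ↥(chevE6.group F)) (hu : u * u = 1) :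
    ∃ y : ↥(chevE6.group L), y * ChevFixed.groupMap chevE6 ι u * y⁻¹ ∈ (chevRel certE6 L).HS := by
  classical
  obtain ⟨J, hJ⟩ : ∃ J : ↥(chevE6.group F) →* ↥(chevE6.group L), J = ChevFixed.groupMap chevE6 ι := ⟨_, rfl⟩
  rw [← hJ]
  have hJx : ∀ r t, J ((chevRel certE6 F).xe r t) = (chevRel certE6 L).xe r (ι t) :=
    hJ ▸ ChevFixed.groupMap_xe certE6 ι
  have hLodd : Odd (Fintype.card L) := hL ▸ hF.pow
  have h2 := Lie.OddInvolution.two_ne_zero_of_odd hLodd
  obtain ⟨y, -, n, hn⟩ := Lie.OddInvolution.exists_twisted_conj_NS (chevRel certE6 F)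
    (Lie.OddInvolution.compat_id certE6) (Lie.OddInvolution.odd_orderOf_UP certE6 hF)
    (one_mem (chevRel certE6 F).HS) rfl (Commute.one_right u) (g := u) hu
  simp only [MonoidHom.id_apply] at hn
  obtain ⟨m, hm⟩ : ∃ m : (chevRel certE6 L).NS, (m : ↥(chevE6.group L)) = J n :=
    ⟨⟨_, Lie.OddInvolution.map_mem_NS certE6 J ι hJx n.2⟩, rfl⟩
  have S₁ : Lie.OddInvolution.Setup (chevRel certE6 L) (MonoidHom.id _) (RingHom.id L) (fun c => c ∈ ι.range) :=
    { compat := Lie.OddInvolution.compat_id certE6
      map_xe := fun _ _ => rfl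
      good_neg := fun c hc => neg_mem hc
      norm := by
        rintro c hc ⟨d, rfl⟩
        obtain ⟨x, hx⟩ : IsSquare (ι d) := by
          have hd : d ≠ 0 := fun e => hc (by rw [e, map_zero])
          rw [FiniteField.isSquare_iff (Lie.OddInvolution.ringChar_ne_two hLodd) hc]
          obtain ⟨j, hj⟩ := hF
          have e : Fintype.card L / 2 = (Fintype.card F - 1) * (j + 1) := by
            rw [hL, hj, show 2 * j + 1 - 1 = 2 * j by omega,
              show (2 * j + 1) ^ 2 = 2 * (2 * j * (j + 1)) + 1 by ring]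
            omega
          rw [e, pow_mul, ← map_pow, FiniteField.pow_card_sub_one_eq_one d hd, map_one, one_pow]
        have hx0 : x ≠ 0 := fun e => hc (by rw [hx, e, mul_zero])
        refine ⟨x, -x, fun e => hx0 ?_, hx.symm, by simp [hx]⟩
        rcases mul_eq_zero.1 (show (2 : L) * x = 0 by linear_combination e) with h | h
        · exact absurd h h2
        · exact h }
  have hmm : (m : ↥(chevE6.group L)) * m = 1 := by
    rw [hm, ← map_mul, ← map_one J, ← hn]
    refine congrArg J ?_
    calc _ = y * (u * u) * y⁻¹ := by group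
      _ = 1 := by rw [hu, mul_one, mul_inv_cancel]
  obtain ⟨y₁, -, h, hh, hy₁⟩ := Lie.OddInvolution.exists_twisted_conj_HS (chevRel certE6 L) cartanOK_E6 h2 S₁ _ m
    1 (fun _ => 0) (one_mem _) rfl (fun r => by simp) (Lie.OddInvolution.isMon_one_sgn certE6) le_rfl hmm
    (Commute.one_right _) (fun b hb r _ => by
      obtain ⟨a, ha⟩ := (chevRel certE6 F).isMon_nsPerm n
      exact ⟨_, ((Lie.OddInvolution.map_isMon certE6 J ι hJx ha hm hb r).2).symm⟩)
  simp only [MonoidHom.id_apply] at hy₁
  refine ⟨y₁ * J y, ?_⟩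
  have e : y₁ * J y * J u * (y₁ * J y)⁻¹ = h := by
    rw [← hy₁, hm, ← hn, map_mul, map_mul, map_inv]; group
  rw [e]; exact hh

/-- The parity of a root. -/
def oddRoot (e : Fin 6 → Bool) (r : ℕ) : Bool :=
  decide ((((List.range 6).map fun j => if (if h : j < 6 then e ⟨j, h⟩ else false) then auxE6.coef j r else 0).sum)
    % 2 = 0)

theorem sign_counts : ∀ e : Fin 6 → Bool, e ≠ (fun _ => false) →
    6 + ((List.range 72).countP fun r => oddRoot e r) = 46 ∨
      6 + ((List.range 72).countP fun r => oddRoot e r) = 38 := by decide +kernel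

theorem card_filter_countP {n : ℕ} (Q : ℕ → Bool) (P : Fin n → Prop) [DecidablePred P]
    (h : ∀ r : Fin n, P r ↔ Q r = true) : (Finset.univ.filter P).card = (List.range n).countP Q := by
  rw [← List.map_coe_finRange_eq_range, List.countP_map, List.countP_eq_length_filter,
    ← List.toFinset_card_of_nodup ((List.nodup_finRange n).filter _)]
  refine congrArg Finset.card ?_
  ext r
  simp [h]

variable {F : Type*} [Field F]

theorem fixd_cartBlock_one : fixd (Matrix.toLin' (cartBlock (chevRel certE6 F) (1 : Equiv.Perm (Fin chevE6.nroots)))) = 6 := by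
  rw [cartBlock_one, Matrix.toLin'_one, ← Module.End.one_eq_id, fixd_one, Module.finrank_pi, Fintype.card_fin]
  rfl

/-- The involutions of the torus fix spaces of dimension 46 or 38. -/
theorem fixd_HS_involution (h2 : (2 : F) ≠ 0) {h : ↥(chevE6.group F)} (hh : h ∈ (chevRel certE6 F).HS)
    (hh2 : h * h = 1) (h1 : h ≠ 1) : fixd (rep chevE6 F h) = 46 ∨ fixd (rep chevE6 F h) = 38 := by
  classical
  obtain ⟨v, hv⟩ := torus_monMatrix F certE6 hh
  have hsq : ∀ r : Fin chevE6.nroots, chi auxE6 v (r : ℕ) * chi auxE6 v (r : ℕ) = 1 := by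
    have e := (chevRel certE6 F).mat_mul h h
    rw [hh2, (chevRel certE6 F).mat_one, hv, monMatrix_mul _ (chevRel certE6 F).isLin_one] at e
    have e1 : monMatrix (chevRel certE6 F) 1 (fun _ => (1 : Fˣ)) = 1 := by
      rw [monMatrix, cartBlock_one, monP_one, Matrix.fromBlocks_one]
    rw [← e1, one_mul] at e
    exact fun r => (congrFun (monMatrix_inj _ e).2 r).symm
  have hpm : ∀ k : Fin chevE6.rank, v k = 1 ∨ v k = -1 := by
    intro k
    have e := hsq ((chevRel certE6 F).sroot k)
    have e' : chi auxE6 v (((chevRel certE6 F).sroot k : Fin chevE6.nroots) : ℕ) = v k := by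
      rw [chi, Finset.prod_eq_single k]
      · rw [(chevRel certE6 F).coef_sroot, if_pos rfl, zpow_one]
      · intro j _ hj; rw [(chevRel certE6 F).coef_sroot, if_neg hj, zpow_zero]
      · simp
    rw [e'] at e
    rcases mul_self_eq_one_iff.1 (congrArg (fun u : Fˣ => (u : F)) e) with h | h
    · exact Or.inl (Units.ext h)
    · exact Or.inr (Units.ext h)
  obtain ⟨e, he⟩ : ∃ e : Fin 6 → Bool, ∀ k, e k = decide (v k ≠ 1) := ⟨_, fun _ => rfl⟩
  have hchi : ∀ r : ℕ, (chi auxE6 v r = 1 ↔ oddRoot e r = true) := by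
    intro r
    have hneg : (-1 : Fˣ) ≠ 1 := fun e => h2 (by
      have := congrArg (fun u : Fˣ => (u : F)) e
      simp only [Units.val_neg, Units.val_one] at this
      linear_combination (-1 : F) * this)
    have h0 : chi auxE6 v r = (-1 : Fˣ) ^ (∑ j : Fin 6, if e j then auxE6.coef j r else 0) := by
      rw [chi, zpow_finset_sum]
      refine Finset.prod_congr rfl fun j _ => ?_
      rw [show e j = decide (v j ≠ 1) from he j]
      rcases hpm j with h | h <;> rw [h]
      · simp
      · simp [hneg]
    have hsum : (((List.range 6).map fun j =>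
        if (if h : j < 6 then e ⟨j, h⟩ else false) then auxE6.coef j r else 0).sum) =
        ∑ j : Fin 6, if e j then auxE6.coef j r else 0 := by
      rw [Fin.sum_univ_six]
      simp [List.range_succ, add_assoc]
    rw [h0, oddRoot, hsum, decide_eq_true_iff, ← Int.even_iff]
    rcases Int.even_or_odd (∑ j : Fin 6, if e j then auxE6.coef j r else 0) with h | h
    · simp [h, h.neg_one_zpow]
    · simp [h.neg_one_zpow, hneg, Int.not_even_iff_odd.2 h]
  have hd : fixd (rep chevE6 F h) = 6 + (List.range 72).countP (fun r => oddRoot e r) := by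
    rw [rep_apply certE6, hv, monMatrix, fixd_fromBlocks, fixd_cartBlock_one,
      fixd_monP_one _ (Finset.univ.filter fun r : Fin chevE6.nroots => chi auxE6 v (r : ℕ) = 1) (fun r => by simp)]
    exact congrArg (6 + ·) (card_filter_countP (n := 72) _ _ fun r => hchi r)
  rw [hd]
  refine sign_counts e fun e0 => h1 ?_
  have hv1 : v = 1 := funext fun k => by
    have := congrFun e0 k
    have h' := (he k).symm.trans this
    rw [decide_eq_false_iff_not, not_not] at h'
    exact h'
  refine chevRel_injective certE6 F ((chevRel certE6 F).θ_eq_of_mat ?_)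
  rw [hv, (chevRel certE6 F).mat_one, hv1]
  simp [chi, monMatrix, cartBlock_one, monP_one, Matrix.fromBlocks_one]

end CfsgLib.Known.AltE6
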