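import Cfsg.Agent.Lib.Known.AltE6.Cover12
import Cfsg.Agent.Lib.Known.AltE6.Bound
import Cfsg.Agent.Lib.Lie.Rel.Torus
import Cfsg.Agent.Lib.Known.AltE6.Toral

/-!
# Normal subgroups of prime power order prime to the characteristic are central
-/

set_option autoImplicit false
set_option maxHeartbeats 1000000

namespace CfsgLib.Known.AltE6

open Cfsg.Lie (ChevalleyDatum chevE6)
open CfsgLib.Lie.Chev

/-- In a finite group a subgroup of index at most `2 ^ k` needs `k` more generators. -/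
theorem exists_gen {G : Type*} [Group G] [Finite G] : ∀ (k : ℕ) (X : Subgroup G), X.index ≤ 2 ^ k →
    ∃ y : Fin k → G, X ⊔ Subgroup.closure (Set.range y) = ⊤
  | 0, X, h => ⟨Fin.elim0, eq_top_iff.2 (le_sup_of_le_left (by
      rw [Subgroup.index_eq_one.1 (le_antisymm h (Nat.pos_of_ne_zero Subgroup.index_ne_zero_of_finite))]))⟩
  | k + 1, X, h => by
    by_cases hX : X = ⊤
    · exact ⟨fun _ => 1, eq_top_iff.2 (hX ▸ le_sup_left)⟩
    obtain ⟨z, -, hz⟩ := SetLike.exists_of_lt (lt_top_iff_ne_top.2 hX)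
    obtain ⟨X', hX'⟩ : ∃ X', X' = X ⊔ Subgroup.zpowers z := ⟨_, rfl⟩
    have hrel := Subgroup.relIndex_mul_index (H := X) (K := X') (hX' ▸ le_sup_left)
    have h2 : 2 ≤ X.relIndex X' := by
      have h1 : X.relIndex X' ≠ 1 := fun e => hz (Subgroup.relIndex_eq_one.1 e
        (hX' ▸ Subgroup.mem_sup_right (Subgroup.mem_zpowers z)))
      have h0 : X.relIndex X' ≠ 0 := fun e => Subgroup.index_ne_zero_of_finite (H := X) (by rw [← hrel, e, zero_mul])
      omega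
    obtain ⟨y, hy⟩ := exists_gen k X' (by
      rw [pow_succ] at h
      have := Nat.mul_le_mul_right X'.index h2
      omega)
    refine ⟨Fin.cons z y, eq_top_iff.2 (hy ▸ sup_le (hX' ▸ sup_le le_sup_left ?_) ?_)⟩
    · exact (Subgroup.zpowers_le).2 (Subgroup.mem_sup_right (Subgroup.subset_closure ⟨0, rfl⟩))
    · refine (Subgroup.closure_le _).2 ?_
      rintro _ ⟨i, rfl⟩
      exact Subgroup.mem_sup_right (Subgroup.subset_closure ⟨i.succ, by simp⟩)

theorem exists_maximal_avoiding {G : Type*} [Group G] [Finite G] {E : Subgroup G}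
    (hE : ∀ a ∈ E, a ∈ Subgroup.center G ∧ a * a = 1) {c : G} (hc : c ∈ E) (hc1 : c ≠ 1) :
    ∃ E0 ≤ E, c ∉ E0 ∧ ∀ d ∈ E, d ∈ E0 ∨ d * c ∈ E0 := by
  obtain ⟨E0, ⟨hle, hcn⟩, hmax⟩ := Set.Finite.exists_maximal (s := {X : Subgroup G | X ≤ E ∧ c ∉ X})
    (Set.toFinite _) ⟨⊥, bot_le, fun h => hc1 (Subgroup.mem_bot.1 h)⟩
  refine ⟨E0, hle, hcn, fun d hd => ?_⟩
  by_cases hd0 : d ∈ E0
  · exact Or.inl hd0
  obtain ⟨hdc, hdd⟩ := hE d hd
  have hX : ∃ X : Subgroup G, ∀ a, a ∈ X ↔ a ∈ E0 ∨ a * d ∈ E0 := by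
    refine ⟨{ carrier := {a | a ∈ E0 ∨ a * d ∈ E0}
              one_mem' := Or.inl (one_mem _)
              mul_mem' := ?_
              inv_mem' := ?_ }, fun a => Iff.rfl⟩
    · intro a b ha hb
      have hsw : ∀ b : G, d * b = b * d := fun b => (Subgroup.mem_center_iff.1 hdc b).symm
      rcases ha with ha | ha <;> rcases hb with hb | hb
      · exact Or.inl (mul_mem ha hb)
      · exact Or.inr (by rw [mul_assoc]; exact mul_mem ha hb)
      · refine Or.inr ?_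
        rw [mul_assoc, ← hsw b, ← mul_assoc]
        exact mul_mem ha hb
      · refine Or.inl ?_
        have e : a * b = (a * d) * (b * d) := by
          rw [mul_assoc a d, ← mul_assoc d b, hsw b, mul_assoc b d, hdd, mul_one]
        rw [e]; exact mul_mem ha hb
    · intro a ha
      rcases ha with ha | ha
      · exact Or.inl (inv_mem ha)
      · refine Or.inr ?_
        have e : a⁻¹ * d = (a * d)⁻¹ := by
          rw [mul_inv_rev, inv_eq_of_mul_eq_one_left hdd]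
          exact ((Subgroup.mem_center_iff.1 hdc a⁻¹))
        rw [e]; exact inv_mem ha
  obtain ⟨X, hX⟩ := hX
  have hle' : E0 ≤ X := fun a ha => (hX a).2 (Or.inl ha)
  have hdX : d ∈ X := (hX d).2 (Or.inr (by rw [hdd]; exact one_mem _))
  have hXE : X ≤ E := fun a ha => by
    rcases (hX a).1 ha with h | h
    · exact hle h
    · have := mul_mem (hle h) (inv_mem hd)
      rwa [mul_inv_cancel_right] at this
  by_cases hcX : c ∈ X
  · rcases (hX c).1 hcX with h | h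
    · exact absurd h hcn
    · exact Or.inr (by rw [← Subgroup.mem_center_iff.1 hdc c]; exact h)
  · exact absurd (hmax ⟨hXE, hcX⟩ hle' hdX) hd0

/-- The parities of the roots determine the element of the table. -/
theorem twoT_parity : ∀ i : Fin 128,
    (∀ j < 6, ∀ k < 6, (chevE6.cartan k (actW (twoT.wd i) (chevE6.simple j)) - chevE6.cartan k (chevE6.simple j)) % 2 = 0) →
      i = 0 := by
  decide +kernel

variable {F : Type*} [Field F] [Fintype F]

/-- A monomial element centralising the involutions of the torus has even shifts. -/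
theorem parity_of_comm (h2 : (2 : F) ≠ 0) (n : (chevRel certE6 F).NS)
    (hn : ∀ t ∈ (chevRel certE6 F).HS, t ^ 2 = 1 →
      (n : ↥(chevE6.group F)) * t = t * (n : ↥(chevE6.group F)))
    (r : Fin chevE6.nroots) (k : Fin chevE6.rank) :
    (chevE6.cartan k ((chevRel certE6 F).nsPerm n r) - chevE6.cartan k r) % 2 = 0 := by
  classical
  obtain ⟨a, u, ha, -⟩ := exists_monMatrix F certE6 symE6 n
  obtain ⟨σ, hσ⟩ : ∃ σ, σ = (chevRel certE6 F).nsPerm n := ⟨_, rfl⟩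
  rw [← hσ] at ha ⊢
  obtain ⟨t, ht⟩ : ∃ t, t = (chevRel certE6 F).torusHom (Pi.mulSingle k (-1)) := ⟨_, rfl⟩
  have ht2 : (t : ↥(chevE6.group F)) ^ 2 = 1 := by
    rw [← Subgroup.coe_pow, ht, ← map_pow, ← Pi.mulSingle_pow, neg_one_sq, Pi.mulSingle_one, map_one,
      OneMemClass.coe_one]
  have e := congrArg (chevRel certE6 F).mat (hn t t.2 ht2)
  rw [(chevRel certE6 F).mat_mul, (chevRel certE6 F).mat_mul, ha, ht, torusHom_mat certE6] at e
  have e1 := congrFun (congrFun e (Sum.inr (σ r))) (Sum.inr r)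
  rw [Matrix.mul_diagonal, Matrix.diagonal_mul, monMatrix, Matrix.fromBlocks_apply₂₂, monP_apply_self] at e1
  simp only [Sum.elim_inr] at e1
  have hv : ∀ s : ℕ, (∏ i : Fin chevE6.rank, (Pi.mulSingle k (-1 : Fˣ) : Fin chevE6.rank → Fˣ) i ^ chevE6.cartan i s) =
      (-1 : Fˣ) ^ chevE6.cartan k s := fun s => by
    rw [Finset.prod_eq_single k]
    · rw [Pi.mulSingle_eq_same]
    · intro j _ hj; rw [Pi.mulSingle_eq_of_ne hj, one_zpow]
    · simp
  rw [hv, hv, mul_comm] at e1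
  have e2 : ((-1 : Fˣ) ^ chevE6.cartan k r) = (-1 : Fˣ) ^ chevE6.cartan k (σ r) :=
    Units.ext (mul_right_cancel₀ (a r).ne_zero e1)
  by_contra hne
  have hodd : Odd (chevE6.cartan k (σ r) - chevE6.cartan k r) := Int.odd_iff.2 (by omega)
  have e3 : (-1 : Fˣ) ^ (chevE6.cartan k (σ r) - chevE6.cartan k r) = 1 := by
    rw [zpow_sub, ← e2, mul_inv_cancel]
  rw [hodd.neg_one_zpow] at e3
  refine h2 ?_
  have := congrArg Units.val e3
  rw [Units.val_neg, Units.val_one] at this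
  linear_combination (-1 : F) * this

variable {H : Type*} [Group H] [Finite H]

/-- A subgroup of prime power order is conjugate into the monomial group, and the two-part into the table. -/
theorem exists_into_NS {l : ℕ} [Fact l.Prime] (h : l ∣ Fintype.card F - 1) (h4 : l = 2 → 4 ∣ Fintype.card F - 1)
    (ψ : H →* ↥(chevE6.group F)) (hψ : Function.Injective ψ) (hH : IsPGroup l H) :
    ∃ φ : H →* ↥(chevRel certE6 F).NS, Function.Injective φ ∧
      (l = 2 → ∀ x, (chevRel certE6 F).qmk (φ x) ∈ twoT.sub (chevRel certE6 F)) := by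
  haveI : Finite ↥(chevE6.group F) := (chevRel certE6 F).Finite_of_field
  haveI := finite_WQ (chevRel certE6 F)
  obtain ⟨g, hg⟩ := AltTorus.exists_conj_into (not_dvd_index_NS F h h4)
    (S := ψ.range) (hH.of_surjective ψ.rangeRestrict ψ.rangeRestrict_surjective)
  obtain ⟨φ, hφ⟩ : ∃ φ : H →* ↥(chevRel certE6 F).NS, ∀ x, (φ x : ↥(chevE6.group F)) = g * ψ x * g⁻¹ :=
    ⟨((MulAut.conj g).toMonoidHom.comp ψ).codRestrict _ fun x => hg _ ⟨x, rfl⟩, fun _ => rfl⟩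
  have hφi : Function.Injective φ := fun a b e => hψ (by
    have := congrArg Subtype.val e
    rw [hφ, hφ, mul_left_inj, mul_right_inj] at this
    exact this)
  by_cases hl : l = 2
  swap
  · exact ⟨φ, hφi, fun e => absurd e hl⟩
  subst hl
  obtain ⟨w, hw⟩ := twoT_ok.conj_into (chevRel certE6 F) (p := 2) (N := 405) (card_WQ_E6 _) (by norm_num)
    (P := ((chevRel certE6 F).qmk.comp φ).range)
    (hH.of_surjective ((chevRel certE6 F).qmk.comp φ).rangeRestrict (MonoidHom.rangeRestrict_surjective _))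
  obtain ⟨m, hm⟩ := (chevRel certE6 F).qmk_surjective w
  refine ⟨(MulAut.conj m).toMonoidHom.comp φ, (MulAut.conj m).injective.comp hφi, fun _ x => ?_⟩
  rw [MonoidHom.comp_apply, MulEquiv.coe_toMonoidHom, MulAut.conj_apply, map_mul, map_mul, map_inv, hm]
  exact hw _ ⟨x, rfl⟩

/-- Normal subgroups of prime power order are central. -/
theorem le_center_of_normal_pGroup {l : ℕ} [Fact l.Prime] (h : l ∣ Fintype.card F - 1)
    (h4 : l = 2 → 4 ∣ Fintype.card F - 1) {π : H →* alternatingGroup (Fin 12)} (hπ : MinCover π)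
    (ψ : H →* ↥(chevE6.group F)) (hψ : Function.Injective ψ) (Q : Subgroup H) (hQn : Q.Normal)
    (hQ : IsPGroup l Q) : Q ≤ Subgroup.center H := by
  classical
  obtain ⟨N, hN⟩ : ∃ N, N = Nat.card Q := ⟨_, rfl⟩
  induction N using Nat.strong_induction_on generalizing Q with
  | _ N ih =>
  subst hN
  haveI : Finite ↥(chevE6.group F) := (chevRel certE6 F).Finite_of_field
  haveI := finite_WQ (chevRel certE6 F)
  have hl : l.Prime := Fact.out
  have hsmall : ∀ Q' : Subgroup H, Q'.Normal → Q' < Q → Q' ≤ Subgroup.center H := fun Q' hn hlt =>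
    ih _ (lt_of_le_of_ne (Subgroup.card_le_of_le hlt.le) fun e =>
      hlt.ne (Subgroup.eq_of_le_of_card_ge hlt.le e.ge)) Q' hn (hQ.to_le hlt.le) rfl
  by_contra hnc
  have hne : Q ≠ ⊥ := fun e => hnc (e ▸ bot_le)
  -- the Frattini subgroup
  obtain ⟨s, hs⟩ : ∃ s : Set H,
      s = {z | (∃ x ∈ Q, x ^ l = z) ∨ ∃ x ∈ Q, ∃ y ∈ Q, x * y * x⁻¹ * y⁻¹ = z} := ⟨_, rfl⟩
  obtain ⟨Q1, hQ1⟩ : ∃ Q1, Q1 = Subgroup.normalClosure s := ⟨_, rfl⟩
  have hQ1n : Q1.Normal := hQ1 ▸ Subgroup.normalClosure_normal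
  have hpow : ∀ x ∈ Q, x ^ l ∈ Q1 := fun x hx => hQ1 ▸ Subgroup.subset_normalClosure (hs ▸ Or.inl ⟨x, hx, rfl⟩)
  have hcomm : ∀ x ∈ Q, ∀ y ∈ Q, x * y * x⁻¹ * y⁻¹ ∈ Q1 := fun x hx y hy =>
    hQ1 ▸ Subgroup.subset_normalClosure (hs ▸ Or.inr ⟨x, hx, y, hy, rfl⟩)
  obtain ⟨M, hMn, hMidx⟩ : ∃ M : Subgroup ↥Q, M.Normal ∧ M.index = l := by
    obtain ⟨n, hn⟩ := IsPGroup.iff_card.1 hQ
    have hn0 : n ≠ 0 := fun e => hne (Subgroup.eq_bot_of_card_eq _ (by rw [hn, e, pow_zero]))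
    obtain ⟨M, hM⟩ := Sylow.exists_subgroup_card_pow_prime l (G := ↥Q) (n := n - 1)
      (hn ▸ pow_dvd_pow l (Nat.sub_le _ _))
    have hidx : M.index = l := by
      have e := M.card_mul_index
      rw [hM, hn, show l ^ n = l ^ (n - 1) * l by rw [← pow_succ, Nat.sub_add_cancel (Nat.pos_of_ne_zero hn0)]] at e
      exact Nat.eq_of_mul_eq_mul_left (pow_pos hl.pos _) e
    exact ⟨M, Subgroup.normal_of_index_eq_minFac_card (by rw [hidx, hn, hl.pow_minFac hn0]), hidx⟩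
  have hQ1M : Q1 ≤ M.map Q.subtype := by
    haveI := hMn
    have hcard : Nat.card (↥Q ⧸ M) = l := hMidx
    haveI : IsCyclic (↥Q ⧸ M) := isCyclic_of_prime_card hcard
    rw [hQ1, Subgroup.normalClosure, Subgroup.closure_le]
    intro z hz
    obtain ⟨a, ha, hconj⟩ := Group.mem_conjugatesOfSet_iff.1 hz
    obtain ⟨g, rfl⟩ := isConj_iff.1 hconj
    have hgQ : ∀ x ∈ Q, g * x * g⁻¹ ∈ Q := fun x hx => hQn.conj_mem x hx g
    rw [hs] at ha
    rcases ha with ⟨x, hx, rfl⟩ | ⟨x, hx, y, hy, rfl⟩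
    · refine ⟨⟨g * x * g⁻¹, hgQ x hx⟩ ^ l, ?_, by simp [conj_pow]⟩
      have := pow_card_eq_one' (G := ↥Q ⧸ M) (x := QuotientGroup.mk' M ⟨g * x * g⁻¹, hgQ x hx⟩)
      rw [hcard, ← map_pow, QuotientGroup.mk'_apply, QuotientGroup.eq_one_iff] at this
      exact this
    · obtain ⟨x', hx'⟩ : ∃ x' : ↥Q, x' = ⟨g * x * g⁻¹, hgQ x hx⟩ := ⟨_, rfl⟩
      obtain ⟨y', hy'⟩ : ∃ y' : ↥Q, y' = ⟨g * y * g⁻¹, hgQ y hy⟩ := ⟨_, rfl⟩
      refine ⟨x' * y' * x'⁻¹ * y'⁻¹, ?_, ?_⟩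
      · rw [SetLike.mem_coe, ← QuotientGroup.eq_one_iff, ← QuotientGroup.mk'_apply, map_mul, map_mul, map_mul, map_inv,
          map_inv]
        letI : CommGroup (↥Q ⧸ M) := IsCyclic.commGroup
        rw [mul_right_comm, mul_inv_cancel_right, mul_inv_cancel]
      · simp [hx', hy', mul_assoc]
  have hQ1Q : Q1 < Q := by
    refine lt_of_le_of_ne (hQ1M.trans (Subgroup.map_subtype_le _)) fun e => ?_
    have hMtop : M = ⊤ := eq_top_iff.2 fun x _ => by
      obtain ⟨y, hy, e'⟩ := hQ1M (by rw [e]; exact x.2)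
      rwa [show x = y from Subtype.ext e'.symm]
    rw [hMtop, Subgroup.index_top] at hMidx
    exact hl.ne_one hMidx.symm
  have hQ1c : Q1 ≤ Subgroup.center H := hsmall Q1 hQ1n hQ1Q
  have hbig := hπ.section_bound (l := l) hQn hQ1n hQ1Q.le hQ1c hpow hcomm hnc
  -- inside the monomial group
  obtain ⟨φ, hφi, hφT⟩ := exists_into_NS h h4 (ψ.comp Q.subtype) (hψ.comp Q.subtype_injective) hQ
  obtain ⟨f, hf⟩ : ∃ f : ↥Q →* (chevRel certE6 F).WQ, f = (chevRel certE6 F).qmk.comp φ := ⟨_, rfl⟩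
  obtain ⟨A, hA⟩ : ∃ A : Subgroup ↥Q, A = f.ker := ⟨_, rfl⟩
  obtain ⟨Q1', hQ1'⟩ : ∃ Q1' : Subgroup ↥Q, Q1' = Q1.subgroupOf Q := ⟨_, rfl⟩
  haveI : Q1'.Normal := hQ1' ▸ hQ1n.subgroupOf Q
  have hidx : Q1.relIndex Q = Q1'.relIndex A * (A ⊔ Q1').index := by
    rw [show Q1'.relIndex A = Q1'.relIndex (A ⊔ Q1') from (Subgroup.relIndex_sup_right _ _).symm,
      Subgroup.relIndex_mul_index le_sup_right, hQ1']; rfl
  have hAHS : ∀ a : ↥Q, a ∈ A → (φ a : ↥(chevE6.group F)) ∈ (chevRel certE6 F).HS := fun a ha => by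
    rw [hA, MonoidHom.mem_ker, hf] at ha
    exact (chevRel certE6 F).qmk_eq_one.1 ha
  have hAcomm : ∀ a b : ↥Q, a ∈ A → b ∈ A → a * b = b * a := fun a b ha hb => hφi (Subtype.ext (by
    rw [map_mul, map_mul, Subgroup.coe_mul, Subgroup.coe_mul]
    exact (chevRel certE6 F).HS_isMulCommutative (hAHS a ha) (hAHS b hb)))
  -- the part in the torus
  haveI : NeZero l := ⟨hl.ne_zero⟩
  have hα : Q1'.relIndex A ≤ Nat.card {t : ↥A // t ^ l = 1} := by
    letI : CommGroup ↥A :=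
      { (inferInstance : Group ↥A) with mul_comm := fun a b => Subtype.ext (hAcomm a b a.2 b.2) }
    have e : Nat.card {t : ↥A // t ^ l = 1} = Nat.card (powMonoidHom l : ↥A →* ↥A).ker := rfl
    rw [e, card_ker_pow]
    refine Nat.le_of_dvd (Nat.pos_of_ne_zero Subgroup.index_ne_zero_of_finite)
      (Subgroup.index_dvd_of_le (K := Q1'.subgroupOf A) ?_)
    rintro _ ⟨a, rfl⟩
    rw [Subgroup.mem_subgroupOf, hQ1', Subgroup.mem_subgroupOf]
    exact hpow _ (a : ↥Q).2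
  obtain ⟨j, hj⟩ : ∃ j : {t : ↥A // t ^ l = 1} → {t : ↥(chevRel certE6 F).HS // t ^ l = 1},
      ∀ t, ((j t).1 : ↥(chevE6.group F)) = φ (t.1 : ↥Q) :=
    ⟨fun t => ⟨⟨φ (t.1 : ↥Q), hAHS _ t.1.2⟩, Subtype.ext (by
      rw [Subgroup.coe_pow]
      show ((φ (t.1 : ↥Q)) : ↥(chevE6.group F)) ^ l = 1
      rw [← Subgroup.coe_pow, ← map_pow, ← Subgroup.coe_pow, t.2, OneMemClass.coe_one, map_one,
        OneMemClass.coe_one])⟩, fun _ => rfl⟩
  have hji : Function.Injective j := fun a b e => Subtype.ext (Subtype.ext (hφi (Subtype.ext (by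
    rw [← hj, ← hj, e]))))
  haveI : Finite {t : ↥(chevRel certE6 F).HS // t ^ l = 1} := Subtype.finite
  have hT := Nat.card_le_card_of_injective j hji
  have hT6 := card_HS_torsion (chevRel certE6 F) l
  -- the part in the Weyl group
  obtain ⟨Rs, hRs⟩ : ∃ Rs : Subgroup ↥f.range, Rs = Q1'.map f.rangeRestrict := ⟨_, rfl⟩
  have hβ : (A ⊔ Q1').index = Rs.index := by
    rw [hRs, Subgroup.index_map, MonoidHom.ker_rangeRestrict,
      MonoidHom.range_eq_top.2 f.rangeRestrict_surjective, Subgroup.index_top, mul_one, sup_comm, hA]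
  have hP : IsPGroup l f.range := hQ.of_surjective f.rangeRestrict f.rangeRestrict_surjective
  have hRpow : ∀ x : ↥f.range, x ^ l ∈ Rs := fun x => by
    obtain ⟨y, rfl⟩ := f.rangeRestrict_surjective x
    rw [← map_pow, hRs]
    exact Subgroup.mem_map_of_mem _ (by rw [hQ1', Subgroup.mem_subgroupOf]; exact hpow _ y.2)
  rw [hidx] at hbig
  by_cases h5 : 5 ≤ l
  · have hb := quot_big (chevRel certE6 F) hP h5 Rs
    have h12 : ¬ l ∣ 12 := fun hd => by
      have := Nat.le_of_dvd (by norm_num) hd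
      interval_cases l <;> first | (revert hd; decide) | (revert hl; decide)
    rw [if_neg h12, Nat.sub_zero] at hbig
    have hlt : l ^ 6 * l < l ^ 11 := by
      rw [← pow_succ]; exact Nat.pow_lt_pow_right hl.one_lt (by norm_num)
    have := Nat.mul_le_mul ((hα.trans hT).trans hT6) (hβ ▸ hb)
    omega
  have hl23 : l = 2 ∨ l = 3 := by
    have := hl.two_le
    rcases (by omega : l = 2 ∨ l = 3 ∨ l = 4) with h | h | h
    exacts [Or.inl h, Or.inr h, absurd (h ▸ hl) (by norm_num)]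
  rcases hl23 with rfl | rfl
  swap
  · have hb := quot_three (chevRel certE6 F) hP Rs hRpow
    rw [if_pos (by norm_num)] at hbig
    have := Nat.mul_le_mul ((hα.trans hT).trans hT6) (hβ ▸ hb)
    omega
  have hRcomm : ∀ x y : ↥f.range, x * y * x⁻¹ * y⁻¹ ∈ Rs := fun x y => by
    obtain ⟨x, rfl⟩ := f.rangeRestrict_surjective x
    obtain ⟨y, rfl⟩ := f.rangeRestrict_surjective y
    rw [← map_inv, ← map_inv, ← map_mul, ← map_mul, ← map_mul, hRs]
    exact Subgroup.mem_map_of_mem _ (by rw [hQ1', Subgroup.mem_subgroupOf]; exact hcomm _ x.2 _ y.2)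
  have hPT : f.range ≤ twoT.sub (chevRel certE6 F) := by
    rintro _ ⟨x, rfl⟩; rw [hf]; exact hφT rfl x
  have hb := quot_two (chevRel certE6 F) hP hPT Rs hRpow hRcomm
  rw [if_pos (by norm_num)] at hbig
  obtain ⟨ha64, hb16⟩ : 64 ≤ Q1'.relIndex A ∧ 16 ≤ (A ⊔ Q1').index := by
    have h1 := (hα.trans hT).trans hT6
    rw [← hβ] at hb
    constructor <;> by_contra hlt
    · have := Nat.mul_le_mul (show Q1'.relIndex A ≤ 63 by omega) hb
      omega
    · have := Nat.mul_le_mul h1 (show (A ⊔ Q1').index ≤ 15 by omega)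
      omega
  have hQtot : Q1.relIndex Q = 2 ^ 10 := by
    have h1 := (hα.trans hT).trans hT6
    rw [← hβ] at hb
    rw [hidx]
    exact le_antisymm ((Nat.mul_le_mul h1 hb).trans (by norm_num)) hbig
  by_cases hab : ∀ x ∈ Q, ∀ y ∈ Q, x * y = y * x
  · -- the whole two-torsion of the torus lies in `Q`
    have hsurj : Function.Surjective j :=
      (hji.bijective_of_nat_card_le ?_).2
    · have hone : ∀ x : ↥Q, f x = 1 := by
        intro x
        obtain ⟨i, hi⟩ := twoT_ok.exists_of_mem _ (hPT ⟨x, rfl⟩)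
        suffices i = 0 by rw [hi, this, twoT_ok.zero _ _ rfl]
        refine twoT_parity i fun r hr k hk => ?_
        have hc : ∀ t ∈ (chevRel certE6 F).HS, t ^ 2 = 1 →
            (φ x : ↥(chevE6.group F)) * t = t * (φ x : ↥(chevE6.group F)) := by
          intro t ht ht2
          obtain ⟨⟨a, ha⟩, e⟩ := hsurj ⟨⟨t, ht⟩, Subtype.ext (by rw [Subgroup.coe_pow]; exact ht2)⟩
          have e' : (φ (a : ↥Q) : ↥(chevE6.group F)) = t := by rw [← hj ⟨a, ha⟩, e]
          rw [← e', ← Subgroup.coe_mul, ← Subgroup.coe_mul, ← map_mul, ← map_mul,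
            show x * (a : ↥Q) = (a : ↥Q) * x from Subtype.ext (hab _ x.2 _ (a : ↥Q).2)]
        have hp := parity_of_comm (Lie.OddInvolution.two_ne_zero_of_odd ?_) (φ x) hc
          ((chevRel certE6 F).sroot ⟨r, hr⟩) ⟨k, hk⟩
        · rw [show (φ x : (chevRel certE6 F).NS) = φ x from rfl, ← (chevRel certE6 F).qact_qmk,
            show (chevRel certE6 F).qmk (φ x) = f x by rw [hf]; rfl, hi, qact_wq] at hp
          exact hp
        · have h41 := h4 rfl
          have := Fintype.one_lt_card (α := F)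
          exact ⟨(Fintype.card F - 1) / 2, by omega⟩
      have : (A ⊔ Q1').index = 1 := Subgroup.index_eq_one.2 (eq_top_iff.2 fun x _ =>
        Subgroup.mem_sup_left (hA ▸ MonoidHom.mem_ker.2 (hone x)))
      omega
    · omega
  -- the commutator form
  push Not at hab
  obtain ⟨x₀, hx₀, y₀, hy₀, hxy⟩ := hab
  have hmulc : ∀ x₁ x₂ y : H, x₂ * y * x₂⁻¹ * y⁻¹ ∈ Subgroup.center H →
      (x₁ * x₂) * y * (x₁ * x₂)⁻¹ * y⁻¹ = (x₁ * y * x₁⁻¹ * y⁻¹) * (x₂ * y * x₂⁻¹ * y⁻¹) := by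
    intro x₁ x₂ y hc
    obtain ⟨c, hcd⟩ : ∃ c, c = x₂ * y * x₂⁻¹ * y⁻¹ := ⟨_, rfl⟩
    rw [← hcd] at hc ⊢
    have hsw : ∀ g, g * c = c * g := fun g => Subgroup.mem_center_iff.1 hc g
    calc (x₁ * x₂) * y * (x₁ * x₂)⁻¹ * y⁻¹ = (x₁ * c) * y * x₁⁻¹ * y⁻¹ := by rw [hcd]; group
      _ = c * (x₁ * y * x₁⁻¹ * y⁻¹) := by rw [hsw x₁]; simp only [mul_assoc]
      _ = _ := (hsw _).symm
  obtain ⟨E, hE⟩ : ∃ E : Subgroup H, ∀ a, a ∈ E ↔ a ∈ Subgroup.center H ∧ a * a = 1 := by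
    refine ⟨{ carrier := {a | a ∈ Subgroup.center H ∧ a * a = 1}
              one_mem' := ⟨one_mem _, one_mul 1⟩
              mul_mem' := ?_
              inv_mem' := ?_ }, fun a => Iff.rfl⟩
    · rintro a b ⟨ha, ha2⟩ ⟨hb, hb2⟩
      refine ⟨mul_mem ha hb, ?_⟩
      rw [mul_assoc, ← mul_assoc b, Subgroup.mem_center_iff.1 ha b, mul_assoc a b, hb2, mul_one, ha2]
    · rintro a ⟨ha, ha2⟩
      exact ⟨inv_mem ha, by rw [← mul_inv_rev, ha2, inv_one]⟩
  have hcE : ∀ x ∈ Q, ∀ y ∈ Q, x * y * x⁻¹ * y⁻¹ ∈ E := fun x hx y hy => by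
    have hc := hQ1c (hcomm x hx y hy)
    refine (hE _).2 ⟨hc, ?_⟩
    have h2 := Subgroup.mem_center_iff.1 (hQ1c (hpow x hx)) y
    rw [← hmulc x x y hc, ← pow_two, ← h2, mul_inv_cancel_right, mul_inv_cancel]
  obtain ⟨E0, hE0, hcn, hE0c⟩ := exists_maximal_avoiding (fun a ha => (hE a).1 ha) (hcE x₀ hx₀ y₀ hy₀)
    (fun e => hxy (by rwa [mul_inv_eq_one, mul_inv_eq_iff_eq_mul] at e))
  obtain ⟨Rf, hRf⟩ : ∃ Rf : Subgroup H, ∀ a, a ∈ Rf ↔ a ∈ Q ∧ ∀ y ∈ Q, a * y * a⁻¹ * y⁻¹ ∈ E0 := by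
    refine ⟨{ carrier := {a | a ∈ Q ∧ ∀ y ∈ Q, a * y * a⁻¹ * y⁻¹ ∈ E0}
              one_mem' := ⟨one_mem _, fun y _ => by simp⟩
              mul_mem' := ?_
              inv_mem' := ?_ }, fun a => Iff.rfl⟩
    · rintro a b ⟨ha, ha'⟩ ⟨hb, hb'⟩
      exact ⟨mul_mem ha hb, fun y hy => by
        rw [hmulc a b y (hQ1c (hcomm b hb y hy))]; exact mul_mem (ha' y hy) (hb' y hy)⟩
    · rintro a ⟨ha, ha'⟩
      refine ⟨inv_mem ha, fun y hy => ?_⟩
      have h1 := hmulc a⁻¹ a y (hQ1c (hcomm a ha y hy))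
      rw [inv_mul_cancel, one_mul, inv_one, mul_one, mul_inv_cancel] at h1
      rw [eq_inv_of_mul_eq_one_left h1.symm]
      exact inv_mem (ha' y hy)
  have hRfQ : Rf ≤ Q := fun a ha => ((hRf a).1 ha).1
  have hRfn : Rf.Normal := ⟨fun a ha g => by
    obtain ⟨haQ, ha'⟩ := (hRf a).1 ha
    refine (hRf _).2 ⟨hQn.conj_mem a haQ g, fun y hy => ?_⟩
    have hy' : g⁻¹ * y * g ∈ Q := by simpa using hQn.conj_mem y hy g⁻¹
    have hc := hQ1c (hcomm a haQ _ hy')
    have e : g * a * g⁻¹ * y * (g * a * g⁻¹)⁻¹ * y⁻¹ =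
        g * (a * (g⁻¹ * y * g) * a⁻¹ * (g⁻¹ * y * g)⁻¹) * g⁻¹ := by group
    rw [e, Subgroup.mem_center_iff.1 hc g, mul_inv_cancel_right]
    exact ha' _ hy'⟩
  have hQ1Rf : Q1 ≤ Rf := fun a ha => (hRf a).2 ⟨hQ1Q.le ha, fun y _ => by
    rw [← Subgroup.mem_center_iff.1 (hQ1c ha) y, mul_inv_cancel_right, mul_inv_cancel]; exact one_mem _⟩
  have hRfc : Rf ≤ Subgroup.center H :=
    hsmall Rf hRfn (lt_of_le_of_ne hRfQ fun e => hcn (((hRf x₀).1 (e ▸ hx₀)).2 y₀ hy₀))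
  have hRf1 : Rf ≤ Q1 := by
    have h1 := hπ.section_bound (l := 2) hQn hRfn hRfQ hRfc (fun x hx => hQ1Rf (hpow x hx))
      (fun x hx y hy => hQ1Rf (hcomm x hx y hy)) hnc
    rw [if_pos (by norm_num)] at h1
    have h2 := Subgroup.relIndex_mul_relIndex (H := Q1) (K := Rf) (L := Q) hQ1Rf hRfQ
    rw [hQtot] at h2
    refine Subgroup.relIndex_eq_one.1 ?_
    have h0 : Q1.relIndex Rf ≠ 0 := fun e => by rw [e, zero_mul] at h2; omega
    by_contra hne1
    have := Nat.mul_le_mul (show 2 ≤ Q1.relIndex Rf by omega) h1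
    omega
  -- generators modulo the torus part
  obtain ⟨y, hy⟩ := exists_gen 4 (A ⊔ Q1') (by rw [hβ]; exact hb)
  obtain ⟨val, hval⟩ : ∃ val : ↥A → Fin 4 → Bool,
      ∀ a i, val a i = decide (((a : ↥Q) : H) * (y i : H) * ((a : ↥Q) : H)⁻¹ * (y i : H)⁻¹ ∈ E0) :=
    ⟨_, fun _ _ => rfl⟩
  have hkey : ∀ a b : ↥A, val a = val b → a * b⁻¹ ∈ Q1'.subgroupOf A := by
    intro a b e
    rw [Subgroup.mem_subgroupOf, hQ1', Subgroup.mem_subgroupOf]
    apply hRf1
    obtain ⟨z, hz⟩ : ∃ z : ↥Q, z = ((a * b⁻¹ : ↥A) : ↥Q) := ⟨_, rfl⟩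
    rw [← hz]
    have hzA : z ∈ A := hz ▸ (a * b⁻¹).2
    have hsub : ∃ X : Subgroup ↥Q, ∀ w : ↥Q, w ∈ X ↔ (z : H) * (w : H) * (z : H)⁻¹ * (w : H)⁻¹ ∈ E0 := by
      refine ⟨{ carrier := {w | (z : H) * (w : H) * (z : H)⁻¹ * (w : H)⁻¹ ∈ E0}
                one_mem' := by simp
                mul_mem' := ?_
                inv_mem' := ?_ }, fun _ => Iff.rfl⟩
      · intro v w hv hw
        show (z : H) * ((v * w : ↥Q) : H) * (z : H)⁻¹ * ((v * w : ↥Q) : H)⁻¹ ∈ E0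
        have hc := hQ1c (hcomm _ z.2 _ w.2)
        have e : (z : H) * ((v * w : ↥Q) : H) * (z : H)⁻¹ * ((v * w : ↥Q) : H)⁻¹ =
            ((z : H) * v * (z : H)⁻¹ * (v : H)⁻¹) * ((v : H) * ((z : H) * w * (z : H)⁻¹ * (w : H)⁻¹) * (v : H)⁻¹) := by
          rw [Subgroup.coe_mul]; group
        rw [e, Subgroup.mem_center_iff.1 hc (v : H), mul_inv_cancel_right]
        exact mul_mem hv hw
      · intro w hw
        show (z : H) * ((w⁻¹ : ↥Q) : H) * (z : H)⁻¹ * ((w⁻¹ : ↥Q) : H)⁻¹ ∈ E0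
        have hc := hQ1c (hcomm _ z.2 _ w.2)
        have e : (z : H) * ((w⁻¹ : ↥Q) : H) * (z : H)⁻¹ * ((w⁻¹ : ↥Q) : H)⁻¹ =
            (w : H)⁻¹ * ((z : H) * w * (z : H)⁻¹ * (w : H)⁻¹)⁻¹ * (w : H) := by
          rw [Subgroup.coe_inv]; group
        rw [e, Subgroup.mem_center_iff.1 (inv_mem hc) (w : H)⁻¹, inv_mul_cancel_right]
        exact inv_mem hw
    obtain ⟨X, hX⟩ := hsub
    have htop : (⊤ : Subgroup ↥Q) ≤ X := hy ▸ sup_le (sup_le (fun w hw => (hX w).2 ?_) (fun w hw => (hX w).2 ?_)) ?_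
    · exact (hRf _).2 ⟨z.2, fun w hw => (hX ⟨w, hw⟩).1 (htop (Subgroup.mem_top _))⟩
    · have e := congrArg Subtype.val (hAcomm z w hzA hw)
      rw [Subgroup.coe_mul, Subgroup.coe_mul] at e
      rw [e, mul_inv_cancel_right, mul_inv_cancel]
      exact one_mem _
    · rw [hQ1', Subgroup.mem_subgroupOf] at hw
      rw [Subgroup.mem_center_iff.1 (hQ1c hw) (z : H), mul_inv_cancel_right, mul_inv_cancel]
      exact one_mem _
    · refine (Subgroup.closure_le _).2 ?_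
      rintro _ ⟨i, rfl⟩
      refine (hX _).2 ?_
      have e1 := congrFun e i
      rw [hval, hval, decide_eq_decide] at e1
      have hzv : (z : H) = ((a : ↥Q) : H) * ((b : ↥Q) : H)⁻¹ := by rw [hz]; rfl
      have hcb := hQ1c (hcomm _ (inv_mem (b : ↥Q).2) _ (y i).2)
      rw [hzv, hmulc _ _ _ hcb]
      have hbinv := hmulc ((b : ↥Q) : H)⁻¹ ((b : ↥Q) : H) (y i : H) (hQ1c (hcomm _ (b : ↥Q).2 _ (y i).2))
      rw [inv_mul_cancel, one_mul, inv_one, mul_one, mul_inv_cancel] at hbinv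
      rw [eq_inv_of_mul_eq_one_left hbinv.symm]
      obtain ⟨d₁, hd₁⟩ : ∃ d, d = ((a : ↥Q) : H) * (y i : H) * ((a : ↥Q) : H)⁻¹ * (y i : H)⁻¹ := ⟨_, rfl⟩
      obtain ⟨d₂, hd₂⟩ : ∃ d, d = ((b : ↥Q) : H) * (y i : H) * ((b : ↥Q) : H)⁻¹ * (y i : H)⁻¹ := ⟨_, rfl⟩
      have h1 := hcE _ (a : ↥Q).2 _ (y i).2
      have h2 := hcE _ (b : ↥Q).2 _ (y i).2
      rw [← hd₁, ← hd₂] at e1
      rw [← hd₁] at h1 ⊢
      rw [← hd₂] at h2 ⊢
      by_cases hd : d₁ ∈ E0
      · exact mul_mem hd (inv_mem (e1.1 hd))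
      · have a1 := (hE0c _ h1).resolve_left hd
        have a2 := (hE0c _ h2).resolve_left (fun h => hd (e1.2 h))
        have := mul_mem a1 (inv_mem a2)
        rwa [mul_inv_rev, ← mul_assoc, mul_inv_cancel_right] at this
  have h16 : Q1'.relIndex A ≤ 16 := by
    refine (Nat.card_le_card_of_injective (fun q : ↥A ⧸ Q1'.subgroupOf A => val q.out) fun q q' e => ?_).trans
      (le_of_eq (by rw [Nat.card_eq_fintype_card, Fintype.card_fun, Fintype.card_bool, Fintype.card_fin]; norm_num))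
    rw [← QuotientGroup.out_eq' q, ← QuotientGroup.out_eq' q', QuotientGroup.eq]
    have h1 := hkey _ _ e.symm
    letI : CommGroup ↥A :=
      { (inferInstance : Group ↥A) with mul_comm := fun a b => Subtype.ext (hAcomm a b a.2 b.2) }
    rwa [mul_comm] at h1
  omega

end CfsgLib.Known.AltE6
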