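import Cfsg.Agent.Lib.Known.AltE6.Toral
import Cfsg.Agent.Lib.Known.AltTorus.Sections

/-!
# The dimensions of the fixed points of elements of order three
-/

set_option autoImplicit false
set_option maxRecDepth 20000
set_option maxHeartbeats 1000000

namespace CfsgLib.Known.AltE6

open Cfsg.Lie (ChevalleyDatum chevE6)
open CfsgLib.Lie.Chev
open CfsgLib.Known.CyclicTorus (cvec wMat)

variable {F : Type*} [Field F]

/-- The value of a character on a vector. -/
def chiV (u : Fin 6 → Fˣ) (v : List ℤ) : Fˣ := ∏ j : Fin 6, u j ^ v.getD (j : ℕ) 0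

theorem chiV_crd (u : Fin 6 → Fˣ) (r : ℕ) : chiV u (crd r) = chi (D := chevE6) auxE6 u r := by
  refine Finset.prod_congr rfl fun j _ => ?_
  have e : (crd r).getD (j : ℕ) 0 = auxE6.coef (j : ℕ) r := by
    simp [crd, List.getD_eq_getElem?_getD, j.2]
  rw [e]

theorem exists_six {α : Type*} {l : List α} (h : l.length = 6) : ∃ a b c d e f, l = [a, b, c, d, e, f] := by
  match l, h with
  | [a, b, c, d, e, f], _ => exact ⟨a, b, c, d, e, f, rfl⟩

theorem dot6_eq {a b : List ℤ} (ha : a.length = 6) (hb : b.length = 6) :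
    dot6 a b = ∑ i : Fin 6, a.getD (i : ℕ) 0 * b.getD (i : ℕ) 0 := by
  obtain ⟨a0, a1, a2, a3, a4, a5, rfl⟩ := exists_six ha
  obtain ⟨b0, b1, b2, b3, b4, b5, rfl⟩ := exists_six hb
  simp [dot6, Fin.sum_univ_six]
  ring

theorem chiV_rowC (u : Fin 6 → Fˣ) {v : List ℤ} {M : List (List ℤ)} (hv : v.length = 6) (hM : M.length = 6) :
    chiV u (rowC v M) = chiV (fun i => chiV u (M.getD (i : ℕ) [])) v := by
  have e : ∀ j : Fin 6, (rowC v M).getD (j : ℕ) 0 = ∑ i : Fin 6, v.getD (i : ℕ) 0 * (M.getD (i : ℕ) []).getD (j : ℕ) 0 := by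
    intro j
    rw [rowC, List.getD_eq_getElem _ _ (by simp), List.getElem_map, List.getElem_range,
      dot6_eq hv (by simpa using hM)]
    refine Finset.sum_congr rfl fun i _ => congrArg (v.getD (i : ℕ) 0 * ·) ?_
    simp [List.getD_eq_getElem?_getD, hM, i.2]
  simp only [chiV, e, zpow_finset_sum, ← Finset.prod_zpow]
  rw [Finset.prod_comm]
  exact Finset.prod_congr rfl fun i _ => Finset.prod_congr rfl fun j _ => by rw [← zpow_mul, mul_comm]

theorem chiV_mul (u v : Fin 6 → Fˣ) (y : List ℤ) : chiV (u * v) y = chiV u y * chiV v y := by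
  simp [chiV, mul_zpow, Finset.prod_mul_distrib]

theorem chiV_norm (u : Fin 6 → Fˣ) (l : List ℕ) (j : ℕ) :
    chiV u (normRow l j) = chiV u (crd (chevE6.simple j)) *
      (chiV u (crd (actW l (chevE6.simple j))) * chiV u (crd (actW l (actW l (chevE6.simple j))))) := by
  simp only [chiV, ← Finset.prod_mul_distrib, ← zpow_add]
  refine Finset.prod_congr rfl fun i _ => congrArg (_ ^ ·) ?_
  simp [normRow, crd, List.getD_eq_getElem?_getD, i.2, List.getElem?_zipWith]

theorem crd_length (r : ℕ) : (crd r).length = 6 := by simp [crd]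

theorem normRow_length (l : List ℕ) (j : ℕ) : (normRow l j).length = 6 := by simp [normRow, crd]

theorem w3Proj_length : ∀ p ∈ w3Proj, p.2.length = 6 ∧ ∀ j < 6, (p.2.getD j []).length = 6 := by decide +kernel

theorem mem_vecs3 : ∀ (n : ℕ) (f : Fin n → Fin 3), (List.ofFn fun i => ((f i : ℕ) : ℤ)) ∈ vecs3 n
  | 0, _ => by simp [vecs3]
  | n + 1, f => by
    rw [List.ofFn_succ]
    refine List.mem_flatMap.2 ⟨_, mem_vecs3 n (fun i => f i.succ), ?_⟩
    obtain ⟨k, hk⟩ : ∃ k, k = f 0 := ⟨_, rfl⟩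
    rw [← hk]
    fin_cases k <;> simp

variable [Fintype F]

/-- The fixed points of a monomial element of order three over a tabulated Weyl group element. -/
theorem fixd_NS_three {p : ℕ} [Fact p.Prime] [CharP F p] (hp : 7 ≤ p) (h3 : 3 ∣ Fintype.card F - 1)
    (n : (chevRel certE6 F).NS) (i : Fin 81)
    (hi : (chevRel certE6 F).qmk n = wq (chevRel certE6 F) (threeT.wd i))
    (hn3 : (n : ↥(chevE6.group F)) ^ 3 = 1) (hn1 : (n : ↥(chevE6.group F)) ≠ 1) :
    fixd (rep chevE6 F (n : ↥(chevE6.group F))) ∈ ([24, 28, 30, 36, 46] : List ℕ) := by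
  classical
  obtain ⟨R, hR⟩ : ∃ R : Rel chevE6 auxE6 F ↥(chevE6.group F), R = chevRel certE6 F := ⟨_, rfl⟩
  obtain ⟨l, hl⟩ : ∃ l, l = threeT.wd i := ⟨_, rfl⟩
  subst hR
  have hn3' : n ^ 3 = 1 := Subtype.ext (by rw [Subgroup.coe_pow]; exact hn3)
  obtain ⟨σ, hσ⟩ : ∃ σ, σ = (chevRel certE6 F).nsPerm n := ⟨_, rfl⟩
  have hlin : (chevRel certE6 F).IsLin σ := hσ ▸ (chevRel certE6 F).isLin_nsPerm n
  have hact : ∀ r : Fin chevE6.nroots, (σ r : ℕ) = actW l r := fun r => by
    rw [hσ, ← (chevRel certE6 F).qact_qmk, hi, qact_wq, hl]; rfl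
  have hkey : keyW chevE6 auxE6 (threeT.wd i ++ threeT.wd i ++ threeT.wd i) = keyW chevE6 auxE6 [] := by
    rw [← key_wq (chevRel certE6 F), ← key_wq (chevRel certE6 F), wq_append, wq_append, ← hi, wq_nil,
      ← map_mul, ← map_mul, ← pow_two, ← pow_succ, hn3', map_one]
  obtain ⟨q, hq, hqi⟩ := List.mem_map.1 (w3Proj_cover i hkey)
  have hwd : w3Words.getD q.1 [] = l := by rw [hqi, hl]; rfl
  have hchk := List.all_eq_true.1 w3Proj_ok q hq
  rw [Bool.and_eq_true, hwd] at hchk
  obtain ⟨hproj, hdims⟩ := hchk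
  simp only [chkProj, Bool.and_eq_true, List.all_eq_true, List.mem_range, beq_iff_eq] at hproj
  obtain ⟨⟨hPfix, hPnorm⟩, hProw⟩ := hproj
  obtain ⟨hP6, hProw6⟩ := w3Proj_length q hq
  obtain ⟨P, hP⟩ : ∃ P, P = q.2 := ⟨_, rfl⟩
  rw [← hP] at hPfix hPnorm hProw hP6 hProw6
  -- the monomial matrix
  obtain ⟨a, u₀, ha, hu₀⟩ := exists_monMatrix F certE6 symE6 n
  rw [← hσ] at ha
  obtain ⟨u, hu⟩ : ∃ u : Fin 6 → Fˣ, ∀ r : Fin chevE6.nroots, a r ^ 4 = chi (D := chevE6) auxE6 u (r : ℕ) :=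
    ⟨u₀, hu₀⟩
  obtain ⟨hσ3, horb⟩ : σ * σ * σ = 1 ∧ ∀ r, a (σ (σ r)) * a (σ r) * a r = 1 := by
    have e := (chevRel certE6 F).mat_one
    rw [← hn3, pow_succ, pow_two, (chevRel certE6 F).mat_mul, (chevRel certE6 F).mat_mul, ha,
      monMatrix_mul _ hlin, monMatrix_mul _ ((chevRel certE6 F).isLin_mul hlin hlin)] at e
    have e1 : monMatrix (chevRel certE6 F) 1 (fun _ => (1 : Fˣ)) = 1 := by
      rw [monMatrix, cartBlock_one, monP_one, Matrix.fromBlocks_one]
    rw [← e1] at e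
    exact ⟨(monMatrix_inj _ e).1, fun r => congrFun (monMatrix_inj _ e).2 r⟩
  have hσ3' : ∀ r, σ (σ (σ r)) = r := fun r => congrArg (fun s : Equiv.Perm _ => s r) hσ3
  -- the characters
  have hprod : ∀ r : Fin chevE6.nroots,
      chiV u (crd (r : ℕ)) * (chiV u (crd (actW l r)) * chiV u (crd (actW l (actW l r)))) = 1 := by
    intro r
    rw [← hact, ← hact, chiV_crd, chiV_crd, chiV_crd, ← hu, ← hu, ← hu, ← mul_pow, ← mul_pow,
      show a r * (a (σ r) * a (σ (σ r))) = a (σ (σ r)) * a (σ r) * a r by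
        rw [mul_comm (a r), mul_comm (a (σ r)), mul_assoc], horb, one_pow]
  have hsimple : ∀ j < 6, ∃ r : Fin chevE6.nroots, (r : ℕ) = chevE6.simple j := fun j hj =>
    ⟨(chevRel certE6 F).sroot ⟨j, hj⟩, rfl⟩
  have hNu : ∀ j < 6, chiV u (normRow l j) = 1 := fun j hj => by
    obtain ⟨r, hr⟩ := hsimple j hj
    rw [chiV_norm, ← hr, hprod]
  -- vectors of the fixed lattice have values of order three
  obtain ⟨M, hM⟩ : ∃ M, M = (List.range 6).map fun k => crd (actW l (chevE6.simple k)) := ⟨_, rfl⟩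
  have hcube : ∀ v : List ℤ, v.length = 6 → rowC v M = v → chiV u v ^ 3 = 1 := by
    intro v hv hfix
    have hMg : ∀ k : Fin 6, M.getD (k : ℕ) [] = crd (actW l (chevE6.simple k)) := fun k => by
      rw [hM]; simp [List.getD_eq_getElem?_getD, k.2]
    obtain ⟨y, hy⟩ : ∃ y : Fin 6 → Fˣ, y = fun k : Fin 6 => chiV u (crd (actW l (chevE6.simple (k : ℕ)))) := ⟨_, rfl⟩
    have e1 : chiV y v = chiV u v := by
      conv_rhs => rw [← hfix, chiV_rowC u hv (by rw [hM]; simp)]
      simp only [hMg, hy]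
    have e2 : chiV (fun k : Fin 6 => chiV y (crd (actW l (chevE6.simple (k : ℕ))))) v = chiV y v := by
      conv_rhs => rw [← hfix, chiV_rowC y hv (by rw [hM]; simp)]
      simp only [hMg]
    have e3 : (u * y * fun k : Fin 6 => chiV y (crd (actW l (chevE6.simple (k : ℕ))))) = fun _ => 1 := by
      funext k
      obtain ⟨r, hr⟩ := hsimple k k.2
      have h1 := hprod r
      have hz : chiV u (crd (actW l (actW l (r : ℕ)))) = chiV y (crd (actW l (r : ℕ))) := by
        rw [← hact, ← hact, chiV_crd, chiV_crd]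
        refine (chi_comp (chevRel certE6 F) hlin u (σ r)).trans ?_
        refine congrArg (fun z => chi (D := chevE6) auxE6 z (σ r : ℕ)) (funext fun m => ?_)
        rw [hy]
        simp only [← hact, chiV_crd]
        exact congrArg _ (hact ((chevRel certE6 F).sroot m))
      have hr0 : chiV u (crd (r : ℕ)) = u k := by
        rw [chiV_crd]
        show (∏ j : Fin 6, u j ^ auxE6.coef (j : ℕ) (r : ℕ)) = u k
        rw [Finset.prod_eq_single k]
        · rw [hr, certE6.coef_simple k.2 k.2, if_pos rfl, zpow_one]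
        · intro m _ hm
          rw [hr, certE6.coef_simple k.2 m.2, if_neg (fun e => hm (Fin.ext e)), zpow_zero]
        · simp
      rw [hz, hr0, hr] at h1
      simp only [Pi.mul_apply]
      rw [show y k = chiV u (crd (actW l (chevE6.simple (k : ℕ)))) from congrFun hy k, mul_assoc]
      exact h1
    have e4 := congrArg (fun z => chiV z v) e3
    simp only [chiV_mul, e2, e1] at e4
    rw [pow_succ, pow_two, e4]
    simp [chiV]
  -- the exponents
  obtain ⟨ζ, hζ⟩ : ∃ ζ : Fˣ, IsPrimitiveRoot ζ 3 := by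
    haveI : Fact (Nat.Prime 3) := ⟨Nat.prime_three⟩
    obtain ⟨z, hz⟩ := exists_prime_orderOf_dvd_card' (G := Fˣ) 3 (by
      rwa [Nat.card_units, Nat.card_eq_fintype_card])
    exact ⟨z, hz ▸ IsPrimitiveRoot.orderOf z⟩
  have hPcube : ∀ j : Fin 6, ∃ k < 3, ζ ^ k = chiV u (P.getD (j : ℕ) []) := fun j => by
    have hc := hcube _ (hProw6 j j.2) (hM ▸ hProw j j.2)
    obtain ⟨k, hk, hk'⟩ := (hζ.map_of_injective (f := Units.coeHom F) Units.val_injective).eq_pow_of_pow_eq_one
      (ξ := (chiV u (P.getD (j : ℕ) []) : F)) (by rw [← Units.val_pow_eq_pow_val, hc, Units.val_one])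
    exact ⟨k, hk, Units.ext (by rw [Units.val_pow_eq_pow_val]; exact hk')⟩
  choose e he he' using hPcube
  obtain ⟨E, hE⟩ : ∃ E : List ℤ, E = List.ofFn fun j : Fin 6 => ((e j : ℕ) : ℤ) := ⟨_, rfl⟩
  have hEmem : E ∈ vecs3 6 := hE ▸ mem_vecs3 6 fun j => ⟨e j, he j⟩
  have hEget : ∀ j : Fin 6, E.getD (j : ℕ) 0 = (e j : ℤ) := fun j => by
    rw [hE, List.getD_eq_getElem _ _ (by simp), List.getElem_ofFn]
  have hval : ∀ v : List ℤ, v.length = 6 → rowC v P = v → (chiV u v = 1 ↔ dot6 v E % 3 = 0) := by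
    intro v hv hfix
    have h1 : chiV u v = ζ ^ dot6 v E := by
      conv_lhs => rw [← hfix, chiV_rowC u hv hP6]
      rw [dot6_eq hv (by rw [hE]; simp), zpow_finset_sum]
      refine Finset.prod_congr rfl fun j _ => ?_
      show chiV u (P.getD (j : ℕ) []) ^ v.getD (j : ℕ) 0 = _
      rw [← he', hEget, ← zpow_natCast, ← zpow_mul, mul_comm]
    rw [h1, hζ.zpow_eq_one_iff_dvd, Int.dvd_iff_emod_eq_zero]
    rfl
  simp only [chkDims, Bool.and_eq_true, decide_eq_true_eq, List.all_eq_true, Bool.or_eq_true, Bool.not_eq_true',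
    beq_iff_eq] at hdims
  obtain ⟨⟨⟨hT0, hT18⟩, hT3⟩, hD⟩ := hdims
  have hfr : ∀ r : Fin chevE6.nroots, σ r = r → (r : ℕ) ∈ fixR l := fun r hr => by
    rw [fixR, List.mem_filter, List.mem_range, beq_iff_eq, ← hact, hr]
    exact ⟨r.2, rfl⟩
  have hfixv : ∀ r : Fin chevE6.nroots, σ r = r → (a r = 1 ↔ dot6 (crd (r : ℕ)) E % 3 = 0) := fun r hr => by
    rw [← hval _ (crd_length _) (hPfix _ (hfr r hr)), chiV_crd, ← hu]
    have h := horb r
    rw [hr, hr, ← pow_two, ← pow_succ] at h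
    constructor
    · intro h1; rw [h1, one_pow]
    · intro h4; rwa [pow_succ, h, one_mul] at h4
  -- the Cartan algebra
  have hdB : fixd (Matrix.toLin' (cartBlock (chevRel certE6 F) σ)) = (traceSum l / 3).toNat := by
    obtain ⟨B, hB⟩ : ∃ B, B = cartBlock (chevRel certE6 F) σ := ⟨_, rfl⟩
    have hB3 : B ^ 3 = 1 := by
      rw [hB, pow_succ, pow_two, ← cartBlock_mul _ hlin, ← cartBlock_mul _ ((chevRel certE6 F).isLin_mul hlin hlin),
        hσ3, cartBlock_one]
    have h3F : (3 : F) ≠ 0 := by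
      intro h
      have h' : ((3 : ℕ) : F) = 0 := by exact_mod_cast h
      rw [CharP.cast_eq_zero_iff F p] at h'
      have := Nat.le_of_dvd (by norm_num) h'
      omega
    have htr : ∀ τ : Equiv.Perm (Fin chevE6.nroots), (cartBlock (chevRel certE6 F) τ).trace =
        ((∑ m : Fin 6, auxE6.coef (m : ℕ) (τ ((chevRel certE6 F).sroot m) : ℕ) : ℤ) : F) := by
      intro τ
      rw [cartBlock, Matrix.trace_transpose, Int.cast_sum]
      rfl
    have h := fixd_cube B hB3 h3F
    rw [← hB]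
    obtain ⟨d, hd⟩ : ∃ d, d = fixd (Matrix.toLin' B) := ⟨_, rfl⟩
    have hd6 : d ≤ 6 := by
      rw [hd]
      refine (fixd_le _).trans (le_of_eq ?_)
      rw [Module.finrank_pi, Fintype.card_fin]; rfl
    rw [← hd] at h ⊢
    have hs : (Fintype.card (Fin chevE6.rank) : F) + B.trace + (B ^ 2).trace = ((traceSum l : ℤ) : F) := by
      rw [hB, pow_two, ← cartBlock_mul _ hlin, htr, htr, Fintype.card_fin, traceSum, Int.cast_add, Int.cast_add]
      refine congrArg₂ (· + ·) (congrArg₂ (· + ·) (by show ((6 : ℕ) : F) = _; norm_num) (congrArg _ ?_)) (congrArg _ ?_)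
      · rw [Fin.sum_univ_six]
        simp only [hact, List.range_succ, List.range_zero, List.map_append, List.sum_append, List.map_cons,
          List.map_nil, List.sum_cons, List.sum_nil, List.nil_append, add_zero, zero_add]
        rfl
      · rw [Fin.sum_univ_six]
        simp only [Equiv.Perm.mul_apply, hact, List.range_succ, List.range_zero, List.map_append, List.sum_append,
          List.map_cons, List.map_nil, List.sum_cons, List.sum_nil, List.nil_append, add_zero, zero_add]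
        rfl
    rw [hs] at h
    obtain ⟨t, ht⟩ : ∃ t : ℕ, t = (traceSum l / 3).toNat := ⟨_, rfl⟩
    have hTt : traceSum l = ((3 * t : ℕ) : ℤ) := by omega
    rw [hTt, Int.cast_natCast, Nat.cast_mul] at h
    rw [← ht]
    exact CharP.natCast_injOn_Iio F p (Set.mem_Iio.2 (by omega)) (Set.mem_Iio.2 (by omega))
      (mul_left_cancel₀ h3F (by simpa using h))
  -- the roots
  obtain ⟨R0, hR0⟩ : ∃ R0 : Finset (Fin chevE6.nroots), R0 = Finset.univ.filter (fun r => σ r = r ∧ a r = 1) ∪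
      Finset.univ.filter (fun r => (r : ℕ) < (σ r : ℕ) ∧ (r : ℕ) < (σ (σ r) : ℕ)) := ⟨_, rfl⟩
  have hmem : ∀ r, r ∈ R0 ↔ (σ r = r ∧ a r = 1) ∨ ((r : ℕ) < (σ r : ℕ) ∧ (r : ℕ) < (σ (σ r) : ℕ)) := fun r => by
    simp [hR0]
  have hdP : fixd (Matrix.toLin' (monP σ a)) = R0.card := by
    refine fixd_monP σ a hσ3' horb R0 (fun r hr hf => ?_) (fun r hf h1 => (hmem r).2 (Or.inl ⟨hf, h1⟩))
      (fun r hr hne => ?_) (fun r hne => ?_)
    · rcases (hmem r).1 hr with h | h
      · exact h.2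
      · rw [hf] at h; omega
    · rcases (hmem r).1 hr with h | h
      · exact absurd h.1 hne
      refine ⟨fun h' => ?_, fun h' => ?_⟩ <;> rcases (hmem _).1 h' with h2 | h2
      · exact hne (σ.injective h2.1)
      · rw [hσ3'] at h2; omega
      · exact hne (σ.injective (σ.injective h2.1))
      · rw [hσ3'] at h2; omega
    · have h1 : (σ r : ℕ) ≠ r := fun h => hne (Fin.ext h)
      have h2 : (σ (σ r) : ℕ) ≠ r := fun h => hne (by
        have h' : σ (σ r) = r := Fin.ext h
        calc σ r = σ (σ (σ r)) := by rw [h']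
          _ = r := hσ3' r)
      have h3 : (σ (σ r) : ℕ) ≠ (σ r : ℕ) := fun h => hne (σ.injective (Fin.ext h))
      rcases Nat.lt_or_ge (r : ℕ) (σ r : ℕ) with ha1 | ha1 <;>
        rcases Nat.lt_or_ge (r : ℕ) (σ (σ r) : ℕ) with ha2 | ha2 <;>
        rcases Nat.lt_or_ge (σ r : ℕ) (σ (σ r) : ℕ) with ha3 | ha3
      all_goals first
        | exact Or.inl ((hmem r).2 (Or.inr ⟨by omega, by omega⟩))
        | exact Or.inr (Or.inl ((hmem _).2 (Or.inr ⟨by omega, by rw [hσ3']; omega⟩)))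
        | exact Or.inr (Or.inr ((hmem _).2 (Or.inr ⟨by rw [hσ3']; omega, by rw [hσ3']; omega⟩)))
  have hcount : R0.card = ((fixR l).countP fun r => decide (dot6 (crd r) E % 3 = 0)) + (minR l).length := by
    rw [hR0, Finset.card_union_of_disjoint]
    rotate_left
    · rw [Finset.disjoint_filter]
      intro r _ h1 h2
      rw [h1.1] at h2
      omega
    · congr 1
      · rw [fixR, List.countP_filter]
        refine card_filter_countP (n := chevE6.nroots) _ _ fun r => ?_
        simp only [Bool.and_eq_true, decide_eq_true_eq, beq_iff_eq, ← hact]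
        exact ⟨fun h => ⟨(hfixv r h.1).1 h.2, congrArg Fin.val h.1⟩,
          fun h => ⟨Fin.ext h.2, (hfixv r (Fin.ext h.2)).2 h.1⟩⟩
      · rw [minR, ← List.countP_eq_length_filter]
        refine card_filter_countP (n := chevE6.nroots) _ _ fun r => ?_
        simp only [Bool.and_eq_true, nat_blt_iff]
        rw [← hact, ← hact]
  rcases hD E hEmem with (h | h) | ⟨h72, h0⟩
  · exfalso
    rw [List.all_eq_false] at h
    obtain ⟨j, hj, hj'⟩ := h
    rw [List.mem_range] at hj
    exact hj' (decide_eq_true ((hval _ (normRow_length l j) (hPnorm j hj)).1 (hNu j hj)))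
  · rw [rep_apply certE6, ha, monMatrix, fixd_fromBlocks, hdB, hdP, hcount, add_comm (List.countP _ _), ← add_assoc]
    simpa using h
  · exfalso
    have hall : ∀ r, σ r = r := by
      intro r
      have hsub : fixR l = List.range 72 := by
        refine List.filter_eq_self.2 fun x hx => ?_
        by_contra hne
        have hlt : (fixR l).length < (List.range 72).length :=
          List.length_filter_lt_length_iff_exists.2 ⟨x, hx, by simpa using hne⟩
        rw [h72, List.length_range] at hlt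
        omega
      have : (r : ℕ) ∈ fixR l := hsub ▸ List.mem_range.2 r.2
      rw [fixR, List.mem_filter, beq_iff_eq, ← hact] at this
      exact Fin.ext this.2
    have hσ1 : σ = 1 := Equiv.ext hall
    have ha1 : a = fun _ => 1 := funext fun r => (hfixv r (hall r)).2 (by
      rw [h0]
      have : dot6 (crd (r : ℕ)) [0, 0, 0, 0, 0, 0] = 0 := by
        rw [dot6_eq (crd_length _) rfl, Fin.sum_univ_six]; simp
      rw [this]; rfl)
    refine hn1 (chevRel_injective certE6 F ((chevRel certE6 F).θ_eq_of_mat ?_))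
    rw [ha, hσ1, ha1, (chevRel certE6 F).mat_one, monMatrix, cartBlock_one, monP_one, Matrix.fromBlocks_one]

/-- The fixed points of an element of order three have dimension 24, 28, 30, 36 or 46. -/
theorem fixd_three {p : ℕ} [Fact p.Prime] [CharP F p] (hp : 7 ≤ p) (h3 : 3 ∣ Fintype.card F - 1)
    {x : ↥(chevE6.group F)} (hx : x ^ 3 = 1) (hx1 : x ≠ 1) :
    fixd (rep chevE6 F x) ∈ ([24, 28, 30, 36, 46] : List ℕ) := by
  haveI : Fact (Nat.Prime 3) := ⟨Nat.prime_three⟩
  haveI : Finite ↥(chevE6.group F) := (chevRel certE6 F).Finite_of_field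
  haveI := finite_WQ (chevRel certE6 F)
  have hP : IsPGroup 3 (Subgroup.zpowers x) := AltTorus.isPGroup_zpowers hx
  obtain ⟨g, hg⟩ := AltTorus.exists_conj_into (not_dvd_index_NS F h3 (by norm_num)) hP
  obtain ⟨n₀, hn₀⟩ : ∃ n₀ : (chevRel certE6 F).NS, (n₀ : ↥(chevE6.group F)) = g * x * g⁻¹ :=
    ⟨⟨_, hg x (Subgroup.mem_zpowers x)⟩, rfl⟩
  have hn03 : n₀ ^ 3 = 1 := Subtype.ext (by rw [Subgroup.coe_pow, hn₀, conj_pow, hx, mul_one, mul_inv_cancel]; rfl)
  have hq3 : IsPGroup 3 (Subgroup.zpowers ((chevRel certE6 F).qmk n₀)) :=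
    AltTorus.isPGroup_zpowers (by rw [← map_pow, hn03, map_one])
  obtain ⟨w, hw⟩ := threeT_ok.conj_into (chevRel certE6 F) (p := 3) (N := 640) (card_WQ_E6 _) (by norm_num) hq3
  obtain ⟨m, hm⟩ := (chevRel certE6 F).qmk_surjective w
  obtain ⟨i, hi⟩ := threeT_ok.exists_of_mem _ (hw _ (Subgroup.mem_zpowers _))
  have h := fixd_NS_three hp h3 (m * n₀ * m⁻¹) i (by rw [map_mul, map_mul, map_inv, hm, hi])
    (by rw [← Subgroup.coe_pow, conj_pow, hn03, mul_one, mul_inv_cancel, OneMemClass.coe_one])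
    (by
      rw [Subgroup.coe_mul, Subgroup.coe_mul, Subgroup.coe_inv, hn₀, ne_eq, conj_eq_one_iff, conj_eq_one_iff]
      exact hx1)
  rwa [Subgroup.coe_mul, Subgroup.coe_mul, Subgroup.coe_inv, fixd_rep_conj, hn₀, fixd_rep_conj] at h

end CfsgLib.Known.AltE6
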