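import Cfsg.Agent.Lib.Known.AltE6.Central
import Cfsg.Agent.Lib.Known.AltE6.Three
import Cfsg.Agent.Lib.Known.AltTorus.Counting
import Cfsg.Agent.Lib.Char.Exceptional.AltMultiplierBound

/-!
# The minimal cover inside a group of type E6, and its kernel
-/

set_option autoImplicit false

namespace CfsgLib.Known.AltE6

open Module
open Cfsg.Lie (ChevalleyDatum chevE6)
open CfsgLib.Lie.Chev

/-- The properties used of a minimal cover acting on the Lie algebra. -/
structure Setup {L V H : Type*} [Field L] [AddCommGroup V] [Module L V] [Group H]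
    (π : H →* alternatingGroup (Fin 12)) (ρ : H →* End L V) (p : ℕ) : Prop where
  cover : MinCover π
  inj : Function.Injective ρ
  prime : p.Prime
  seven : 7 ≤ p
  two : (2 : L) ≠ 0
  root : ∃ ζ : L, IsPrimitiveRoot ζ 3
  dim : finrank L V = 78
  inv : ∀ u : H, u * u = 1 → u ≠ 1 → fixd (ρ u) = 46 ∨ fixd (ρ u) = 38
  three : ∀ x : H, x ^ 3 = 1 → x ≠ 1 → fixd (ρ x) ∈ ([24, 28, 30, 36, 46] : List ℕ)
  central : ∀ l : ℕ, l.Prime → l ≠ p → ∀ Q : Subgroup H, Q.Normal → IsPGroup l Q → Q ≤ Subgroup.center H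

theorem exists_min {G : Type*} [Group G] [Finite G] (h : AltTorus.AltSect G 12) :
    ∃ (H : Subgroup G) (π : ↥H →* alternatingGroup (Fin 12)), MinCover π := by
  classical
  suffices hs : ∀ n (H : Subgroup G) (π : ↥H →* alternatingGroup (Fin 12)), Function.Surjective π →
      Nat.card H = n → ∃ (H' : Subgroup G) (π' : ↥H' →* alternatingGroup (Fin 12)), MinCover π' by
    obtain ⟨H, π, hπ⟩ := h
    exact hs _ H π hπ rfl
  intro n
  induction n using Nat.strong_induction_on with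
  | _ n ih =>
  intro H π hπ hn
  by_cases hmin : ∀ M : Subgroup ↥H, M.map π = ⊤ → M = ⊤
  · exact ⟨H, π, hπ, hmin⟩
  push Not at hmin
  obtain ⟨M, hM, hne⟩ := hmin
  obtain ⟨e, -⟩ : ∃ e : ↥M ≃* ↥(M.map H.subtype), True :=
    ⟨M.equivMapOfInjective H.subtype H.subtype_injective, trivial⟩
  refine ih _ ?_ (M.map H.subtype) ((π.comp M.subtype).comp e.symm.toMonoidHom) (fun a => ?_) rfl
  · rw [← Nat.card_congr e.toEquiv, ← hn]
    exact lt_of_le_of_ne (Subgroup.card_le_card_group M) fun h => hne (Subgroup.eq_top_of_card_eq _ h)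
  · obtain ⟨m, hm, rfl⟩ : a ∈ M.map π := hM ▸ Subgroup.mem_top a
    exact ⟨e ⟨m, hm⟩, by simp⟩

/-- A section of degree twelve gives a setup. -/
theorem exists_setup {F : Type*} [Field F] [Fintype F] {p : ℕ} [Fact p.Prime] [CharP F p] (hp : 7 ≤ p)
    (h : AltTorus.AltSect ↥(chevE6.group F) 12) :
    ∃ (L : Type) (_ : Field L) (_ : Fintype L) (H : Type) (_ : Group H) (_ : Finite H)
      (π : H →* alternatingGroup (Fin 12)) (ρ : H →* End L (chevE6.Idx → L)), Setup π ρ p := by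
  classical
  haveI : Finite ↥(chevE6.group F) := (chevRel certE6 F).Finite_of_field
  obtain ⟨N, hN⟩ : ∃ N, N = Nat.card ↥(chevE6.group F) + 3 := ⟨_, rfl⟩
  haveI : NeZero N.factorial := ⟨Nat.factorial_ne_zero N⟩
  obtain ⟨F1, _, _, j, hF1⟩ := AltTorus.exists_ext F N.factorial
  obtain ⟨L, _, _, ι, hL⟩ := AltTorus.exists_ext F1 2
  haveI : CharP F1 p := charP_of_injective_ringHom j.injective p
  haveI : CharP L p := charP_of_injective_ringHom ι.injective p
  haveI : Finite ↥(chevE6.group F1) := (chevRel certE6 F1).Finite_of_field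
  obtain ⟨H₁, π₁, hπ₁⟩ := h
  obtain ⟨H₂, hH₂⟩ : ∃ H₂, H₂ = H₁.map (ChevFixed.groupMap chevE6 j) := ⟨_, rfl⟩
  have hcard2 : Nat.card H₂ ∣ Nat.card ↥(chevE6.group F) := by
    rw [hH₂, Subgroup.card_map_of_injective (ChevFixed.groupMap_injective j)]
    exact Subgroup.card_subgroup_dvd_card H₁
  obtain ⟨H₀, π₀, hH₀⟩ : ∃ (H₀ : Subgroup ↥H₂) (π : ↥H₀ →* alternatingGroup (Fin 12)), MinCover π := by
    refine exists_min ⟨⊤, ?_⟩
    subst hH₂
    refine ⟨(π₁.comp (H₁.equivMapOfInjective _ (ChevFixed.groupMap_injective j)).symm.toMonoidHom).comp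
      (⊤ : Subgroup _).subtype, ?_⟩
    intro a
    obtain ⟨x, hx⟩ := hπ₁ a
    exact ⟨⟨H₁.equivMapOfInjective _ (ChevFixed.groupMap_injective j) x, Subgroup.mem_top _⟩, by simp [hx]⟩
  obtain ⟨ψ, hψ⟩ : ∃ ψ : ↥H₀ →* ↥(chevE6.group F1), ψ = H₂.subtype.comp H₀.subtype := ⟨_, rfl⟩
  have hψi : Function.Injective ψ := hψ ▸ H₂.subtype_injective.comp H₀.subtype_injective
  obtain ⟨ρ, hρ⟩ : ∃ ρ : ↥H₀ →* End L (chevE6.Idx → L),
      ρ = (rep chevE6 L).comp ((ChevFixed.groupMap chevE6 ι).comp ψ) := ⟨_, rfl⟩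
  have hp2 : p ≠ 2 := by omega
  have hp3 : p ≠ 3 := by omega
  have hoddF : Odd (Fintype.card F) := by
    obtain ⟨a, ha, hq⟩ := FiniteField.card F p
    rw [hq]
    exact (ha.odd_of_ne_two hp2).pow
  have hodd1 : Odd (Fintype.card F1) := hF1 ▸ hoddF.pow
  have hoddL : Odd (Fintype.card L) := hL ▸ hodd1.pow
  have hdvd : ∀ l : ℕ, l.Prime → l ≠ p → l ≤ N → l ∣ Fintype.card F1 - 1 := fun l hl hne hle =>
    hF1 ▸ AltTorus.dvd_pow_sub_one_of_char (p := p) hl (Ne.symm hne)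
      (Nat.dvd_factorial (by have := hl.two_le; omega) (by omega))
  have h4 : 4 ∣ Fintype.card F1 - 1 := by
    obtain ⟨m, hm⟩ := hoddF
    obtain ⟨k, hk⟩ : 2 ∣ N.factorial := Nat.dvd_factorial (by norm_num) (by omega)
    rw [hF1, hk, pow_mul, hm]
    exact Dvd.dvd.trans (show 4 ∣ (2 * m + 1) ^ 2 - 1 from ⟨m * (m + 1), by rw [show (2 * m + 1) ^ 2 = 4 * (m * (m + 1)) + 1 by ring]; omega⟩) (by simpa using Nat.sub_dvd_pow_sub_pow ((2 * m + 1) ^ 2) 1 k)
  have h3L : 3 ∣ Fintype.card L - 1 := by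
    rw [hL]
    exact (hdvd 3 Nat.prime_three hp3.symm (by omega)).trans
      (by simpa using Nat.sub_dvd_pow_sub_pow (Fintype.card F1) 1 2)
  refine ⟨L, inferInstance, inferInstance, ↥H₀, inferInstance, inferInstance, π₀, ρ,
    ⟨hH₀, ?_, Fact.out, hp, Lie.OddInvolution.two_ne_zero_of_odd hoddL, ?_, ?_, ?_, ?_, ?_⟩⟩
  · rw [hρ]
    exact (rep_injective _ _).comp ((ChevFixed.groupMap_injective ι).comp hψi)
  · haveI : Fact (Nat.Prime 3) := ⟨Nat.prime_three⟩
    obtain ⟨z, hz⟩ := exists_prime_orderOf_dvd_card' (G := Lˣ) 3 (by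
      rwa [Nat.card_units, Nat.card_eq_fintype_card])
    exact ⟨z, (hz ▸ IsPrimitiveRoot.orderOf z).map_of_injective (f := Units.coeHom L) Units.val_injective⟩
  · rw [Module.finrank_pi, Fintype.card_sum, Fintype.card_fin, Fintype.card_fin]; rfl
  · intro u hu hu1
    obtain ⟨y, hy⟩ := exists_conj_HS ι hL hodd1 (ψ u) (by rw [← map_mul, hu, map_one])
    have h := fixd_HS_involution (Lie.OddInvolution.two_ne_zero_of_odd hoddL) hy
      (by rw [← pow_two, conj_pow, ← map_pow, ← map_pow, pow_two, hu, map_one, map_one, mul_one, mul_inv_cancel])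
      (by
        rw [ne_eq, conj_eq_one_iff, ← map_one (ChevFixed.groupMap chevE6 ι),
          (ChevFixed.groupMap_injective ι).eq_iff, ← map_one ψ, hψi.eq_iff]
        exact hu1)
    rw [fixd_rep_conj] at h
    rw [hρ]; exact h
  · intro x hx hx1
    rw [hρ]
    refine fixd_three (p := p) hp h3L (by rw [← map_pow, hx, map_one]) ?_
    rw [ne_eq, MonoidHom.comp_apply, ← map_one (ChevFixed.groupMap chevE6 ι), (ChevFixed.groupMap_injective ι).eq_iff, ← map_one ψ,
      hψi.eq_iff]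
    exact hx1
  · intro l hl hne Q hQn hQ
    haveI : Fact l.Prime := ⟨hl⟩
    by_cases hle : l ≤ N
    · exact le_center_of_normal_pGroup (hdvd l hl hne hle) (fun _ => h4) hH₀ ψ hψi Q hQn hQ
    have hbot : Q = ⊥ := by
      obtain ⟨n, hn⟩ := IsPGroup.iff_card.1 hQ
      refine Subgroup.eq_bot_of_card_eq _ ?_
      rcases n with _ | n
      · rw [hn, pow_zero]
      have h1 := ((Subgroup.card_subgroup_dvd_card Q).trans (Subgroup.card_subgroup_dvd_card H₀)).trans hcard2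
      have h2 := Nat.le_of_dvd Nat.card_pos ((dvd_pow_self l n.succ_ne_zero).trans (hn ▸ h1))
      omega
    exact hbot ▸ bot_le

section Kernel

variable {L V H : Type*} [Field L] [AddCommGroup V] [Module L V] [Group H] [Finite H]
  {π : H →* alternatingGroup (Fin 12)} {ρ : H →* End L V} {p : ℕ}

/-- The elements of order prime to the characteristic in the kernel. -/
theorem Setup.kernel (hS : Setup π ρ p) :
    (∀ x ∈ π.ker, ∀ k : ℕ, x ^ (3 ^ k) = 1 → x = 1) ∧
      ((∀ x ∈ π.ker, ∀ k : ℕ, x ^ (2 ^ k) = 1 → x = 1) ∨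
        ∃ z ∈ π.ker, z ≠ 1 ∧ z * z = 1 ∧ z ∈ Subgroup.center H ∧
          (∀ x ∈ π.ker, ∀ k : ℕ, x ^ (2 ^ k) = 1 → x = 1 ∨ x = z) ∧
          ∃ N : Subgroup H, N.Normal ∧ N ≤ π.ker ∧ z ∉ N ∧ (∀ x ∈ π.ker, x ∈ N ∨ z⁻¹ * x ∈ N) ∧
            ∀ x ∈ N, ∀ k : ℕ, x ^ (2 ^ k) = 1 → x = 1) := by
  classical
  haveI : Fact p.Prime := ⟨hS.prime⟩
  have hnorm : ∀ (l : ℕ) [Fact l.Prime] (P : Sylow l π.ker), ((P : Subgroup π.ker).map π.ker.subtype).Normal := by
    intro l _ P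
    refine Subgroup.normalizer_eq_top_iff.1 (hS.cover.min _ ?_)
    have h1 := congrArg (Subgroup.map π) (Sylow.normalizer_sup_eq_top P)
    rwa [Subgroup.map_sup, (Subgroup.map_eq_bot_iff π.ker).mpr le_rfl, sup_bot_eq, ← MonoidHom.range_eq_map,
      MonoidHom.range_eq_top.mpr hS.cover.surj] at h1
  have hcen : ∀ (l : ℕ), l.Prime → l ≠ p → ∀ x ∈ π.ker, ∀ k : ℕ, x ^ (l ^ k) = 1 → x ∈ Subgroup.center H := by
    intro l hl hne x hx k hk
    haveI : Fact l.Prime := ⟨hl⟩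
    have hP : IsPGroup l (Subgroup.zpowers (⟨x, hx⟩ : π.ker)) := by
      rintro ⟨z, m, rfl⟩
      refine ⟨k, Subtype.ext (Subtype.ext ?_)⟩
      show (x ^ m) ^ (l ^ k) = 1
      rw [← zpow_natCast, ← zpow_mul, mul_comm, zpow_mul, zpow_natCast, hk, one_zpow]
    obtain ⟨P, hP'⟩ := hP.exists_le_sylow
    exact hS.central l hl hne _ (hnorm l P) (P.2.map _) ⟨⟨x, hx⟩, hP' (Subgroup.mem_zpowers _), rfl⟩
  obtain ⟨P⟩ : Nonempty (Sylow p π.ker) := inferInstance
  obtain ⟨N, hN⟩ : ∃ N, N = (P : Subgroup π.ker).map π.ker.subtype := ⟨_, rfl⟩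
  haveI : N.Normal := hN ▸ hnorm p P
  have hNK : N ≤ π.ker := hN ▸ Subgroup.map_subtype_le _
  have hKle : π.ker ≤ Subgroup.center H ⊔ N := by
    rw [← Subgroup.subgroupOf_eq_top, ← Subgroup.index_eq_one]
    by_contra hne
    obtain ⟨l, hl, hdvd⟩ := Nat.exists_prime_and_dvd hne
    haveI : Fact l.Prime := ⟨hl⟩
    obtain ⟨S⟩ : Nonempty (Sylow l π.ker) := inferInstance
    have hle : ∃ S : Sylow l π.ker, (S : Subgroup π.ker) ≤ (Subgroup.center H ⊔ N).subgroupOf π.ker := by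
      by_cases hlp : l = p
      · subst hlp
        exact ⟨P, fun x hx => Subgroup.mem_subgroupOf.2 (Subgroup.mem_sup_right (hN ▸ ⟨x, hx, rfl⟩))⟩
      · refine ⟨S, fun x hx => Subgroup.mem_subgroupOf.2 (Subgroup.mem_sup_left ?_)⟩
        obtain ⟨k, hk⟩ := S.2 ⟨x, hx⟩
        exact hcen l hl hlp x x.2 k (by simpa [Subtype.ext_iff] using hk)
    obtain ⟨S', hS'⟩ := hle
    exact S'.not_dvd_index (hdvd.trans (Subgroup.index_dvd_of_le hS'))
  obtain ⟨σ, hσ⟩ : ∃ σ : H ⧸ N →* alternatingGroup (Fin 12), σ = QuotientGroup.lift N π hNK := ⟨_, rfl⟩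
  have hσs : Function.Surjective σ := fun a => by
    obtain ⟨x, rfl⟩ := hS.cover.surj a
    exact ⟨x, by rw [hσ]; rfl⟩
  have hker : ∀ q, q ∈ σ.ker → ∃ x ∈ π.ker, QuotientGroup.mk' N x = q := fun q hq => by
    obtain ⟨x, rfl⟩ := QuotientGroup.mk'_surjective N q
    exact ⟨x, MonoidHom.mem_ker.2 (by rw [hσ, MonoidHom.mem_ker] at hq; exact hq), rfl⟩
  have hbd : Nat.card σ.ker ≤ 2 := by
    refine CfsgLib.Char.Exceptional.AltMultiplier.bound 12 (by norm_num) (by norm_num) (by norm_num) σ hσs ?_ ?_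
    · intro q hq
      obtain ⟨x, hx, rfl⟩ := hker q hq
      have hle : (Subgroup.center H ⊔ N).map (QuotientGroup.mk' N) ≤ Subgroup.center (H ⧸ N) := by
        rw [Subgroup.map_sup, QuotientGroup.map_mk'_self, sup_bot_eq]
        rintro _ ⟨c, hc, rfl⟩
        rw [Subgroup.mem_center_iff]
        intro g
        obtain ⟨g, rfl⟩ := QuotientGroup.mk'_surjective N g
        rw [← map_mul, ← map_mul, Subgroup.mem_center_iff.1 hc g]
      exact hle ⟨x, hKle hx, rfl⟩
    · have e : commutator (H ⧸ N) = ⊤ := by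
        rw [commutator_def, ← Subgroup.map_top_of_surjective _ (QuotientGroup.mk'_surjective N),
          ← Subgroup.map_commutator, ← commutator_def, hS.cover.perfect]
      rw [e]; exact le_top
  haveI : Finite ↥σ.ker := inferInstance
  have hNp : ∀ (l : ℕ), l.Prime → l ≠ p → ∀ x ∈ N, ∀ k : ℕ, x ^ (l ^ k) = 1 → x = 1 := by
    intro l hl hne x hx k hk
    rw [hN] at hx
    obtain ⟨y, hy, rfl⟩ := hx
    obtain ⟨j, hj⟩ := P.2 ⟨y, hy⟩
    have hj' : (y : H) ^ (p ^ j) = 1 := by simpa [Subtype.ext_iff] using hj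
    refine orderOf_eq_one_iff.1 (Nat.eq_one_of_dvd_coprimes ?_ (orderOf_dvd_of_pow_eq_one hk)
      (orderOf_dvd_of_pow_eq_one hj'))
    exact Nat.Coprime.pow _ _ ((Nat.coprime_primes hl hS.prime).2 hne)
  have hin : ∀ (l : ℕ), l.Prime → 2 < l → ∀ x ∈ π.ker, ∀ k : ℕ, x ^ (l ^ k) = 1 → x ∈ N := by
    intro l hl h2 x hx k hk
    obtain ⟨q, hq⟩ : ∃ q : σ.ker, (q : H ⧸ N) = QuotientGroup.mk' N x :=
      ⟨⟨QuotientGroup.mk' N x, MonoidHom.mem_ker.2 (by rw [hσ]; exact MonoidHom.mem_ker.1 hx)⟩, rfl⟩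
    have h1 : orderOf q ∣ l ^ k := orderOf_dvd_of_pow_eq_one (Subtype.ext (by
      rw [Subgroup.coe_pow, hq, ← map_pow, hk, map_one]; rfl))
    have h2' : orderOf q ∣ Nat.card σ.ker := orderOf_dvd_natCard q
    have hpos : 0 < Nat.card σ.ker := Nat.card_pos
    have hcop : Nat.Coprime (l ^ k) (Nat.card σ.ker) := Nat.Coprime.pow_left _ (hl.coprime_iff_not_dvd.2 fun hd => by
      have := Nat.le_of_dvd hpos hd; omega)
    have h3 := congrArg Subtype.val (orderOf_eq_one_iff.1 (Nat.eq_one_of_dvd_coprimes hcop h1 h2'))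
    rw [hq] at h3
    exact (QuotientGroup.eq_one_iff x).1 h3
  refine ⟨fun x hx k hk => hNp 3 Nat.prime_three (by have := hS.seven; omega) x
    (hin 3 Nat.prime_three (by norm_num) x hx k hk) k hk, ?_⟩
  have hp2 : 2 ≠ p := by have := hS.seven; omega
  by_cases hall : ∀ x ∈ π.ker, ∀ k : ℕ, x ^ (2 ^ k) = 1 → x = 1
  · exact Or.inl hall
  push Not at hall
  obtain ⟨z, hz, k, hk, hz1⟩ := hall
  have hzc := hcen 2 Nat.prime_two hp2 z hz k hk
  have hmk : ∀ x ∈ π.ker, x ∉ N → ∀ y ∈ π.ker, y ∉ N → x⁻¹ * y ∈ N := by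
    intro x hx hxN y hy hyN
    by_contra h
    have hmem : ∀ w, w ∈ π.ker → QuotientGroup.mk' N w ∈ σ.ker := fun w hw =>
      MonoidHom.mem_ker.2 (by rw [hσ]; exact MonoidHom.mem_ker.1 hw)
    let a : Fin 3 → σ.ker := ![1, ⟨_, hmem x hx⟩, ⟨_, hmem y hy⟩]
    have hne : ∀ w, w ∉ N → QuotientGroup.mk' N w ≠ 1 := fun w hw e => hw ((QuotientGroup.eq_one_iff w).1 e)
    have hxy : QuotientGroup.mk' N x ≠ QuotientGroup.mk' N y := fun e => hne _ h (by
      rw [map_mul, map_inv, e, inv_mul_cancel])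
    have hinj : Function.Injective a := by
      intro i j e
      have e' := congrArg Subtype.val e
      fin_cases i <;> fin_cases j <;> first
        | rfl
        | exact absurd e' (hne x hxN) | exact absurd e'.symm (hne x hxN)
        | exact absurd e' (hne y hyN) | exact absurd e'.symm (hne y hyN)
        | exact absurd e' hxy | exact absurd e'.symm hxy
    have := Nat.card_le_card_of_injective a hinj
    rw [Nat.card_eq_fintype_card, Fintype.card_fin] at this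
    omega
  have hzN : z ∉ N := fun h => hz1 (hNp 2 Nat.prime_two hp2 z h k hk)
  refine Or.inr ⟨z, hz, hz1, ?_, hzc, fun x hx m hm => ?_, N, inferInstance, hNK, hzN, fun x hx => ?_,
    fun x hx m hm => hNp 2 Nat.prime_two hp2 x hx m hm⟩
  · by_contra h2
    have hk' : (z * z) ^ (2 ^ k) = 1 := by rw [← pow_two, ← pow_mul, mul_comm, pow_mul, hk, one_pow]
    have h3 : z * z ∉ N := fun h => h2 (hNp 2 Nat.prime_two hp2 _ h k hk')
    exact hzN (by simpa using hmk z hz hzN (z * z) (mul_mem hz hz) h3)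
  · by_cases hxN : x ∈ N
    · exact Or.inl (hNp 2 Nat.prime_two hp2 x hxN m hm)
    refine Or.inr ?_
    have h := hmk z hz hzN x hx hxN
    have hk' : (z⁻¹ * x) ^ (2 ^ (k + m)) = 1 := by
      rw [(show Commute z x from (Subgroup.mem_center_iff.1 hzc x).symm).inv_left.mul_pow, inv_pow, pow_add]
      nth_rw 2 [mul_comm]
      rw [pow_mul, hk, pow_mul, hm, one_pow, one_pow, inv_one, one_mul]
    exact (inv_mul_eq_one.1 (hNp 2 Nat.prime_two hp2 _ h _ hk')).symm
  · by_cases hxN : x ∈ N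
    · exact Or.inl hxN
    · exact Or.inr (hmk z hz hzN x hx hxN)

end Kernel

end CfsgLib.Known.AltE6
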