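import Cfsg.Agent.S2653

/-!
# Minimal groups with the alternating group of degree twelve as a quotient
-/

set_option autoImplicit false

namespace CfsgLib.Known.AltE6

open Module

/-- A finite group minimal among those mapping onto the alternating group of degree twelve. -/
structure MinCover {H : Type*} [Group H] (π : H →* alternatingGroup (Fin 12)) : Prop where
  surj : Function.Surjective π
  min : ∀ M : Subgroup H, M.map π = ⊤ → M = ⊤

variable {H : Type*} [Group H] {π : H →* alternatingGroup (Fin 12)}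

theorem MinCover.normal (hπ : MinCover π) {N : Subgroup H} (hN : N.Normal) : N ≤ π.ker ∨ N = ⊤ := by
  haveI : IsSimpleGroup (alternatingGroup (Fin 12)) :=
    alternatingGroup.isSimpleGroup (by rw [Nat.card_fin]; norm_num)
  rcases Subgroup.Normal.eq_bot_or_eq_top (hN.map π hπ.surj) with h | h
  · exact Or.inl ((Subgroup.map_eq_bot_iff N).mp h)
  · exact Or.inr (hπ.min N h)

theorem MinCover.perfect (hπ : MinCover π) : commutator H = ⊤ := by
  refine hπ.min _ ?_
  rw [commutator_def, Subgroup.map_commutator, ← MonoidHom.range_eq_map, MonoidHom.range_eq_top.mpr hπ.surj,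
    ← commutator_def, CfsgLib.Perm.AltSection.commutator_alt (by norm_num)]

theorem MinCover.le_center_of_commutator (hπ : MinCover π) {N : Subgroup H}
    (h : ∀ a : H, ∀ x ∈ N, a * x * a⁻¹ * x⁻¹ ∈ Subgroup.center H) : N ≤ Subgroup.center H := by
  have h1 : ⁅(⊤ : Subgroup H), N⁆ ≤ Subgroup.center H :=
    Subgroup.commutator_le.2 fun a _ x hx => h a x hx
  have h2 : ⁅⁅(⊤ : Subgroup H), N⁆, (⊤ : Subgroup H)⁆ = ⊥ := by
    rw [Subgroup.commutator_eq_bot_iff_le_centralizer, Subgroup.coe_top, Subgroup.centralizer_univ]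
    exact h1
  have h3 : ⁅⁅N, (⊤ : Subgroup H)⁆, (⊤ : Subgroup H)⁆ = ⊥ := by rw [Subgroup.commutator_comm N]; exact h2
  have h4 := Subgroup.commutator_commutator_eq_bot_of_rotate h2 h3
  rw [← commutator_def, hπ.perfect, Subgroup.commutator_comm, Subgroup.commutator_eq_bot_iff_le_centralizer,
    Subgroup.coe_top, Subgroup.centralizer_univ] at h4
  exact h4

/-- An action by automorphisms of a group of exponent `l` as a linear representation. -/
def actEnd {A N : Type*} [Group A] [CommGroup N] (l : ℕ) [Module (ZMod l) (Additive N)] (α : A →* MulAut N) :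
    A →* Module.End (ZMod l) (Additive N) where
  toFun a := ((α a).toMonoidHom.toAdditive).toZModLinearMap l
  map_one' := by ext z; simp
  map_mul' a b := by ext z; simp

theorem actEnd_apply {A N : Type*} [Group A] [CommGroup N] (l : ℕ) [Module (ZMod l) (Additive N)]
    (α : A →* MulAut N) (a : A) (z : Additive N) :
    (actEnd l α a) z = Additive.ofMul (α a z.toMul) := rfl

theorem exists_lin_aux {A N : Type*} [Group A] [CommGroup N] [Finite N] (l : ℕ) [Fact l.Prime]
    [Module (ZMod l) (Additive N)] (α : A →* MulAut N) :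
    ∃ (d : ℕ) (γ : A →* GL (Fin d) (ZMod l)), Nat.card N = l ^ d ∧ ∀ a, γ a = 1 → α a = 1 := by
  haveI : Finite (Additive N) := Finite.of_equiv _ Additive.ofMul
  obtain ⟨d, hd⟩ : ∃ d, d = finrank (ZMod l) (Additive N) := ⟨_, rfl⟩
  obtain ⟨b, -⟩ : ∃ b : Basis (Fin d) (ZMod l) (Additive N), True :=
    ⟨(finBasis (ZMod l) _).reindex (finCongr hd.symm), trivial⟩
  refine ⟨d, (Units.map (LinearMap.toMatrixAlgEquiv b).toMonoidHom).comp (actEnd l α).toHomUnits, ?_, fun a e => ?_⟩
  · rw [← Nat.card_congr (Additive.ofMul (α := N)).symm, Module.natCard_eq_pow_finrank (K := ZMod l),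
      Nat.card_zmod, ← hd]
  · have h1 : (LinearMap.toMatrixAlgEquiv b) (actEnd l α a) = 1 :=
      congrArg (fun u : GL (Fin d) (ZMod l) => (u : Matrix (Fin d) (Fin d) (ZMod l))) e
    have h2 : actEnd l α a = 1 := (LinearMap.toMatrixAlgEquiv b).injective (h1.trans (map_one _).symm)
    refine MulEquiv.ext fun z => Additive.ofMul.injective ?_
    have := DFunLike.congr_fun h2 (Additive.ofMul z)
    rw [actEnd_apply] at this
    exact this

theorem exists_lin {A N : Type*} [Group A] [CommGroup N] [Finite N] (l : ℕ) [Fact l.Prime]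
    (hexp : ∀ z : N, z ^ l = 1) (α : A →* MulAut N) :
    ∃ (d : ℕ) (γ : A →* GL (Fin d) (ZMod l)), Nat.card N = l ^ d ∧ ∀ a, γ a = 1 → α a = 1 :=
  @exists_lin_aux A N _ _ _ l _
    (AddCommGroup.zmodModule fun z => Additive.toMul.injective (by rw [toMul_nsmul, hexp, toMul_zero])) α

/-- A non-central elementary abelian section has rank at least ten. -/
theorem MinCover.section_bound [Finite H] (hπ : MinCover π) {l : ℕ} [Fact l.Prime] {N R : Subgroup H}
    (hN : N.Normal) (hR : R.Normal) (hRN : R ≤ N) (hRc : R ≤ Subgroup.center H)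
    (hpow : ∀ x ∈ N, x ^ l ∈ R) (hcomm : ∀ x ∈ N, ∀ y ∈ N, x * y * x⁻¹ * y⁻¹ ∈ R)
    (hnc : ¬ N ≤ Subgroup.center H) : l ^ (11 - if l ∣ 12 then 1 else 0) ≤ R.relIndex N := by
  classical
  have hl : l.Prime := Fact.out
  obtain ⟨N', hN'⟩ : ∃ N' : Subgroup (H ⧸ R), N' = N.map (QuotientGroup.mk' R) := ⟨_, rfl⟩
  haveI : N'.Normal := hN' ▸ hN.map _ (QuotientGroup.mk'_surjective R)
  have hmem : ∀ z : ↥N', ∃ x ∈ N, QuotientGroup.mk' R x = (z : H ⧸ R) := fun z =>
    Subgroup.mem_map.1 ((SetLike.ext_iff.1 hN' _).1 z.2)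
  have hcm : ∀ a b : ↥N', a * b = b * a := fun a b => by
    obtain ⟨x, hx, ex⟩ := hmem a
    obtain ⟨y, hy, ey⟩ := hmem b
    refine Subtype.ext ?_
    rw [Subgroup.coe_mul, Subgroup.coe_mul, ← ex, ← ey, ← mul_inv_eq_one, ← map_mul, ← map_mul, ← map_inv,
      ← map_mul, QuotientGroup.mk'_apply, QuotientGroup.eq_one_iff, mul_inv_rev, ← mul_assoc]
    exact hcomm x hx y hy
  letI : CommGroup ↥N' := { (inferInstance : Group ↥N') with mul_comm := hcm }
  have hexp : ∀ z : ↥N', z ^ l = 1 := fun z => by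
    obtain ⟨x, hx, ex⟩ := hmem z
    refine Subtype.ext ?_
    rw [Subgroup.coe_pow, ← ex, ← map_pow, QuotientGroup.mk'_apply, OneMemClass.coe_one,
      QuotientGroup.eq_one_iff]
    exact hpow x hx
  obtain ⟨α, hα⟩ : ∃ α : H →* MulAut ↥N', α = MulAut.conjNormal.comp (QuotientGroup.mk' R) := ⟨_, rfl⟩
  obtain ⟨d, γ, hcardN, hker⟩ := exists_lin l hexp α
  have hcard : R.relIndex N = l ^ d := by
    have h := Subgroup.relIndex_ker (K := N) (QuotientGroup.mk' R)
    rw [QuotientGroup.ker_mk', ← hN'] at h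
    rw [h, hcardN]
  have hnt : γ.ker ≤ π.ker := by
    refine (hπ.normal inferInstance).resolve_right fun htop => hnc (hπ.le_center_of_commutator fun a x hx => ?_)
    refine hRc ?_
    have h1 : α a = 1 := hker a (MonoidHom.mem_ker.1 (htop ▸ Subgroup.mem_top a))
    have h2 := congrArg Subtype.val (DFunLike.congr_fun h1
      ⟨QuotientGroup.mk' R x, (SetLike.ext_iff.1 hN' _).2 ⟨x, hx, rfl⟩⟩)
    rw [hα] at h2
    simp only [MonoidHom.comp_apply, MulAut.conjNormal_apply, MulAut.one_apply] at h2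
    rw [← mul_inv_eq_one] at h2
    exact (QuotientGroup.eq_one_iff _).1 h2
  obtain ⟨π', hπ'⟩ : ∃ π' : ↥γ.range →* alternatingGroup (Fin 12), ∀ a, π' (γ.rangeRestrict a) = π a :=
    ⟨γ.rangeRestrict.liftOfSurjective γ.rangeRestrict_surjective ⟨π, by rwa [MonoidHom.ker_rangeRestrict]⟩,
      fun a => by simp [MonoidHom.liftOfRightInverse_comp_apply]⟩
  have hsurj : Function.Surjective π' := fun z => by
    obtain ⟨a, rfl⟩ := hπ.surj z
    exact ⟨_, hπ' a⟩
  have hbd := Cfsg.Agent.S2653.result (F := ZMod l) l d 12 γ.range π'.ker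
    ⟨QuotientGroup.quotientKerEquivOfSurjective π' hsurj⟩ (by norm_num)
  rw [hcard]
  exact Nat.pow_le_pow_right hl.pos hbd

end CfsgLib.Known.AltE6
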