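import Cfsg.Agent.Lib.Known.AltE6.Lifts

/-!
# Squares and commutators in the double cover
-/

set_option autoImplicit false
set_option maxRecDepth 20000

namespace CfsgLib.Known.AltE6

open Equiv
open CfsgLib.Perm.AltBounded (cyc altOn altOn_univ IsHomOn exists_homOn altOn_le_of_base)

/-- An element of the alternating group. -/
abbrev ev12 (p : Perm (Fin 12)) (h : Perm.sign p = 1) : alternatingGroup (Fin 12) :=
  ⟨p, Equiv.Perm.mem_alternatingGroup.2 h⟩

theorem base_facts : ∀ i : Fin 12, i ≠ 0 → i ≠ 1 → Perm.sign (cyc 0 1 i) = 1 ∧ (cyc 0 1 i) ^ 3 = 1 := by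
  decide +kernel

theorem base_pair : ∀ i j : Fin 12, i ≠ 0 → i ≠ 1 → j ≠ 0 → j ≠ 1 → i ≠ j →
    (cyc 0 1 i * cyc 0 1 j) ^ 2 = 1 ∧ (cyc 0 1 i * cyc 0 1 j).support.card = 4 := by decide +kernel

theorem r22_facts : (r22 : Perm (Fin 12)) ^ 2 = 1 ∧ (r22 : Perm (Fin 12)).support.card = 4 ∧
    Perm.sign (swap (0 : Fin 12) 1) = -1 ∧ swap (0 : Fin 12) 1 * (r22 : Perm (Fin 12)) = (r22 : Perm (Fin 12)) * swap 0 1 := by
  decide +kernel

theorem exists_conj_r22 {a : alternatingGroup (Fin 12)} (ha : (a : Perm (Fin 12)) ^ 2 = 1)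
    (hs : (a : Perm (Fin 12)).support.card = 4) : ∃ g : alternatingGroup (Fin 12), a = g * r22 * g⁻¹ := by
  haveI : Fact (Nat.Prime 2) := ⟨Nat.prime_two⟩
  obtain ⟨h1, h2, h3, h4⟩ := r22_facts
  obtain ⟨g, hg⟩ := exists_conj_alt (ℓ := 2) (r := r22) (a := a) (Subtype.ext h1) (Subtype.ext ha)
    (hs.trans h2.symm) h3 h4
  exact ⟨g, hg.symm⟩

variable {E : Type*} [Group E] {q : E →* alternatingGroup (Fin 12)} {c : E}

/-- The lifts of double transpositions have order four. -/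
theorem DC.sq_r22 (h : DC q c) {x : E} (hx : q x = r22) : x * x = c := by
  classical
  refine (h.ker (x * x) (by
    rw [map_mul, hx]; exact Subtype.ext ((pow_two _).symm.trans r22_facts.1))).resolve_left fun hx2 => ?_
  have hr : q x * q x = 1 := by rw [hx]; exact Subtype.ext ((pow_two _).symm.trans r22_facts.1)
  have hlift : ∀ i : Fin 12, ∃ y : E, i ≠ 0 → i ≠ 1 → ((q y : Perm (Fin 12)) = cyc 0 1 i ∧ y ^ 3 = 1) := by
    intro i
    by_cases hi : i ≠ 0 ∧ i ≠ 1
    · obtain ⟨hs, h3⟩ := base_facts i hi.1 hi.2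
      obtain ⟨y, hy, hy3⟩ := h.lift_three (a := ev12 _ hs) (Subtype.ext h3)
      exact ⟨y, fun _ _ => ⟨by rw [hy], hy3⟩⟩
    · exact ⟨1, fun h0 h1 => absurd ⟨h0, h1⟩ hi⟩
  choose y hy using hlift
  obtain ⟨f, hf, hfy⟩ := exists_homOn (Finset.univ : Finset (Fin 12)) (A := 0) (B := 1) (Finset.mem_univ _)
    (Finset.mem_univ _) (by decide) y
    (fun i _ h0 h1 => by rw [← pow_two, ← pow_succ, (hy i h0 h1).2])
    (fun i _ j _ h0 h1 g0 g1 hij => by
      obtain ⟨e1, e2⟩ := base_pair i j h0 h1 g0 g1 hij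
      have hq : (q (y i * y j) : Perm (Fin 12)) = cyc 0 1 i * cyc 0 1 j := by
        rw [map_mul, Subgroup.coe_mul, (hy i h0 h1).1, (hy j g0 g1).1]
      obtain ⟨g, hg⟩ := exists_conj_r22 (a := q (y i * y j)) (by rw [hq]; exact e1) (by rw [hq]; exact e2)
      rw [h.sq_conj hr (g := g) (y := y i * y j) (by rw [hx]; exact hg), hx2])
  rw [altOn_univ] at hf
  -- the map is a section
  have hsec : ∀ a : alternatingGroup (Fin 12), q (f (a : Perm (Fin 12))) = a := by
    obtain ⟨X, hX⟩ : ∃ X : Subgroup (Perm (Fin 12)),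
        ∀ g, g ∈ X ↔ ∃ hg : g ∈ alternatingGroup (Fin 12), q (f g) = ⟨g, hg⟩ := by
      refine ⟨{ carrier := {g | ∃ hg : g ∈ alternatingGroup (Fin 12), q (f g) = ⟨g, hg⟩}
                one_mem' := ⟨one_mem _, by rw [hf.one, map_one]; rfl⟩
                mul_mem' := ?_
                inv_mem' := ?_ }, fun _ => Iff.rfl⟩
      · rintro a b ⟨ha, ea⟩ ⟨hb, eb⟩
        exact ⟨mul_mem ha hb, by rw [hf a ha b hb, map_mul, ea, eb]; rfl⟩
      · rintro a ⟨ha, ea⟩
        exact ⟨inv_mem ha, by rw [hf.inv ha, map_inv, ea]; rfl⟩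
    intro a
    have hle : altOn (Finset.univ : Finset (Fin 12)) ≤ X :=
      altOn_le_of_base (A := 0) (B := 1) (Finset.mem_univ _) (Finset.mem_univ _) (by decide) fun i _ h0 h1 =>
        (hX _).2 ⟨Equiv.Perm.mem_alternatingGroup.2 (base_facts i h0 h1).1, by
          rw [hfy i (Finset.mem_univ _) h0 h1]; exact Subtype.ext (hy i h0 h1).1⟩
    have ha : (a : Perm (Fin 12)) ∈ altOn (Finset.univ : Finset (Fin 12)) := by rw [altOn_univ]; exact a.2
    obtain ⟨_, e⟩ := (hX _).1 (hle ha)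
    exact e
  obtain ⟨M, hM⟩ : ∃ M : Subgroup E, ∀ z, z ∈ M ↔ f (q z : Perm (Fin 12)) = z := by
    refine ⟨{ carrier := {z | f (q z : Perm (Fin 12)) = z}
              one_mem' := by rw [Set.mem_ofPred_eq, map_one, OneMemClass.coe_one, hf.one]
              mul_mem' := ?_
              inv_mem' := ?_ }, fun _ => Iff.rfl⟩
    · intro a b (ha : f (q a : Perm (Fin 12)) = a) (hb : f (q b : Perm (Fin 12)) = b)
      show f (q (a * b) : Perm (Fin 12)) = a * b
      rw [map_mul, Subgroup.coe_mul, hf _ (q a).2 _ (q b).2, ha, hb]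
    · intro a (ha : f (q a : Perm (Fin 12)) = a)
      show f (q a⁻¹ : Perm (Fin 12)) = a⁻¹
      rw [map_inv, Subgroup.coe_inv, hf.inv (q a).2, ha]
  have hc := (hM c).1 (h.full M (eq_top_iff.2 fun a _ =>
    ⟨f (a : Perm (Fin 12)), (hM _).2 (by rw [hsec]), hsec a⟩))
  rw [h.map, OneMemClass.coe_one, hf.one] at hc
  exact h.ne hc.symm

theorem DC.sq22 (h : DC q c) {x : E} (ha : (q x : Perm (Fin 12)) ^ 2 = 1)
    (hs : (q x : Perm (Fin 12)).support.card = 4) : x * x = c := by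
  obtain ⟨g, hg⟩ := exists_conj_r22 ha hs
  obtain ⟨y, hy⟩ := h.surj r22
  rw [h.sq_conj (x := y) (g := g) (by rw [hy]; exact Subtype.ext ((pow_two _).symm.trans r22_facts.1))
    (by rw [hy]; exact hg), h.sq_r22 hy]

theorem DC.commute (h : DC q c) {x y : E} {u v : alternatingGroup (Fin 12)} (hu : u ^ 3 = 1) (hv : v ^ 3 = 1)
    (hy : q y = u * v) (hxu : q x * u = u * q x) (hxv : q x * v = v * q x) : x * y = y * x := by
  have key : ∀ {a : alternatingGroup (Fin 12)} {w : E}, q w = a → w ^ 3 = 1 → q x * a = a * q x → x * w = w * x := by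
    intro a w hw hw3 hxa
    rcases h.ker ((x * w) * (w * x)⁻¹) (by rw [map_mul, map_inv, map_mul, map_mul, hw, hxa, mul_inv_cancel])
      with e | e
    · exact mul_inv_eq_one.1 e
    · exfalso
      rw [mul_inv_eq_iff_eq_mul] at e
      have hc : x * w * x⁻¹ = c * w := by rw [e]; group
      have h3 : (x * w * x⁻¹) ^ 3 = 1 := by rw [conj_pow, hw3, mul_one, mul_inv_cancel]
      rw [hc, (show Commute c w from h.central w).mul_pow, hw3, mul_one, pow_three, h.sq, mul_one] at h3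
      exact h.ne h3
  obtain ⟨w1, hw1, h31⟩ := h.lift_three hu
  obtain ⟨w2, hw2, h32⟩ := h.lift_three hv
  have hc1 : Commute x w1 := key hw1 h31 hxu
  have hc2 : Commute x w2 := key hw2 h32 hxv
  rcases h.ker ((w1 * w2)⁻¹ * y) (by rw [map_mul, map_inv, map_mul, hw1, hw2, hy, inv_mul_cancel]) with e | e
  · rw [← inv_mul_eq_one.1 e]
    exact (hc1.mul_right hc2).eq
  · rw [inv_mul_eq_iff_eq_mul.1 e]
    exact ((hc1.mul_right hc2).mul_right (show Commute x c from (h.central x).symm)).eq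

/-- The double transpositions used. -/
def pB1 : alternatingGroup (Fin 12) := r22

/-- A double transposition commuting with the first one on the same points. -/
def pW : alternatingGroup (Fin 12) := ev12 (swap 0 2 * swap 1 3) (by decide +kernel)

/-- A double transposition on other points. -/
def pB2 : alternatingGroup (Fin 12) := ev12 (swap 4 5 * swap 6 7) (by decide +kernel)

/-- A three cycle. -/
def pU : alternatingGroup (Fin 12) := ev12 (cyc 4 5 6) (by decide +kernel)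

/-- A three cycle. -/
def pV : alternatingGroup (Fin 12) := ev12 (cyc 5 6 7) (by decide +kernel)

/-- The product of four disjoint transpositions. -/
def r24 : alternatingGroup (Fin 12) := pB1 * pB2

theorem pair_facts : (pW : Perm (Fin 12)) ^ 2 = 1 ∧ (pW : Perm (Fin 12)).support.card = 4 ∧
    ((pB1 * pW : alternatingGroup (Fin 12)) : Perm (Fin 12)) ^ 2 = 1 ∧
    ((pB1 * pW : alternatingGroup (Fin 12)) : Perm (Fin 12)).support.card = 4 ∧
    (pB2 : Perm (Fin 12)) ^ 2 = 1 ∧ (pB2 : Perm (Fin 12)).support.card = 4 ∧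
    pU ^ 3 = 1 ∧ pV ^ 3 = 1 ∧ pB2 = pU * pV ∧
    pB1 * pU = pU * pB1 ∧ pB1 * pV = pV * pB1 ∧ pW * pU = pU * pW ∧ pW * pV = pV * pW ∧
    pB1 * pW = pW * pB1 ∧ pB1 * pB2 = pB2 * pB1 ∧ pW * pB2 = pB2 * pW ∧ r24 ≠ 1 := by decide +kernel

/-- A lift of order two of four transpositions, and an element moving it by the central involution. -/
theorem exists_anticommute {H : Type*} [Group H] [Finite H] {π : H →* alternatingGroup (Fin 12)}
    (hπ : Function.Surjective π) (hmin : ∀ M : Subgroup H, M.map π = ⊤ → M = ⊤) {z : H} (hz : z ∈ π.ker)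
    (hz2 : z * z = 1) (hzc : z ∈ Subgroup.center H)
    (h2 : ∀ x ∈ π.ker, ∀ k : ℕ, x ^ (2 ^ k) = 1 → x = 1 ∨ x = z) {N : Subgroup H} [N.Normal] (hNK : N ≤ π.ker)
    (hzN : z ∉ N) (hKN : ∀ x ∈ π.ker, x ∈ N ∨ z⁻¹ * x ∈ N) (hN2 : ∀ x ∈ N, ∀ k : ℕ, x ^ (2 ^ k) = 1 → x = 1) :
    ∃ y w : H, IsLiftOf π 2 r24 y ∧ y * y = 1 ∧ y ≠ 1 ∧ w * y * w⁻¹ = y * z := by
  classical
  haveI : Fact (Nat.Prime 2) := ⟨Nat.prime_two⟩
  obtain ⟨q, hq⟩ : ∃ q : H ⧸ N →* alternatingGroup (Fin 12), q = QuotientGroup.lift N π hNK := ⟨_, rfl⟩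
  obtain ⟨m, hm⟩ : ∃ m : H →* H ⧸ N, m = QuotientGroup.mk' N := ⟨_, rfl⟩
  have hqm : ∀ x, q (m x) = π x := fun x => by rw [hq, hm]; rfl
  have hmsurj : Function.Surjective m := hm ▸ QuotientGroup.mk'_surjective N
  have hm1 : ∀ x, m x = 1 ↔ x ∈ N := fun x => by rw [hm]; exact QuotientGroup.eq_one_iff x
  have hdc : DC q (m z) := by
    refine ⟨fun a => ?_, fun e => hzN ((hm1 z).1 e), by rw [← map_mul, hz2, map_one],
      by rw [hqm]; exact MonoidHom.mem_ker.1 hz, fun x => ?_, fun x hx => ?_, fun M hM => ?_⟩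
    · obtain ⟨x, rfl⟩ := hπ a
      exact ⟨m x, hqm x⟩
    · obtain ⟨x, rfl⟩ := hmsurj x
      rw [← map_mul, ← map_mul, Subgroup.mem_center_iff.1 hzc x]
    · obtain ⟨x, rfl⟩ := hmsurj x
      rw [hqm] at hx
      rcases hKN x (MonoidHom.mem_ker.2 hx) with h | h
      · exact Or.inl ((hm1 x).2 h)
      · refine Or.inr ?_
        have := (hm1 _).2 h
        rw [map_mul, map_inv, inv_mul_eq_one] at this
        exact this.symm
    · have htop := hmin (M.comap m) (eq_top_iff.2 fun a _ => by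
        obtain ⟨w, hw, rfl⟩ : a ∈ M.map q := hM ▸ Subgroup.mem_top a
        obtain ⟨x, rfl⟩ := hmsurj w
        exact ⟨x, hw, (hqm x).symm⟩)
      have : z ∈ M.comap m := htop ▸ Subgroup.mem_top z
      exact this
  obtain ⟨f1, f2, f3, f4, f5, f6, f7, f8, f9, c1, c2, c3, c4, c5, c6, c7, hr⟩ := pair_facts
  have hr1 := r22_facts
  -- a common Sylow lift
  obtain ⟨P, hP⟩ : ∃ P : Subgroup (alternatingGroup (Fin 12)), P = Subgroup.closure {pB1, pW, pB2} := ⟨_, rfl⟩
  have hcen : ∀ g ∈ P, g ∈ Subgroup.centralizer ({pB1, pW, pB2} : Set (alternatingGroup (Fin 12))) := by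
    intro g hg
    refine (Subgroup.closure_le _).2 ?_ (hP ▸ hg)
    intro a ha
    rw [SetLike.mem_coe, Subgroup.mem_centralizer_iff]
    intro b hb
    simp only [Set.mem_insert_iff, Set.mem_singleton_iff] at ha hb
    rcases ha with rfl | rfl | rfl <;> rcases hb with rfl | rfl | rfl <;>
      first | rfl | exact c5 | exact c5.symm | exact c6 | exact c6.symm | exact c7 | exact c7.symm
  have hexp : ∀ g ∈ P, g ^ 2 = 1 := by
    intro g hg
    rw [hP] at hg
    induction hg using Subgroup.closure_induction with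
    | mem a ha =>
      simp only [Set.mem_insert_iff, Set.mem_singleton_iff] at ha
      rcases ha with rfl | rfl | rfl
      exacts [Subtype.ext hr1.1, Subtype.ext f1, Subtype.ext f5]
    | one => exact one_pow 2
    | mul u v hu hv ihu ihv =>
      have hc : ∀ w ∈ Subgroup.closure ({pB1, pW, pB2} : Set (alternatingGroup (Fin 12))), u * w = w * u := by
        intro w hw
        induction hw using Subgroup.closure_induction with
        | mem b hb => exact ((Subgroup.mem_centralizer_iff.1 (hcen u (hP ▸ hu))) b hb).symm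
        | one => rw [mul_one, one_mul]
        | mul a b _ _ iha ihb => rw [← mul_assoc, iha, mul_assoc, ihb, mul_assoc]
        | inv a _ iha => exact (Commute.inv_right iha).eq
      rw [(show Commute u v from hc v hv).mul_pow, ihu, ihv, mul_one]
    | inv u _ ih => rw [inv_pow, ih, inv_one]
  obtain ⟨S, hS, hmap, -⟩ := AltTorus.exists_lift hπ (P := P)
    (fun x => ⟨1, Subtype.ext (by rw [pow_one]; exact hexp _ x.2)⟩)
  have hget : ∀ a ∈ P, ∃ s ∈ S, π s = a := fun a ha => by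
    obtain ⟨s, hs, e⟩ := hmap.symm ▸ ha
    exact ⟨s, hs, e⟩
  obtain ⟨u1, hu1, e1⟩ := hget pB1 (hP ▸ Subgroup.subset_closure (Or.inl rfl))
  obtain ⟨uw, huw, ew⟩ := hget pW (hP ▸ Subgroup.subset_closure (Or.inr (Or.inl rfl)))
  obtain ⟨u2, hu2, e2⟩ := hget pB2 (hP ▸ Subgroup.subset_closure (Or.inr (Or.inr rfl)))
  have htwo : ∀ s ∈ S, ∃ k : ℕ, s ^ (2 ^ k) = 1 := fun s hs => by
    obtain ⟨k, hk⟩ := hS ⟨s, hs⟩
    exact ⟨k, by simpa [Subtype.ext_iff] using hk⟩
  -- equations in the quotient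
  have s1 : m u1 * m u1 = m z := hdc.sq22 (by rw [hqm, e1]; exact hr1.1) (by rw [hqm, e1]; exact hr1.2.1)
  have sw : m uw * m uw = m z := hdc.sq22 (by rw [hqm, ew]; exact f1) (by rw [hqm, ew]; exact f2)
  have s2 : m u2 * m u2 = m z := hdc.sq22 (by rw [hqm, e2]; exact f5) (by rw [hqm, e2]; exact f6)
  have s1w : m (u1 * uw) * m (u1 * uw) = m z :=
    hdc.sq22 (by rw [hqm, map_mul, e1, ew]; exact f3) (by rw [hqm, map_mul, e1, ew]; exact f4)
  have k12 : m u1 * m u2 = m u2 * m u1 :=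
    hdc.commute f7 f8 (by rw [hqm, e2]; exact f9) (by rw [hqm, e1]; exact c1) (by rw [hqm, e1]; exact c2)
  have kw2 : m uw * m u2 = m u2 * m uw :=
    hdc.commute f7 f8 (by rw [hqm, e2]; exact f9) (by rw [hqm, ew]; exact c3) (by rw [hqm, ew]; exact c4)
  have hsw : ∀ g, m z * g = g * m z := hdc.central
  have kw1 : m uw * m u1 = m u1 * m uw * m z := by
    rw [map_mul] at s1w
    calc m uw * m u1 = (m u1)⁻¹ * (m u1 * m uw * (m u1 * m uw)) * (m uw)⁻¹ := by group
      _ = m u1 * m uw * m z := by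
        rw [s1w, inv_eq_of_mul_eq_one_right (a := m u1) (b := m u1 * m z)
          (by rw [← mul_assoc, s1, ← map_mul, hz2, map_one]),
          inv_eq_of_mul_eq_one_right (a := m uw) (b := m uw * m z)
          (by rw [← mul_assoc, sw, ← map_mul, hz2, map_one]), mul_assoc (m u1) (m z) (m z), ← map_mul, hz2, map_one,
          mul_one, mul_assoc]
  obtain ⟨y, hy⟩ : ∃ y, y = u1 * u2 := ⟨_, rfl⟩
  have hyS : y ∈ S := hy ▸ mul_mem hu1 hu2
  have hπy : π y = r24 := by rw [hy, map_mul, e1, e2]; rfl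
  refine ⟨y, uw, ⟨hπy, htwo y hyS⟩, ?_, fun e => hr (by rw [← hπy, e, map_one]), ?_⟩
  · obtain ⟨k, hk⟩ := htwo _ (mul_mem hyS hyS)
    refine hN2 _ ((hm1 _).1 ?_) k hk
    rw [hy, map_mul, map_mul]
    calc m u1 * m u2 * (m u1 * m u2) = m u1 * (m u2 * m u1) * m u2 := by simp only [mul_assoc]
      _ = (m u1 * m u1) * (m u2 * m u2) := by rw [← k12]; simp only [mul_assoc]
      _ = 1 := by rw [s1, s2, ← map_mul, hz2, map_one]
  · obtain ⟨d, hd⟩ : ∃ d, d = y⁻¹ * (uw * y * uw⁻¹) := ⟨_, rfl⟩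
    have hdS : d ∈ S := hd ▸ mul_mem (inv_mem hyS) (mul_mem (mul_mem huw hyS) (inv_mem huw))
    have hmd : m d = m z := by
      have e : m (uw * y * uw⁻¹) = m y * m z := by
        rw [hy, map_mul, map_mul, map_mul, map_inv]
        calc m uw * (m u1 * m u2) * (m uw)⁻¹ = (m uw * m u1) * m u2 * (m uw)⁻¹ := by simp only [mul_assoc]
          _ = m u1 * (m uw * m u2) * (m uw)⁻¹ * m z := by
            rw [kw1]
            simp only [mul_assoc]
            rw [hsw (m u2 * (m uw)⁻¹)]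
            simp only [mul_assoc]
          _ = m u1 * m u2 * m z := by rw [kw2]; simp only [← mul_assoc, mul_inv_cancel_right]
      rw [hd, map_mul, e, map_inv, inv_mul_cancel_left]
    obtain ⟨k, hk⟩ := htwo d hdS
    have hdK : d ∈ π.ker := MonoidHom.mem_ker.2 (by
      rw [← hqm, hmd, hqm]; exact MonoidHom.mem_ker.1 hz)
    rcases h2 d hdK k hk with h | h
    · exact absurd (by rw [← hmd, h, map_one]) hdc.ne
    · rw [← h, hd, mul_inv_cancel_left]

end CfsgLib.Known.AltE6
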