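import Cfsg.Agent.Lib.Known.AltE6.DoubleCover
import Cfsg.Agent.Lib.Known.AltE6.Arith

/-!
# The elementary abelian groups used in the alternating group of degree twelve
-/

set_option autoImplicit false
set_option maxRecDepth 20000

namespace CfsgLib.Known.AltE6

open Equiv
open CfsgLib.Perm.AltBounded (cyc)

/-- The product of powers of elements. -/
def tprod {A : Type*} [Monoid A] {n l : ℕ} (t : Fin n → A) (v : Fin n → Fin l) : A :=
  (List.ofFn fun i => t i ^ (v i : ℕ)).prod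

/-- Four disjoint three cycles. -/
def t81 : Fin 4 → alternatingGroup (Fin 12) :=
  ![ev12 (cyc 0 1 2) (by decide +kernel), ev12 (cyc 3 4 5) (by decide +kernel),
    ev12 (cyc 6 7 8) (by decide +kernel), ev12 (cyc 9 10 11) (by decide +kernel)]

/-- An element inverting the four cycles. -/
def a81 : alternatingGroup (Fin 12) :=
  ev12 (swap 1 2 * swap 4 5 * (swap 7 8 * swap 10 11)) (by decide +kernel)

/-- An odd permutation centralising a representative. -/
def c81 (j : ℕ) : Perm (Fin 12) := if j = 4 then swap 0 3 * swap 1 4 * swap 2 5 else swap 9 10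

theorem t81_facts : (∀ i, t81 i ^ 3 = 1) ∧ (∀ i j, t81 i * t81 j = t81 j * t81 i) ∧ a81 ^ 2 = 1 ∧
    (∀ i, a81⁻¹ * t81 i * a81 = (List.ofFn fun j => t81 j ^ (if i = j then 2 else 0)).prod) ∧
    tprod t81 (rep4 0) = 1 := by decide +kernel

theorem t81_class : ∀ v : Fin 4 → Fin 3, tprod t81 v ^ 3 = 1 ∧
    ((tprod t81 v : alternatingGroup (Fin 12)) : Perm (Fin 12)).support.card = ((tprod t81 (rep4 (cls v)) : alternatingGroup (Fin 12)) : Perm (Fin 12)).support.card ∧
    (v = 0 ∨ tprod t81 v ≠ 1) := by decide +kernel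

theorem t81_cent : ∀ j < 5, Perm.sign (c81 j) = -1 ∧
    c81 j * ((tprod t81 (rep4 j) : alternatingGroup (Fin 12)) : Perm (Fin 12)) = ((tprod t81 (rep4 j) : alternatingGroup (Fin 12)) : Perm (Fin 12)) * c81 j ∧
    (tprod t81 (rep4 j)) ^ 3 = 1 ∧ (j = 0 ∨ tprod t81 (rep4 j) ≠ 1) := by decide +kernel

/-- A regular elementary group of order nine. -/
def t9 : Fin 2 → alternatingGroup (Fin 12) :=
  ![ev12 (cyc 0 1 2 * (cyc 3 4 5 * cyc 6 7 8)) (by decide +kernel),
    ev12 (cyc 0 3 6 * (cyc 1 4 7 * cyc 2 5 8)) (by decide +kernel)]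

/-- An element inverting it. -/
def b9 : alternatingGroup (Fin 12) :=
  ev12 (swap 1 2 * swap 3 6 * (swap 4 8 * swap 5 7)) (by decide +kernel)

theorem t9_facts : (∀ i, t9 i ^ 3 = 1) ∧ (∀ i j, t9 i * t9 j = t9 j * t9 i) ∧ b9 ^ 2 = 1 ∧
    (∀ i, b9⁻¹ * t9 i * b9 = (List.ofFn fun j => t9 j ^ (if i = j then 2 else 0)).prod) ∧
    (b9 : Perm (Fin 12)).support.card = (r24 : Perm (Fin 12)).support.card := by decide +kernel

theorem t9_class : ∀ v : Fin 2 → Fin 3, v ≠ 0 → tprod t9 v ^ 3 = 1 ∧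
    ((tprod t9 v : alternatingGroup (Fin 12)) : Perm (Fin 12)).support.card = ((tprod t81 (rep4 3) : alternatingGroup (Fin 12)) : Perm (Fin 12)).support.card := by
  decide +kernel

/-- Three Klein four groups. -/
def t64 : Fin 6 → alternatingGroup (Fin 12) :=
  ![ev12 (swap 0 1 * swap 2 3) (by decide +kernel), ev12 (swap 0 2 * swap 1 3) (by decide +kernel),
    ev12 (swap 4 5 * swap 6 7) (by decide +kernel), ev12 (swap 4 6 * swap 5 7) (by decide +kernel),
    ev12 (swap 8 9 * swap 10 11) (by decide +kernel), ev12 (swap 8 10 * swap 9 11) (by decide +kernel)]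

/-- An element permuting the three groups. -/
def g12 : alternatingGroup (Fin 12) :=
  ev12 (cyc 0 4 8 * cyc 1 5 9 * (cyc 2 6 10 * cyc 3 7 11)) (by decide +kernel)

theorem t64_facts : (∀ i, t64 i ^ 2 = 1) ∧ (∀ i j, t64 i * t64 j = t64 j * t64 i) ∧ g12 ^ 3 = 1 ∧
    (∀ i, g12⁻¹ * t64 i * g12 = (List.ofFn fun j => t64 j ^ (if j = i + 4 then 1 else 0)).prod) ∧
    (g12 : Perm (Fin 12)).support.card = ((tprod t81 (rep4 4) : alternatingGroup (Fin 12)) : Perm (Fin 12)).support.card ∧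
    tprod t64 (rep6 0) = 1 ∧ tprod t64 (rep6 2) = r24 := by decide +kernel

theorem t64_class : ∀ v : Fin 6 → Fin 2, tprod t64 v ^ 2 = 1 ∧
    ((tprod t64 v : alternatingGroup (Fin 12)) : Perm (Fin 12)).support.card = ((tprod t64 (rep6 (cls2 v)) : alternatingGroup (Fin 12)) : Perm (Fin 12)).support.card := by
  decide +kernel

theorem t64_cent : ∀ j < 4, Perm.sign (swap (0 : Fin 12) 1) = -1 ∧
    swap 0 1 * ((tprod t64 (rep6 j) : alternatingGroup (Fin 12)) : Perm (Fin 12)) = ((tprod t64 (rep6 j) : alternatingGroup (Fin 12)) : Perm (Fin 12)) * swap 0 1 ∧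
    tprod t64 (rep6 j) ^ 2 = 1 ∧ (j = 0 ∨ tprod t64 (rep6 j) ≠ 1) := by decide +kernel

/-- A regular elementary group of order eight. -/
def t8 : Fin 3 → alternatingGroup (Fin 12) :=
  ![ev12 (swap 0 1 * swap 2 3 * (swap 4 5 * swap 6 7)) (by decide +kernel),
    ev12 (swap 0 2 * swap 1 3 * (swap 4 6 * swap 5 7)) (by decide +kernel),
    ev12 (swap 0 4 * swap 1 5 * (swap 2 6 * swap 3 7)) (by decide +kernel)]

/-- An element permuting its generators. -/
def g8 : alternatingGroup (Fin 12) := ev12 (cyc 1 2 4 * cyc 3 6 5) (by decide +kernel)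

theorem t8_facts : (∀ i, t8 i ^ 2 = 1) ∧ (∀ i j, t8 i * t8 j = t8 j * t8 i) ∧ g8 ^ 3 = 1 ∧
    (∀ i, g8⁻¹ * t8 i * g8 = (List.ofFn fun j => t8 j ^ (if j = i + 2 then 1 else 0)).prod) ∧
    (g8 : Perm (Fin 12)).support.card = ((tprod t81 (rep4 2) : alternatingGroup (Fin 12)) : Perm (Fin 12)).support.card := by decide +kernel

theorem t8_class : ∀ v : Fin 3 → Fin 2, v ≠ 0 → tprod t8 v ^ 2 = 1 ∧
    ((tprod t8 v : alternatingGroup (Fin 12)) : Perm (Fin 12)).support.card = (r24 : Perm (Fin 12)).support.card := by decide +kernel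

theorem r24_facts : r24 ^ 2 = 1 ∧ Perm.sign (swap (0 : Fin 12) 1) = -1 ∧
    swap 0 1 * (r24 : Perm (Fin 12)) = (r24 : Perm (Fin 12)) * swap 0 1 := by decide +kernel

end CfsgLib.Known.AltE6
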