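import Cfsg.Agent.Lib.Known.AltE6.W

/-!
# No eigenvalue of order ten modulo eleven in the Weyl group of type E6

Such an element would commute with an element of order five; the centraliser of the latter is tabulated.
-/

set_option autoImplicit false
set_option maxRecDepth 20000

namespace CfsgLib.Known.AltE6

open Cfsg.Lie (ChevalleyDatum chevE6)
open CfsgLib.Lie.Chev
open CfsgLib.Known.CyclicTorus (cvec wMat vecMul_wMat cvec_sroot wMat_mul wMat_one wMat_pow)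
open CfsgLib.Known.Homocyclic (bE6 cE6)
open scoped Matrix

/-- The subgroup of order five. -/
def fiveT : Table chevE6 auxE6 5 1 where
  wd i := (List.replicate i [0, 2, 3, 4]).flatten
  gn _ := [0, 2, 3, 4]
  nx i _ := i + 1
  par i := (i - 1, 0)

theorem fiveT_ok : fiveT.OK := ⟨by decide +kernel, by decide +kernel, by decide, by decide +kernel⟩

/-- The action of the element of order five. -/
@[irreducible] def rot (s : ℕ) : ℕ := wordAct auxE6 [0, 2, 3, 4] s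

/-- The coordinates of a root as a list. -/
def cl (s : ℕ) : List ℤ := (List.range 6).map fun j => auxE6.coef j s

/-- The sum of lists of numbers. -/
def addL (a b : List ℤ) : List ℤ := List.zipWith (· + ·) a b

/-- The form and the class are preserved. -/
def chkIso (L : List ℕ) : Bool :=
  ((List.range 6).all fun i => (List.range 6).all fun j =>
    decide (((List.range 6).map fun a => ((List.range 6).map fun b =>
      auxE6.coef a (L.getD i 0) * (cartE6.getD a []).getD b 0 * auxE6.coef b (L.getD j 0)).sum).sum =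
      (cartE6.getD i []).getD j 0)) &&
  (List.range 6).all fun k => decide ((((List.range 6).map fun i =>
    ([1, 0, 2, 0, 1, 2] : List ℤ).getD i 0 * auxE6.coef k (L.getD i 0)).sum -
      ([1, 0, 2, 0, 1, 2] : List ℤ).getD k 0) % 3 = 0)

/-- The centraliser of the element of order five, with the second, fourth and fifth powers of the matrices. -/
def cand : List (List ℕ × List (List ℤ) × List (List ℤ) × List (List ℤ)) := [
  ([12, 3, 56, 42, 39, 38], [[0, 0, 0, 0, 1, 0], [0, 1, 1, 2, 1, 0], [-1, 0, -1, -1, -1, 0], [1, 0, 0, 0, 0, 0], [0, 0, 1, 0, 0, 0], [0, 0, 0, 1, 1, 1]],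
    [[0, 0, 1, 0, 0, 0], [1, 1, 1, 1, 0, 0], [0, 0, 0, 1, 0, 0], [0, 0, 0, 0, 1, 0], [-1, 0, -1, -1, -1, 0], [1, 0, 1, 1, 1, 1]],
    [[1, 0, 0, 0, 0, 0], [-1, -1, -2, -3, -2, -1], [0, 0, 1, 0, 0, 0], [0, 0, 0, 1, 0, 0], [0, 0, 0, 0, 1, 0], [0, 0, 0, 0, 0, 1]]),
  ([12, 48, 56, 42, 39, 38], [[0, 0, 0, 0, 1, 0], [0, 1, 1, 2, 1, 0], [-1, 0, -1, -1, -1, 0], [1, 0, 0, 0, 0, 0], [0, 0, 1, 0, 0, 0], [0, 0, 0, 1, 1, 1]],
    [[0, 0, 1, 0, 0, 0], [1, 1, 1, 1, 0, 0], [0, 0, 0, 1, 0, 0], [0, 0, 0, 0, 1, 0], [-1, 0, -1, -1, -1, 0], [1, 0, 1, 1, 1, 1]],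
    [[1, 0, 0, 0, 0, 0], [0, 1, 0, 0, 0, 0], [0, 0, 1, 0, 0, 0], [0, 0, 0, 1, 0, 0], [0, 0, 0, 0, 1, 0], [0, 0, 0, 0, 0, 1]]),
  ([37, 8, 12, 56, 42, 41], [[0, 0, 1, 0, 0, 0], [1, 1, 1, 1, 0, 0], [0, 0, 0, 1, 0, 0], [0, 0, 0, 0, 1, 0], [-1, 0, -1, -1, -1, 0], [1, 0, 1, 1, 1, 1]],
    [[0, 0, 0, 1, 0, 0], [1, 1, 2, 2, 1, 0], [0, 0, 0, 0, 1, 0], [-1, 0, -1, -1, -1, 0], [1, 0, 0, 0, 0, 0], [0, 0, 1, 1, 1, 1]],
    [[1, 0, 0, 0, 0, 0], [-1, -1, -2, -3, -2, -1], [0, 0, 1, 0, 0, 0], [0, 0, 0, 1, 0, 0], [0, 0, 0, 0, 1, 0], [0, 0, 0, 0, 0, 1]]),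
  ([37, 53, 12, 56, 42, 41], [[0, 0, 1, 0, 0, 0], [1, 1, 1, 1, 0, 0], [0, 0, 0, 1, 0, 0], [0, 0, 0, 0, 1, 0], [-1, 0, -1, -1, -1, 0], [1, 0, 1, 1, 1, 1]],
    [[0, 0, 0, 1, 0, 0], [1, 1, 2, 2, 1, 0], [0, 0, 0, 0, 1, 0], [-1, 0, -1, -1, -1, 0], [1, 0, 0, 0, 0, 0], [0, 0, 1, 1, 1, 1]],
    [[1, 0, 0, 0, 0, 0], [0, 1, 0, 0, 0, 0], [0, 0, 1, 0, 0, 0], [0, 0, 0, 1, 0, 0], [0, 0, 0, 0, 1, 0], [0, 0, 0, 0, 0, 1]]),
  ([39, 22, 37, 12, 56, 45], [[-1, 0, -1, -1, -1, 0], [0, 1, 0, 1, 1, 0], [1, 0, 0, 0, 0, 0], [0, 0, 1, 0, 0, 0], [0, 0, 0, 1, 0, 0], [0, 0, 0, 0, 1, 1]],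
    [[0, 0, 0, 0, 1, 0], [0, 1, 1, 2, 1, 0], [-1, 0, -1, -1, -1, 0], [1, 0, 0, 0, 0, 0], [0, 0, 1, 0, 0, 0], [0, 0, 0, 1, 1, 1]],
    [[1, 0, 0, 0, 0, 0], [-1, -1, -2, -3, -2, -1], [0, 0, 1, 0, 0, 0], [0, 0, 0, 1, 0, 0], [0, 0, 0, 0, 1, 0], [0, 0, 0, 0, 0, 1]]),
  ([39, 67, 37, 12, 56, 45], [[-1, 0, -1, -1, -1, 0], [0, 1, 0, 1, 1, 0], [1, 0, 0, 0, 0, 0], [0, 0, 1, 0, 0, 0], [0, 0, 0, 1, 0, 0], [0, 0, 0, 0, 1, 1]],
    [[0, 0, 0, 0, 1, 0], [0, 1, 1, 2, 1, 0], [-1, 0, -1, -1, -1, 0], [1, 0, 0, 0, 0, 0], [0, 0, 1, 0, 0, 0], [0, 0, 0, 1, 1, 1]],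
    [[1, 0, 0, 0, 0, 0], [0, 1, 0, 0, 0, 0], [0, 0, 1, 0, 0, 0], [0, 0, 0, 1, 0, 0], [0, 0, 0, 0, 1, 0], [0, 0, 0, 0, 0, 1]]),
  ([42, 16, 39, 37, 12, 60], [[0, 0, 0, 1, 0, 0], [1, 1, 2, 2, 1, 0], [0, 0, 0, 0, 1, 0], [-1, 0, -1, -1, -1, 0], [1, 0, 0, 0, 0, 0], [0, 0, 1, 1, 1, 1]],
    [[-1, 0, -1, -1, -1, 0], [0, 1, 0, 1, 1, 0], [1, 0, 0, 0, 0, 0], [0, 0, 1, 0, 0, 0], [0, 0, 0, 1, 0, 0], [0, 0, 0, 0, 1, 1]],
    [[1, 0, 0, 0, 0, 0], [-1, -1, -2, -3, -2, -1], [0, 0, 1, 0, 0, 0], [0, 0, 0, 1, 0, 0], [0, 0, 0, 0, 1, 0], [0, 0, 0, 0, 0, 1]]),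
  ([42, 61, 39, 37, 12, 60], [[0, 0, 0, 1, 0, 0], [1, 1, 2, 2, 1, 0], [0, 0, 0, 0, 1, 0], [-1, 0, -1, -1, -1, 0], [1, 0, 0, 0, 0, 0], [0, 0, 1, 1, 1, 1]],
    [[-1, 0, -1, -1, -1, 0], [0, 1, 0, 1, 1, 0], [1, 0, 0, 0, 0, 0], [0, 0, 1, 0, 0, 0], [0, 0, 0, 1, 0, 0], [0, 0, 0, 0, 1, 1]],
    [[1, 0, 0, 0, 0, 0], [0, 1, 0, 0, 0, 0], [0, 0, 1, 0, 0, 0], [0, 0, 0, 1, 0, 0], [0, 0, 0, 0, 1, 0], [0, 0, 0, 0, 0, 1]]),
  ([56, 1, 42, 39, 37, 36], [[1, 0, 0, 0, 0, 0], [0, 1, 0, 0, 0, 0], [0, 0, 1, 0, 0, 0], [0, 0, 0, 1, 0, 0], [0, 0, 0, 0, 1, 0], [0, 0, 0, 0, 0, 1]],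
    [[1, 0, 0, 0, 0, 0], [0, 1, 0, 0, 0, 0], [0, 0, 1, 0, 0, 0], [0, 0, 0, 1, 0, 0], [0, 0, 0, 0, 1, 0], [0, 0, 0, 0, 0, 1]],
    [[1, 0, 0, 0, 0, 0], [-1, -1, -2, -3, -2, -1], [0, 0, 1, 0, 0, 0], [0, 0, 0, 1, 0, 0], [0, 0, 0, 0, 1, 0], [0, 0, 0, 0, 0, 1]]),
  ([56, 46, 42, 39, 37, 36], [[1, 0, 0, 0, 0, 0], [0, 1, 0, 0, 0, 0], [0, 0, 1, 0, 0, 0], [0, 0, 0, 1, 0, 0], [0, 0, 0, 0, 1, 0], [0, 0, 0, 0, 0, 1]],
    [[1, 0, 0, 0, 0, 0], [0, 1, 0, 0, 0, 0], [0, 0, 1, 0, 0, 0], [0, 0, 0, 1, 0, 0], [0, 0, 0, 0, 1, 0], [0, 0, 0, 0, 0, 1]],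
    [[1, 0, 0, 0, 0, 0], [0, 1, 0, 0, 0, 0], [0, 0, 1, 0, 0, 0], [0, 0, 0, 1, 0, 0], [0, 0, 0, 0, 1, 0], [0, 0, 0, 0, 0, 1]])]

/-- Every matrix commuting with the rotation is in the list. -/
def chkCand : Bool :=
  (List.range 72).all fun a =>
    let b := rot a
    let c := rot b
    let d := rot c
    !(addL (cl (rot d)) (addL (addL (cl a) (cl b)) (addL (cl c) (cl d))) == [0, 0, 0, 0, 0, 0]) ||
    (List.range 72).all fun x =>
      !(cl (rot x) == addL (addL (cl a) (cl x)) (addL (cl b) (cl c))) ||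
      (List.range 72).all fun y =>
        !(cl (rot y) == addL (addL (addL (cl a) (cl b)) (addL (cl c) (cl d))) (cl y)) ||
        !(chkIso [a, x, b, c, d, y]) || (cand.map Prod.fst).contains [a, x, b, c, d, y]

theorem chkCand_ok : chkCand = true := by decide +kernel

/-- A list as a matrix. -/
def matL (A : List (List ℤ)) : Matrix (Fin 6) (Fin 6) ℤ := Matrix.of fun i j => (A.getD i []).getD j 0

/-- The identity satisfied by a candidate. -/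
def chkPoly5 (p : List ℕ × List (List ℤ) × List (List ℤ) × List (List ℤ)) : Bool :=
  let M : Matrix (Fin 6) (Fin 6) ℤ := Matrix.of fun i j : Fin 6 => auxE6.coef j (p.1.getD i 0)
  decide (M * M = matL p.2.1 ∧ matL p.2.1 * matL p.2.1 = matL p.2.2.1 ∧ matL p.2.2.1 * M = matL p.2.2.2 ∧
    (matL p.2.2.2 - 1) * (M + 1) = 0)

theorem chkPoly5_ok : cand.all chkPoly5 = true := by decide +kernel

theorem six_pow : (6 : ZMod 11) ^ 10 = 1 ∧ (∀ m, m < 10 → 0 < m → (6 : ZMod 11) ^ m ≠ 1) ∧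
    (6 : ZMod 11) ^ 5 = -1 ∧ (-14 : ZMod 11) ≠ 0 := by decide +kernel

theorem six_two : (6 : ZMod 11) * 2 = 1 := by decide +kernel

theorem rot_simple : (cl (rot (chevE6.simple 0)) = [0, 0, 1, 0, 0, 0] ∧
    cl (rot (chevE6.simple 1)) = [1, 1, 1, 1, 0, 0] ∧ cl (rot (chevE6.simple 2)) = [0, 0, 0, 1, 0, 0] ∧
    cl (rot (chevE6.simple 3)) = [0, 0, 0, 0, 1, 0] ∧ cl (rot (chevE6.simple 4)) = [-1, 0, -1, -1, -1, 0] ∧
    cl (rot (chevE6.simple 5)) = [1, 0, 1, 1, 1, 1]) ∧ rot (chevE6.simple 0) = chevE6.simple 2 ∧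
    rot (chevE6.simple 2) = chevE6.simple 3 ∧ rot (chevE6.simple 3) = chevE6.simple 4 := by decide +kernel

variable {F : Type*} [Field F] {G : Type*} [Group G] (R : Rel chevE6 auxE6 F G)

section Coordinates

variable {D : ChevalleyDatum} {X : Aux} {F' : Type*} [Field F'] {G' : Type*} [Group G'] (R' : Rel D X F' G')

theorem coef_image (q : R'.WQ) (L : ℕ → ℕ) (hL : ∀ i : Fin D.rank, L i = (R'.qact q (R'.sroot i) : ℕ))
    (r : Fin D.nroots) (k : ℕ) (hk : k < D.rank) : X.coef k (R'.qact q r : ℕ) =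
      ∑ i ∈ Finset.range D.rank, X.coef i (r : ℕ) * X.coef k (L i) := by
  rw [← Fin.sum_univ_eq_sum_range (fun i : ℕ => X.coef i (r : ℕ) * X.coef k (L i)) D.rank]
  refine ((congrFun (vecMul_wMat R' (R'.isLin_qact q) r) ⟨k, hk⟩).symm.trans ?_)
  simp only [Matrix.vecMul, dotProduct]
  refine Finset.sum_congr rfl fun i _ => ?_
  rw [hL]
  rfl

theorem bil_image {B : Matrix (Fin D.rank) (Fin D.rank) ℤ} (hB : CyclicTorus.BilOK D X B) (c : ℕ → ℕ → ℤ)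
    (hc : ∀ a b : Fin D.rank, B a b = c a b) (q : R'.WQ) (L : ℕ → ℕ)
    (hL : ∀ i : Fin D.rank, L i = (R'.qact q (R'.sroot i) : ℕ)) (i j : ℕ) (hi : i < D.rank) (hj : j < D.rank) :
    ∑ a ∈ Finset.range D.rank, ∑ b ∈ Finset.range D.rank, X.coef a (L i) * c a b * X.coef b (L j) = c i j := by
  obtain ⟨g, hg⟩ := R'.qmk_surjective q
  have h := congrFun (congrFun (CyclicTorus.bil_invariant R' hB g) ⟨i, hi⟩) ⟨j, hj⟩
  rw [← R'.qact_qmk, hg, hc] at h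
  refine Eq.trans ?_ h
  rw [Matrix.mul_apply, ← Fin.sum_univ_eq_sum_range fun a => ∑ b ∈ Finset.range D.rank,
    X.coef a (L i) * c a b * X.coef b (L j)]
  simp only [Matrix.mul_apply, Matrix.transpose_apply, Finset.sum_mul]
  conv_rhs => rw [Finset.sum_comm]
  refine Finset.sum_congr rfl fun a _ => ?_
  rw [← Fin.sum_univ_eq_sum_range fun b => X.coef a (L i) * c a b * X.coef b (L j)]
  refine Finset.sum_congr rfl fun b _ => ?_
  rw [hc, show L i = L (⟨i, hi⟩ : Fin D.rank) from rfl, show L j = L (⟨j, hj⟩ : Fin D.rank) from rfl, hL, hL]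
  rfl

theorem cls_image {p : ℕ} {c : Fin D.rank → ℤ} (hC : Homocyclic.ClassOK D X p c) (c' : ℕ → ℤ)
    (hc : ∀ a : Fin D.rank, c a = c' a) (q : R'.WQ) (L : ℕ → ℕ)
    (hL : ∀ i : Fin D.rank, L i = (R'.qact q (R'.sroot i) : ℕ)) (k : ℕ) (hk : k < D.rank) :
    (p : ℤ) ∣ (∑ a ∈ Finset.range D.rank, c' a * X.coef k (L a)) - c' k := by
  obtain ⟨g, hg⟩ := R'.qmk_surjective q
  have h := congrFun (Homocyclic.class_invariant R' hC g) ⟨k, hk⟩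
  rw [← R'.qact_qmk, hg] at h
  have h2 : ((c ⟨k, hk⟩ : ℤ) : ZMod p) = (((∑ a ∈ Finset.range D.rank, c' a * X.coef k (L a)) : ℤ) : ZMod p) := by
    refine h.symm.trans (congrArg (fun z : ℤ => (z : ZMod p)) ?_)
    rw [← Fin.sum_univ_eq_sum_range (fun a : ℕ => c' a * X.coef k (L a)) D.rank]
    simp only [Matrix.vecMul, dotProduct]
    refine Finset.sum_congr rfl fun a _ => ?_
    rw [hc, hL]
    rfl
  rw [hc] at h2
  exact (ZMod.intCast_eq_intCast_iff_dvd_sub _ _ p).1 h2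

end Coordinates

theorem rot_eq (r : Fin chevE6.nroots) : (R.qact (wq R [0, 2, 3, 4]) r : ℕ) = rot r := by
  rw [qact_wq, rot]; rfl

theorem rank6 : chevE6.rank = 6 := rfl

theorem sum_range_six {A : Type*} [AddCommMonoid A] (f : ℕ → A) :
    ∑ i ∈ Finset.range 6, f i = f 0 + f 1 + f 2 + f 3 + f 4 + f 5 := by
  simp [Finset.sum_range_succ]

theorem list_sum_range (f : ℕ → ℤ) (n : ℕ) : ((List.range n).map f).sum = ∑ i ∈ Finset.range n, f i := by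
  rw [Finset.sum_eq_multiset_sum, Finset.range_val]; rfl

theorem cand_of_comm (q : R.WQ) (hq : q * wq R [0, 2, 3, 4] = wq R [0, 2, 3, 4] * q) :
    AltTorus.key R (R.qact q) ∈ cand.map Prod.fst := by
  obtain ⟨π, hπ⟩ : ∃ π, π = R.qact q := ⟨_, rfl⟩
  obtain ⟨L, hL⟩ : ∃ L : ℕ → ℕ, ∀ i : Fin chevE6.rank, L i = (π (R.sroot i) : ℕ) :=
    ⟨fun i => if h : i < chevE6.rank then (π (R.sroot ⟨i, h⟩) : ℕ) else 0, fun i => dif_pos i.2⟩
  have hL' : ∀ i, i < 6 → ∃ r : Fin chevE6.nroots, (r : ℕ) = chevE6.simple i ∧ L i = (π r : ℕ) := fun i hi =>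
    ⟨R.sroot ⟨i, rank6 ▸ hi⟩, rfl, hL ⟨i, rank6 ▸ hi⟩⟩
  have hc : ∀ r : Fin chevE6.nroots, (π (R.qact (wq R [0, 2, 3, 4]) r) : ℕ) = rot (π r : ℕ) := fun r => by
    rw [← rot_eq R, hπ, ← Equiv.Perm.mul_apply, ← map_mul, hq, map_mul, Equiv.Perm.mul_apply]
  have hlin : ∀ (r : Fin chevE6.nroots) (k : ℕ), k < 6 →
      auxE6.coef k (π r : ℕ) = ∑ i ∈ Finset.range 6, auxE6.coef i (r : ℕ) * auxE6.coef k (L i) := fun r k hk =>
    hπ ▸ coef_image R q L (hπ ▸ hL) r k hk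
  obtain ⟨⟨h0, h1, h2, h3, h4, h5⟩, e02, e23, e34⟩ := rot_simple
  have hnext : ∀ i j : ℕ, i < 6 → j < 6 → rot (chevE6.simple i) = chevE6.simple j → L j = rot (L i) := by
    intro i j hi hj e
    obtain ⟨r, hr, hr'⟩ := hL' i hi
    obtain ⟨s, hs, hs'⟩ := hL' j hj
    rw [hr', hs', ← hc]
    exact congrArg (fun r => (π r : ℕ)) (Fin.ext (by rw [rot_eq R, hr, hs, e]))
  have hcl : ∀ i < 6, ∀ k < 6, auxE6.coef k (rot (L i)) =
      ∑ j ∈ Finset.range 6, (cl (rot (chevE6.simple i))).getD j 0 * auxE6.coef k (L j) := by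
    intro i hi k hk
    obtain ⟨r, hr, hr'⟩ := hL' i hi
    rw [hr', ← hc, hlin _ k hk]
    refine Finset.sum_congr rfl fun j hj => congrArg (· * _) ?_
    rw [rot_eq R, hr, cl, List.getD_eq_getElem?_getD]
    simp [Finset.mem_range.1 hj]
  have hkey : AltTorus.key R π = [L 0, L 1, L 2, L 3, L 4, L 5] := by
    refine List.ext_getElem (by simp [AltTorus.key, rank6]) fun i h1' h2' => ?_
    have hi : i < chevE6.rank := by simpa [AltTorus.key] using h1'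
    rw [rank6] at hi
    simp only [AltTorus.key, List.getElem_ofFn]
    rw [← hL]
    interval_cases i <;> rfl
  have hlt : ∀ i, i < 6 → L i < 72 := fun i hi => by
    obtain ⟨r, -, hr'⟩ := hL' i hi
    rw [hr']; exact (π r).2
  have l2 := hnext 0 2 (by norm_num) (by norm_num) e02
  have l3 := hnext 2 3 (by norm_num) (by norm_num) e23
  have l4 := hnext 3 4 (by norm_num) (by norm_num) e34
  have hcl' := fun i hi (k : ℕ) (hk : k < 6) => (hcl i hi k hk).trans (sum_range_six _)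
  have c1 : cl (rot (L 1)) = addL (addL (cl (L 0)) (cl (L 1))) (addL (cl (L 2)) (cl (L 3))) := by
    refine List.ext_getElem (by simp [cl, addL]) fun k hk _ => ?_
    have hk6 : k < 6 := by simpa [cl] using hk
    have h := hcl' 1 (by norm_num) k hk6
    rw [h1] at h
    simp [cl, addL] at h ⊢
    linarith
  have c5 : cl (rot (L 5)) =
      addL (addL (addL (cl (L 0)) (cl (L 2))) (addL (cl (L 3)) (cl (L 4)))) (cl (L 5)) := by
    refine List.ext_getElem (by simp [cl, addL]) fun k hk _ => ?_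
    have hk6 : k < 6 := by simpa [cl] using hk
    have h := hcl' 5 (by norm_num) k hk6
    rw [h5] at h
    simp [cl, addL] at h ⊢
    linarith
  have c4 : addL (cl (rot (L 4))) (addL (addL (cl (L 0)) (cl (L 2))) (addL (cl (L 3)) (cl (L 4)))) =
      [0, 0, 0, 0, 0, 0] := by
    refine List.ext_getElem (by simp [cl, addL]) fun k hk _ => ?_
    have hk6 : k < 6 := by simpa [cl, addL] using hk
    have h := hcl' 4 (by norm_num) k hk6
    rw [h4] at h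
    simp [cl, addL] at h ⊢
    interval_cases k <;> simp <;> linarith
  have hiso : chkIso [L 0, L 1, L 2, L 3, L 4, L 5] = true := by
    have hgd : ∀ i < 6, ([L 0, L 1, L 2, L 3, L 4, L 5]).getD i 0 = L i := fun i hi => by
      interval_cases i <;> rfl
    simp only [chkIso, Bool.and_eq_true, List.all_eq_true, List.mem_range, decide_eq_true_eq, list_sum_range]
    refine ⟨fun i hi j hj => ?_, fun k hk => ?_⟩
    · rw [hgd i hi, hgd j hj]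
      exact bil_image R Homocyclic.bilE6 _ (fun _ _ => rfl) q L (hπ ▸ hL) i j hi hj
    · refine Int.emod_eq_zero_of_dvd ?_
      have h := cls_image R Homocyclic.classE6 (fun a => ([1, 0, 2, 0, 1, 2] : List ℤ).getD a 0) (fun _ => rfl)
        q L (hπ ▸ hL) k hk
      rw [Finset.sum_congr rfl fun i hi => by rw [hgd i (Finset.mem_range.1 hi)]]
      exact h
  have hchk := chkCand_ok
  simp only [chkCand, List.all_eq_true, List.mem_range, Bool.or_eq_true, Bool.not_eq_true', beq_eq_false_iff_ne] at hchk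
  rw [l3, l2] at l4
  rw [l2] at l3
  rw [l2, l3, l4] at c4 c5 hiso hkey
  rw [l2, l3] at c1
  rcases hchk (L 0) (hlt 0 (by norm_num)) with h | h
  · exact absurd c4 h
  rcases h (L 1) (hlt 1 (by norm_num)) with h | h
  · exact absurd c1 h
  rcases h (L 5) (hlt 5 (by norm_num)) with (h | h) | h
  · exact absurd c5 h
  · rw [hiso] at h; cases h
  · rw [← hπ, hkey]
    exact List.contains_iff_mem.1 h

theorem conj_inv_pow5 {H : Type*} [Group H] (g x : H) : (g⁻¹ * x * g) ^ 5 = g⁻¹ * x ^ 5 * g := by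
  simp only [pow_succ, pow_zero, one_mul]; group

theorem poly_of_comm (q : R.WQ) (hq : q * wq R [0, 2, 3, 4] = wq R [0, 2, 3, 4] * q) :
    (wMat R (R.qact q) ^ 5 - 1) * (wMat R (R.qact q) + 1) = 0 := by
  obtain ⟨p, hp, e⟩ := List.mem_map.1 (cand_of_comm R q hq)
  have h := List.all_eq_true.1 chkPoly5_ok p hp
  simp only [chkPoly5, decide_eq_true_eq] at h
  obtain ⟨h2, h4, h5, h0⟩ := h
  rw [← AltTorus.keyMat_key, ← e]
  show ((AltTorus.keyMat chevE6 auxE6 p.1) ^ 5 - 1) * _ = 0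
  have hM : (AltTorus.keyMat chevE6 auxE6 p.1 : Matrix (Fin 6) (Fin 6) ℤ) =
      Matrix.of fun i j : Fin 6 => auxE6.coef j (p.1.getD i 0) := rfl
  rw [← hM] at h2 h5 h0
  rw [← h5, ← h4, ← h2] at h0
  rw [show AltTorus.keyMat chevE6 auxE6 p.1 ^ 5 = AltTorus.keyMat chevE6 auxE6 p.1 * AltTorus.keyMat chevE6 auxE6 p.1 *
    (AltTorus.keyMat chevE6 auxE6 p.1 * AltTorus.keyMat chevE6 auxE6 p.1) * AltTorus.keyMat chevE6 auxE6 p.1 by
      simp only [pow_succ, pow_zero, one_mul, mul_assoc]]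
  exact h0

/-- The Weyl group of type E6 has no eigenvalue of order ten modulo eleven. -/
theorem noEigen_eleven (n : R.NS) : AltTorus.NoEigen chevE6 auxE6 11 2 (AltTorus.key R (R.nsPerm n)) := by
  haveI := finite_WQ R
  haveI : Fact (Nat.Prime 11) := ⟨by norm_num⟩
  haveI : Fact (Nat.Prime 5) := ⟨by norm_num⟩
  intro hdvd
  rw [AltTorus.keyMat_key] at hdvd
  obtain ⟨q, hq⟩ : ∃ q, q = R.qmk n := ⟨_, rfl⟩
  rw [← R.qact_qmk, ← hq] at hdvd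
  obtain ⟨Φ, hΦ⟩ : ∃ Φ : R.WQ → Matrix (Fin 6) (Fin 6) ℤ, ∀ x, Φ x = wMat R (R.qact x) := ⟨_, fun _ => rfl⟩
  have hΦmul : ∀ x y, Φ (x * y) = Φ y * Φ x := fun x y => by
    rw [hΦ, hΦ, hΦ, map_mul]; exact wMat_mul R (R.isLin_qact x)
  have hΦone : Φ 1 = 1 := by rw [hΦ, map_one]; exact wMat_one R
  have hΦpow : ∀ x k, Φ (x ^ k) = Φ x ^ k := fun x k => by
    rw [hΦ, hΦ, map_pow]; exact wMat_pow R (R.isLin_qact x) k
  -- the eigenvector modulo eleven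
  obtain ⟨f, hf⟩ : ∃ f, f = (Int.castRingHom (ZMod 11)).mapMatrix (m := Fin 6) := ⟨_, rfl⟩
  obtain ⟨M, hM⟩ : ∃ M, M = f (Φ q) := ⟨_, rfl⟩
  have hdet : ((2 : ZMod 11) • M - 1).det = 0 := by
    have h1 : ((((2 : ℕ) : ℤ) • Φ q - 1).det : ZMod 11) = 0 :=
      (ZMod.intCast_zmod_eq_zero_iff_dvd _ _).2 (by rw [hΦ]; exact hdvd)
    have h2 := RingHom.map_det (Int.castRingHom (ZMod 11)) ((((2 : ℕ) : ℤ)) • Φ q - 1)
    rw [eq_intCast, h1, ← hf, map_sub, map_one, map_zsmul, ← hM, ← Int.cast_smul_eq_zsmul (ZMod 11)] at h2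
    simpa using h2.symm
  obtain ⟨v, hv, hMv⟩ := Matrix.exists_mulVec_eq_zero_iff.2 hdet
  have hMv6 : M *ᵥ v = (6 : ZMod 11) • v := by
    rw [Matrix.sub_mulVec, Matrix.one_mulVec, Matrix.smul_mulVec, sub_eq_zero] at hMv
    have h := congrArg (fun x : Fin 6 → ZMod 11 => (6 : ZMod 11) • x) hMv
    simpa [smul_smul, six_two] using h
  have hpw : ∀ k, M ^ k *ᵥ v = (6 : ZMod 11) ^ k • v := by
    intro k
    induction k with
    | zero => simp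
    | succ k ih => rw [pow_succ, ← Matrix.mulVec_mulVec, hMv6, Matrix.mulVec_smul, ih, smul_smul, pow_succ']
  -- the order is a multiple of ten
  have ho : 5 ∣ orderOf q := by
    refine dvd_trans (by norm_num : 5 ∣ 10) ?_
    have h6 : orderOf (6 : ZMod 11) = 10 := (orderOf_eq_iff (by norm_num)).2 ⟨six_pow.1, six_pow.2.1⟩
    rw [← h6]
    refine orderOf_dvd_of_pow_eq_one ?_
    have h := hpw (orderOf q)
    rw [hM, ← map_pow, ← hΦpow, pow_orderOf_eq_one, hΦone, map_one, Matrix.one_mulVec] at h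
    obtain ⟨i, hi⟩ := Function.ne_iff.1 hv
    have h2 := congrFun h i
    rw [Pi.smul_apply, smul_eq_mul] at h2
    exact (mul_eq_right₀ hi).1 h2.symm
  obtain ⟨u, hu⟩ : ∃ u, u = q ^ (orderOf q / 5) := ⟨_, rfl⟩
  have hu5 : orderOf u = 5 := hu ▸ orderOf_pow_orderOf_div (orderOf_pos q).ne' ho
  have hP : IsPGroup 5 (Subgroup.zpowers u) := IsPGroup.of_card (n := 1) (by rw [Nat.card_zpowers, hu5, pow_one])
  obtain ⟨g, hg⟩ := fiveT_ok.conj_into R (p := 5) (N := 10368) (card_WQ_E6 R) (by norm_num) hP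
  obtain ⟨q', hq'⟩ : ∃ q', q' = g * q * g⁻¹ := ⟨_, rfl⟩
  have hu' : g * u * g⁻¹ ∈ fiveT.sub R := hg u (Subgroup.mem_zpowers u)
  have hS : Subgroup.zpowers (g * u * g⁻¹) = fiveT.sub R := by
    refine Subgroup.eq_of_le_of_card_ge ((Subgroup.zpowers_le).2 hu') ?_
    have e : orderOf (g * u * g⁻¹) = orderOf u :=
      orderOf_injective (MulAut.conj g).toMonoidHom (MulAut.conj g).injective u
    rw [fiveT_ok.card, Nat.card_zpowers, e, hu5]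
  obtain ⟨k, hk⟩ : wq R [0, 2, 3, 4] ∈ Subgroup.zpowers (g * u * g⁻¹) :=
    hS ▸ Subgroup.subset_closure ⟨0, rfl⟩
  have hcomm : q' * wq R [0, 2, 3, 4] = wq R [0, 2, 3, 4] * q' := by
    refine Commute.eq ?_
    rw [← hk, hq', hu]
    exact (((Commute.refl q).pow_right _).map (MulAut.conj g).toMonoidHom).zpow_right k
  have hpoly := poly_of_comm R q' hcomm
  rw [← hΦ] at hpoly
  have hg1 : Φ g * Φ g⁻¹ = 1 := by rw [← hΦmul, inv_mul_cancel, hΦone]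
  have hg2 : Φ g⁻¹ * Φ g = 1 := by rw [← hΦmul, mul_inv_cancel, hΦone]
  have hq0 : q = g⁻¹ * q' * g := by rw [hq']; group
  have hq6 : (Φ q ^ 5 - 1) * (Φ q + 1) = 0 := by
    have e1 : Φ q = Φ g * Φ q' * Φ g⁻¹ := by rw [hq0, hΦmul, hΦmul, Matrix.mul_assoc]
    have e5 : Φ q ^ 5 = Φ g * Φ q' ^ 5 * Φ g⁻¹ := by
      rw [← hΦpow, hq0, conj_inv_pow5, hΦmul, hΦmul, hΦpow, Matrix.mul_assoc]
    calc (Φ q ^ 5 - 1) * (Φ q + 1) =
        (Φ g * Φ q' ^ 5 * Φ g⁻¹ - Φ g * Φ g⁻¹) * (Φ g * Φ q' * Φ g⁻¹ + Φ g * Φ g⁻¹) := by rw [← e5, ← e1, hg1]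
      _ = Φ g * ((Φ q' ^ 5 - 1) * (Φ g⁻¹ * Φ g) * (Φ q' + 1)) * Φ g⁻¹ := by noncomm_ring
      _ = 0 := by rw [hg2, mul_one, (show (Φ q' ^ 5 - 1) * (Φ q' + 1) = 0 from hpoly), mul_zero, zero_mul]
  have h0 := congrArg f hq6
  rw [map_mul, map_sub, map_add, map_pow, map_one, map_zero, ← hM] at h0
  have h1 := congrArg (fun A => A *ᵥ v) h0
  simp only [← Matrix.mulVec_mulVec, Matrix.add_mulVec, Matrix.one_mulVec, Matrix.mulVec_add, Matrix.sub_mulVec,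
    Matrix.zero_mulVec, hMv6, Matrix.mulVec_smul, hpw] at h1
  obtain ⟨i, hi⟩ := Function.ne_iff.1 hv
  have h2 := congrFun h1 i
  simp only [Pi.add_apply, Pi.sub_apply, Pi.smul_apply, smul_eq_mul, Pi.zero_apply] at h2
  rw [six_pow.2.2.1] at h2
  apply hi
  have h3 : ((-14 : ZMod 11)) * v i = 0 := by linear_combination h2
  exact (mul_eq_zero.1 h3).resolve_left six_pow.2.2.2

end CfsgLib.Known.AltE6
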