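import Cfsg.Agent.Lib.Known.AltE6.Weights
import Cfsg.Agent.Lib.Known.AltTorus.Lift
import Cfsg.Agent.Lib.Perm.AltBounded.Carmichael

/-!
# Fixed point dimensions of lifts of elements of prime order
-/

set_option autoImplicit false

namespace CfsgLib.Known.AltE6

open Module

/-- Elements of prime order with supports of the same size are conjugate in the alternating group when an odd
permutation centralises one of them. -/
theorem exists_conj_alt {n ℓ : ℕ} [Fact ℓ.Prime] {r a : alternatingGroup (Fin n)} (hr : r ^ ℓ = 1) (ha : a ^ ℓ = 1)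
    (hs : (a : Equiv.Perm (Fin n)).support.card = (r : Equiv.Perm (Fin n)).support.card) {c : Equiv.Perm (Fin n)}
    (hc : Equiv.Perm.sign c = -1) (hcr : c * (r : Equiv.Perm (Fin n)) = (r : Equiv.Perm (Fin n)) * c) :
    ∃ g : alternatingGroup (Fin n), g * r * g⁻¹ = a := by
  have hl : ℓ.Prime := Fact.out
  have hr' : (r : Equiv.Perm (Fin n)) ^ ℓ = 1 := congrArg Subtype.val hr
  have ha' : (a : Equiv.Perm (Fin n)) ^ ℓ = 1 := congrArg Subtype.val ha
  have h1 := Equiv.Perm.cycleType_of_pow_prime_eq_one hr'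
  have h2 := Equiv.Perm.cycleType_of_pow_prime_eq_one ha'
  have hk : (a : Equiv.Perm (Fin n)).cycleType.card = (r : Equiv.Perm (Fin n)).cycleType.card := by
    rw [← Equiv.Perm.sum_cycleType, ← Equiv.Perm.sum_cycleType, h1, h2, Multiset.sum_replicate, Multiset.sum_replicate,
      smul_eq_mul, smul_eq_mul] at hs
    exact Nat.eq_of_mul_eq_mul_right hl.pos hs
  obtain ⟨g, hg⟩ := isConj_iff.1 (Equiv.Perm.isConj_iff_cycleType_eq.2 (show (r : Equiv.Perm (Fin n)).cycleType =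
    (a : Equiv.Perm (Fin n)).cycleType by rw [h1, h2, hk]))
  rcases Int.units_eq_one_or (Equiv.Perm.sign g) with h | h
  · exact ⟨⟨g, Equiv.Perm.mem_alternatingGroup.2 h⟩, Subtype.ext hg⟩
  · refine ⟨⟨g * c, Equiv.Perm.mem_alternatingGroup.2 (by rw [map_mul, h, hc]; decide)⟩, Subtype.ext ?_⟩
    show g * c * (r : Equiv.Perm (Fin n)) * (g * c)⁻¹ = a
    rw [mul_assoc g, hcr, ← hg]
    group

variable {k W H A : Type*} [Field k] [AddCommGroup W] [Module k W] [Group H] [Group A]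
variable (π : H →* A) (σ : H →* End k W)

/-- The elements of the kernel of prime power order act trivially. -/
def Triv (ℓ : ℕ) : Prop := ∀ x ∈ π.ker, ∀ j : ℕ, x ^ (ℓ ^ j) = 1 → σ x = 1

/-- A lift of prime power order. -/
def IsLiftOf (ℓ : ℕ) (a : A) (h : H) : Prop := π h = a ∧ ∃ j : ℕ, h ^ (ℓ ^ j) = 1

/-- The dimension of the fixed points of a lift of prime power order. -/
noncomputable def dd (ℓ : ℕ) (a : A) : ℕ := fixd (σ (Classical.epsilon (IsLiftOf π ℓ a)))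

variable {π σ} [Finite H] {ℓ : ℕ} [Fact ℓ.Prime]

omit [Finite H] [Fact ℓ.Prime] in
theorem Triv.eq_of_mem (hσ : Triv π σ ℓ) {S : Subgroup H} (hS : IsPGroup ℓ S) {x y : H} (hx : x ∈ S) (hy : y ∈ S)
    (h : π x = π y) : σ x = σ y := by
  obtain ⟨j, hj⟩ := hS ⟨y⁻¹ * x, mul_mem (inv_mem hy) hx⟩
  have h1 := hσ (y⁻¹ * x) (MonoidHom.mem_ker.2 (by rw [map_mul, map_inv, h, inv_mul_cancel])) j
    (by simpa [Subtype.ext_iff] using hj)
  calc σ x = σ (y * (y⁻¹ * x)) := by rw [mul_inv_cancel_left]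
    _ = σ y := by rw [map_mul, h1, mul_one]

omit [Finite H] [Fact ℓ.Prime] in
theorem fixd_map_conj (g x : H) : fixd (σ (g * x * g⁻¹)) = fixd (σ x) := by
  obtain ⟨u, hu⟩ : ∃ u : (End k W)ˣ, u = σ.toHomUnits g := ⟨_, rfl⟩
  have h1 : (u : End k W) = σ g := by rw [hu]; rfl
  have h2 : ((u⁻¹ : (End k W)ˣ) : End k W) = σ g⁻¹ := by
    rw [hu, ← map_inv]; rfl
  rw [map_mul, map_mul, ← h1, ← h2]
  exact fixd_conj _ u

theorem exists_liftOf (hπ : Function.Surjective π) {a : A} (ha : a ^ ℓ = 1) : ∃ h, IsLiftOf π ℓ a h := by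
  obtain ⟨S, hS, hmap, -⟩ := AltTorus.exists_lift hπ (P := Subgroup.zpowers a)
    (fun x => ⟨1, by
      obtain ⟨_, m, rfl⟩ := x
      refine Subtype.ext ?_
      show (a ^ m) ^ (ℓ ^ 1) = 1
      rw [pow_one, ← zpow_natCast, ← zpow_mul, mul_comm, zpow_mul, zpow_natCast, ha, one_zpow]⟩)
  obtain ⟨s, hs, rfl⟩ := hmap ▸ Subgroup.mem_zpowers a
  obtain ⟨j, hj⟩ := hS ⟨s, hs⟩
  exact ⟨s, rfl, j, by simpa [Subtype.ext_iff] using hj⟩

theorem fixd_lift_unique (hσ : Triv π σ ℓ) {a : A} {h h' : H} (hh : IsLiftOf π ℓ a h)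
    (hh' : IsLiftOf π ℓ a h') : fixd (σ h) = fixd (σ h') := by
  obtain ⟨M, hM⟩ : ∃ M : Subgroup H, M = (Subgroup.zpowers a).comap π := ⟨_, rfl⟩
  have hp : ∀ x : H, (∃ j, x ^ (ℓ ^ j) = 1) → IsPGroup ℓ (Subgroup.zpowers x) := by
    rintro x ⟨j, hj⟩ ⟨_, m, rfl⟩
    refine ⟨j, Subtype.ext ?_⟩
    show (x ^ m) ^ (ℓ ^ j) = 1
    rw [← zpow_natCast, ← zpow_mul, mul_comm, zpow_mul, zpow_natCast, hj, one_zpow]
  have hmem : ∀ x, IsLiftOf π ℓ a x → x ∈ M := fun x hx => by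
    rw [hM, Subgroup.mem_comap, hx.1]; exact Subgroup.mem_zpowers a
  obtain ⟨S, hS⟩ := (((hp h hh.2).comap_of_injective M.subtype M.subtype_injective)).exists_le_sylow
  obtain ⟨S', hS'⟩ := (((hp h' hh'.2).comap_of_injective M.subtype M.subtype_injective)).exists_le_sylow
  obtain ⟨g, hg⟩ := MulAction.exists_smul_eq M S' S
  have h1 : (⟨h, hmem h hh⟩ : M) ∈ (S : Subgroup M) := hS (Subgroup.mem_zpowers h)
  have h2 : MulAut.conj g (⟨h', hmem h' hh'⟩ : M) ∈ (S : Subgroup M) := by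
    rw [← hg, Sylow.coe_subgroup_smul]
    exact Subgroup.smul_mem_pointwise_smul _ _ _ (hS' (Subgroup.mem_zpowers h'))
  have hSl : IsPGroup ℓ ((S : Subgroup M).map M.subtype) := S.2.map _
  have e := hσ.eq_of_mem hSl ⟨_, h1, rfl⟩ ⟨_, h2, rfl⟩ (by
    have hg' : π (g : H) ∈ Subgroup.zpowers a := Subgroup.mem_comap.1 ((SetLike.ext_iff.1 hM _).1 g.2)
    obtain ⟨m, hm⟩ := hg'
    have hm' : a ^ m = π (g : H) := hm
    rw [MulAut.conj_apply, Subgroup.coe_subtype, Subgroup.coe_mul, Subgroup.coe_mul, Subgroup.coe_inv, map_mul,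
      map_mul, map_inv, hh'.1, hh.1, ← hm']
    group)
  rw [show σ h = σ ((g : H) * h' * (g : H)⁻¹) from e, fixd_map_conj]

theorem dd_eq (hσ : Triv π σ ℓ) {a : A} {h : H} (hh : IsLiftOf π ℓ a h) : dd π σ ℓ a = fixd (σ h) :=
  fixd_lift_unique hσ (Classical.epsilon_spec (p := IsLiftOf π ℓ a) ⟨h, hh⟩) hh

theorem dd_conj (hπ : Function.Surjective π) (hσ : Triv π σ ℓ) {a : A} (ha : a ^ ℓ = 1) (b : A) :
    dd π σ ℓ (b * a * b⁻¹) = dd π σ ℓ a := by
  obtain ⟨h, hh⟩ := exists_liftOf hπ ha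
  obtain ⟨g, rfl⟩ := hπ b
  obtain ⟨hh1, j, hj⟩ := hh
  rw [dd_eq hσ ⟨hh1, j, hj⟩, dd_eq hσ (h := g * h * g⁻¹) ⟨by rw [map_mul, map_mul, map_inv, hh1], j,
    by rw [conj_pow, hj, mul_one, mul_inv_cancel]⟩, fixd_map_conj]

theorem dd_one (hσ : Triv π σ ℓ) : dd π σ ℓ (1 : A) = finrank k W := by
  rw [dd_eq hσ (h := (1 : H)) ⟨map_one π, 0, one_pow _⟩, map_one, fixd_one]

/-- Lifts of commuting elements of order `ℓ` inside one `ℓ`-group, with lifts of the normalising elements. -/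
def IsLifts {n : ℕ} (π : H →* A) (ℓ : ℕ) (t : Fin n → A) (s : Fin n → H) : Prop :=
  (∀ i, π (s i) = t i) ∧ ∃ S : Subgroup H, IsPGroup ℓ S ∧ (∀ i, s i ∈ S) ∧
    ∀ (l' : ℕ) [Fact l'.Prime] (a : A) (v : Fin n → Fin n → ℕ), a ^ l' = 1 →
      (∀ i, a⁻¹ * t i * a = (List.ofFn fun j => t j ^ v i j).prod) →
      ∃ y : H, IsLiftOf π l' a y ∧ y ∈ Subgroup.normalizer (S : Set H)

theorem exists_lifts {n : ℕ} (hπ : Function.Surjective π) (t : Fin n → A) (hpow : ∀ i, t i ^ ℓ = 1)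
    (hcomm : ∀ i j, t i * t j = t j * t i) : ∃ s : Fin n → H, IsLifts π ℓ t s := by
  classical
  obtain ⟨P, hP⟩ : ∃ P : Subgroup A, P = Subgroup.closure (Set.range t) := ⟨_, rfl⟩
  have hPc : ∀ x ∈ P, ∀ y ∈ P, x * y = y * x := by
    intro x hx y hy
    rw [hP] at hx hy
    have h1 : ∀ i, ∀ z ∈ Subgroup.closure (Set.range t), t i * z = z * t i := fun i z hz => by
      induction hz using Subgroup.closure_induction with
      | mem z hz => obtain ⟨j, rfl⟩ := hz; exact hcomm i j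
      | one => rw [mul_one, one_mul]
      | mul u v _ _ hu hv => rw [← mul_assoc, hu, mul_assoc, hv, mul_assoc]
      | inv u _ hu => exact (Commute.inv_right hu).eq
    induction hx using Subgroup.closure_induction with
    | mem z hz => obtain ⟨i, rfl⟩ := hz; exact h1 i y hy
    | one => rw [mul_one, one_mul]
    | mul u v _ _ hu hv => rw [mul_assoc, hv, ← mul_assoc, hu, mul_assoc]
    | inv u _ hu => exact (Commute.inv_left hu).eq
  have htP : ∀ i, t i ∈ P := fun i => hP ▸ Subgroup.subset_closure ⟨i, rfl⟩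
  have hPexp : ∀ x ∈ P, x ^ ℓ = 1 := by
    intro x hx
    have hx' := hx
    rw [hP] at hx'
    induction hx' using Subgroup.closure_induction with
    | mem z hz => obtain ⟨i, rfl⟩ := hz; exact hpow i
    | one => exact one_pow _
    | mul u v hu hv ihu ihv =>
      rw [(show Commute u v from hPc u (hP ▸ hu) v (hP ▸ hv)).mul_pow, ihu (hP ▸ hu), ihv (hP ▸ hv), mul_one]
    | inv u hu ihu => rw [inv_pow, ihu (hP ▸ hu), inv_one]
  obtain ⟨S, hS, hmap, hlift⟩ := AltTorus.exists_lift hπ (P := P)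
    (fun x => ⟨1, Subtype.ext (by rw [pow_one]; exact hPexp _ x.2)⟩)
  have hex : ∀ i, ∃ s ∈ S, π s = t i := fun i => by
    obtain ⟨s, hs, e⟩ := hmap.symm ▸ htP i
    exact ⟨s, hs, e⟩
  choose s hsS hs using hex
  refine ⟨s, hs, S, hS, hsS, fun l' _ a v ha hav => ?_⟩
  have ha0 : a ∈ Subgroup.normalizer (P : Set A) := by
    have hinv : a⁻¹ ∈ Subgroup.normalizer (P : Set A) := by
      haveI : Finite A := Finite.of_surjective π hπ
      refine Subgroup.mem_normalizer_fintype fun x hx => ?_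
      show a⁻¹ * x * a⁻¹⁻¹ ∈ P
      rw [inv_inv]
      rw [SetLike.mem_coe, hP] at hx
      induction hx using Subgroup.closure_induction with
      | mem z hz =>
        obtain ⟨i, rfl⟩ := hz
        rw [hav]
        refine Subgroup.list_prod_mem _ fun w hw => ?_
        obtain ⟨j, rfl⟩ := List.mem_ofFn.1 hw
        exact pow_mem (htP j) _
      | one => simp
      | mul u w _ _ hu hw =>
        have := mul_mem hu hw
        convert this using 1
        group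
      | inv u _ hu =>
        have := inv_mem hu
        convert this using 1
        group
    simpa using inv_mem hinv
  obtain ⟨y₀, hy₀, hy₀a⟩ := hlift a ha0
  obtain ⟨e, he⟩ : ∃ e, e = (orderOf y₀).factorization l' := ⟨_, rfl⟩
  have hl' : l'.Prime := Fact.out
  obtain ⟨m, hm⟩ : ∃ m, m = orderOf y₀ / l' ^ e := ⟨_, rfl⟩
  have hcop : Nat.Coprime m l' := by
    rw [Nat.coprime_comm, hl'.coprime_iff_not_dvd, hm, he]
    exact Nat.not_dvd_ordCompl hl' (orderOf_pos y₀).ne'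
  obtain ⟨c, hc⟩ := Nat.chineseRemainder hcop 0 1
  have hm0 : m ∣ c := Nat.modEq_zero_iff_dvd.1 hc.1
  refine ⟨y₀ ^ c, ⟨?_, e, ?_⟩, pow_mem hy₀ c⟩
  · rw [map_pow, hy₀a, pow_eq_pow_mod c ha, hc.2, ← pow_eq_pow_mod 1 ha, pow_one]
  · rw [← pow_mul, ← orderOf_dvd_iff_pow_eq_one]
    refine dvd_trans (dvd_of_eq ?_) (Nat.mul_dvd_mul_right hm0 _)
    rw [hm, Nat.div_mul_cancel (by rw [he]; exact Nat.ordProj_dvd _ _)]

variable {n : ℕ} {t : Fin n → A} {s : Fin n → H}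

omit [Finite H] [Fact ℓ.Prime] in
theorem prod_mem_facts {S : Subgroup H} (hsS : ∀ i, s i ∈ S) (hs : ∀ i, π (s i) = t i) (v : Fin n → ℕ) :
    (List.ofFn fun i => s i ^ v i).prod ∈ S ∧
      π (List.ofFn fun i => s i ^ v i).prod = (List.ofFn fun i => t i ^ v i).prod ∧
      σ (List.ofFn fun i => s i ^ v i).prod = (List.ofFn fun i => σ (s i) ^ v i).prod := by
  refine ⟨Subgroup.list_prod_mem _ fun x hx => ?_, ?_, ?_⟩
  · obtain ⟨i, rfl⟩ := List.mem_ofFn.1 hx
    exact pow_mem (hsS i) _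
  · rw [map_list_prod, List.map_ofFn]
    exact congrArg (fun f => (List.ofFn f).prod) (funext fun i => by simp [hs])
  · rw [map_list_prod, List.map_ofFn]
    exact congrArg (fun f => (List.ofFn f).prod) (funext fun i => by simp)

omit [Finite H] [Fact ℓ.Prime] in
theorem IsLifts.system (hs : IsLifts π ℓ t s) (hσ : Triv π σ ℓ) (hpow : ∀ i, t i ^ ℓ = 1)
    (hcomm : ∀ i j, t i * t j = t j * t i) {ζ : k} (hζ : IsPrimitiveRoot ζ ℓ) (hℓ : (ℓ : k) ≠ 0) :
    System (fun i => σ (s i)) ζ ℓ := by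
  obtain ⟨hs, S, hS, hsS, -⟩ := hs
  refine ⟨fun i => ?_, fun i j => ?_, hζ, hℓ⟩
  · rw [← map_pow, hσ.eq_of_mem hS (pow_mem (hsS i) ℓ) (one_mem S) (by rw [map_pow, hs, hpow, map_one]), map_one]
  · show σ (s i) * σ (s j) = σ (s j) * σ (s i)
    rw [← map_mul, ← map_mul]
    exact hσ.eq_of_mem hS (mul_mem (hsS i) (hsS j)) (mul_mem (hsS j) (hsS i))
      (by rw [map_mul, map_mul, hs, hs, hcomm])

theorem IsLifts.dd_prod (hs : IsLifts π ℓ t s) (hσ : Triv π σ ℓ) (v : Fin n → ℕ) :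
    dd π σ ℓ (List.ofFn fun i => t i ^ v i).prod = fixd (List.ofFn fun i => σ (s i) ^ v i).prod := by
  obtain ⟨hs, S, hS, hsS, -⟩ := hs
  obtain ⟨h1, h2, h3⟩ := prod_mem_facts (π := π) (σ := σ) hsS hs v
  obtain ⟨j, hj⟩ := hS ⟨_, h1⟩
  rw [dd_eq hσ ⟨h2, j, by simpa [Subtype.ext_iff] using hj⟩, h3]

omit [Finite H] [Fact ℓ.Prime] in
theorem IsLifts.norm (hs : IsLifts π ℓ t s) (hσ : Triv π σ ℓ) {l' : ℕ} [Fact l'.Prime] {a : A}
    (v : Fin n → Fin n → ℕ) (ha : a ^ l' = 1)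
    (hav : ∀ i, a⁻¹ * t i * a = (List.ofFn fun j => t j ^ v i j).prod) :
    ∃ y : H, IsLiftOf π l' a y ∧
      ∀ i, σ (s i) * σ y = σ y * (List.ofFn fun j => σ (s j) ^ v i j).prod := by
  obtain ⟨hs, S, hS, hsS, hn⟩ := hs
  obtain ⟨y, hy, hyn⟩ := hn l' a v ha hav
  refine ⟨y, hy, fun i => ?_⟩
  have hyS : y⁻¹ * s i * y ∈ S := by
    simpa using (Subgroup.mem_normalizer_iff.1 (inv_mem hyn) (s i)).1 (hsS i)
  obtain ⟨h1, h2, h3⟩ := prod_mem_facts (π := π) (σ := σ) hsS hs (v i)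
  have e1 := hσ.eq_of_mem hS hyS h1 (by rw [h2, map_mul, map_mul, map_inv, hs, hy.1, hav])
  rw [← h3, ← e1, ← map_mul, ← map_mul]
  group

section DoubleCover

open Equiv CfsgLib.Perm.AltBounded

/-- A double cover of the alternating group of degree twelve without complement. -/
structure DC {E : Type*} [Group E] (q : E →* alternatingGroup (Fin 12)) (c : E) : Prop where
  surj : Function.Surjective q
  ne : c ≠ 1
  sq : c * c = 1
  map : q c = 1
  central : ∀ x, c * x = x * c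
  ker : ∀ x, q x = 1 → x = 1 ∨ x = c
  full : ∀ M : Subgroup E, M.map q = ⊤ → c ∈ M

variable {E : Type*} [Group E] {q : E →* alternatingGroup (Fin 12)} {c : E}

/-- The double transposition of the first four points. -/
def r22 : alternatingGroup (Fin 12) :=
  ⟨swap 0 1 * swap 2 3, Equiv.Perm.mem_alternatingGroup.2 (by decide +kernel)⟩

theorem DC.lift_three (h : DC q c) {a : alternatingGroup (Fin 12)} (ha : a ^ 3 = 1) :
    ∃ x, q x = a ∧ x ^ 3 = 1 := by
  obtain ⟨x, hx⟩ := h.surj a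
  rcases h.ker (x ^ 3) (by rw [map_pow, hx, ha]) with e | e
  · exact ⟨x, hx, e⟩
  · refine ⟨x * c, by rw [map_mul, hx, h.map, mul_one], ?_⟩
    rw [(show Commute x c from (h.central x).symm).mul_pow, e, pow_three, h.sq, mul_one, h.sq]

theorem DC.sq_conj (h : DC q c) {x y : E} {g : alternatingGroup (Fin 12)} (hx : q x * q x = 1)
    (hy : q y = g * q x * g⁻¹) :
    y * y = x * x := by
  obtain ⟨g', rfl⟩ := h.surj g
  have e : q (g' * x * g'⁻¹) = q y := by rw [hy, map_mul, map_mul, map_inv]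
  have hsq : ∀ z, q z = q y → z * z = y * y := fun z hz => by
    rcases h.ker (y⁻¹ * z) (by rw [map_mul, map_inv, hz, inv_mul_cancel]) with e' | e'
    · rw [← inv_mul_eq_one.1 e']
    · rw [inv_mul_eq_iff_eq_mul] at e'
      rw [e', mul_assoc, ← mul_assoc c, h.central y, mul_assoc y c, h.sq, mul_one]
  rw [← hsq _ e]
  rcases h.ker (x * x) (by rw [map_mul]; exact hx) with e' | e'
  · calc g' * x * g'⁻¹ * (g' * x * g'⁻¹) = g' * (x * x) * g'⁻¹ := by group
      _ = x * x := by rw [e', mul_one, mul_inv_cancel]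
  · calc g' * x * g'⁻¹ * (g' * x * g'⁻¹) = g' * (x * x) * g'⁻¹ := by group
      _ = x * x := by rw [e', ← h.central, mul_inv_cancel_right]

end DoubleCover

end CfsgLib.Known.AltE6
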