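import Cfsg.Agent.Lib.Known.AltE6.Cover
import Cfsg.Agent.Lib.Known.AltE6.Elements

/-!
# The alternating group of degree twelve is no section of E6 in characteristic at least seven
-/

set_option autoImplicit false
set_option maxRecDepth 20000
set_option maxHeartbeats 1000000

namespace CfsgLib.Known.AltE6

open Module
open CfsgLib.Perm.AltSection (eig mem_eig wsp mem_wsp)

variable {k V H : Type*} [Field k] [AddCommGroup V] [Module k V] [Group H] [Finite H]
  {π : H →* alternatingGroup (Fin 12)} {σ : H →* End k V}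

/-- The representation on an invariant subspace. -/
def resRep (σ : H →* End k V) (U : Submodule k V) (hU : ∀ h, ∀ x ∈ U, σ h x ∈ U) : H →* End k U where
  toFun h := (σ h).restrict (hU h)
  map_one' := LinearMap.ext fun x => Subtype.ext (by simp)
  map_mul' a b := LinearMap.ext fun x => Subtype.ext (by simp)

omit [Finite H] in
theorem resRep_apply (U : Submodule k V) (hU : ∀ h, ∀ x ∈ U, σ h x ∈ U) (h : H) (x : U) :
    (resRep σ U hU h x : V) = σ h x := rfl

/-- Multiplicities on a subspace are smaller. -/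
theorem mult_res_le [FiniteDimensional k V] (U : Submodule k V) (hU : ∀ h, ∀ x ∈ U, σ h x ∈ U) {n l : ℕ}
    (s : Fin n → H) (ζ : k) (lam : Fin n → Fin l) :
    mult (fun i => resRep σ U hU (s i)) ζ lam ≤ mult (fun i => σ (s i)) ζ lam := by
  refine LinearMap.finrank_le_finrank_of_injective
    (f := LinearMap.codRestrict (wsp (fun i => σ (s i)) (wt ζ lam))
      (U.subtype.comp (wsp (fun i => resRep σ U hU (s i)) (wt ζ lam)).subtype) fun x => ?_) fun x y e => ?_
  · refine mem_wsp.2 fun i => ?_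
    have h1 := congrArg Subtype.val (mem_wsp.1 x.2 i)
    rw [resRep_apply] at h1
    exact h1
  · exact Subtype.ext (Subtype.ext (by have h' := congrArg Subtype.val e; exact h'))

/-- The dimensions of the fixed points by conjugacy. -/
theorem dd_class {ℓ : ℕ} [Fact ℓ.Prime] (hπ : Function.Surjective π) (hσ : Triv π σ ℓ)
    {r a : alternatingGroup (Fin 12)} (hr : r ^ ℓ = 1) (ha : a ^ ℓ = 1)
    (hs : (a : Equiv.Perm (Fin 12)).support.card = (r : Equiv.Perm (Fin 12)).support.card)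
    {c : Equiv.Perm (Fin 12)} (hc : Equiv.Perm.sign c = -1)
    (hcr : c * (r : Equiv.Perm (Fin 12)) = (r : Equiv.Perm (Fin 12)) * c) : dd π σ ℓ a = dd π σ ℓ r := by
  obtain ⟨g, rfl⟩ := exists_conj_alt hr ha hs hc hcr
  exact dd_conj hπ hσ hr g

theorem perp_iff {n l : ℕ} (lam v : Fin n → Fin l) :
    perp lam v = true ↔ l ∣ ∑ i, (lam i : ℕ) * (v i : ℕ) := by
  rw [perp, beq_iff_eq, Nat.dvd_iff_mod_eq_zero]

/-- The sums of multiplicities. -/
theorem mult_data [FiniteDimensional k V] {ℓ : ℕ} [Fact ℓ.Prime] {n : ℕ} {t : Fin n → alternatingGroup (Fin 12)}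
    {s : Fin n → H} (hs : IsLifts π ℓ t s) (hσ : Triv π σ ℓ) {ζ : k} (h : System (fun i => σ (s i)) ζ ℓ)
    (v : Fin n → Fin ℓ) :
    dd π σ ℓ (tprod t v) =
      ∑ lam ∈ Finset.univ.filter (fun lam => perp lam v = true), mult (fun i => σ (s i)) ζ lam := by
  rw [tprod, hs.dd_prod hσ (fun i => (v i : ℕ)), h.fixd_prod (fun i => (v i : ℕ))]
  exact Finset.sum_congr (Finset.filter_congr fun lam _ => (perp_iff lam v).symm) fun _ _ => rfl

theorem fin3_neg : ∀ x : Fin 3, ((-x : Fin 3) : ℕ) = ((x : ℕ) * 2) % 3 := by decide +kernel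

/-- An inverted group has symmetric multiplicities. -/
theorem mult_neg [FiniteDimensional k V] {n : ℕ} {s : Fin n → H} {ζ : k}
    (h : System (fun i => σ (s i)) ζ 3) {y : H}
    (hy : ∀ i, σ (s i) * σ y = σ y * (List.ofFn fun j => σ (s j) ^ (if i = j then 2 else 0)).prod)
    (lam : Fin n → Fin 3) : mult (fun i => σ (s i)) ζ (-lam) = mult (fun i => σ (s i)) ζ lam := by
  refine h.mult_perm (σ y) (fun x x' e => ?_) (Equiv.neg (Fin n → Fin 3)) (fun a x hx => ?_) lam
  · have := congrArg (σ y⁻¹) e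
    rwa [← End.mul_apply, ← End.mul_apply, ← map_mul, inv_mul_cancel, map_one] at this
  · refine map_wsp h.root.pow_eq_one _ (fun i j => if i = j then 2 else 0) hy a _ (fun i => ?_) hx
    simp only [Equiv.neg_apply, Pi.neg_apply, mul_ite, mul_zero, Finset.sum_ite_eq, Finset.mem_univ, if_true]
    exact fin3_neg (a i)

section Reps

/-- The representatives of pairs of opposite weights. -/
def reps9 : Finset (Fin 2 → Fin 3) := {![0, 0], ![1, 0], ![0, 1], ![1, 1], ![1, 2]}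

theorem reps9_cover : ∀ lam : Fin 2 → Fin 3, lam ∈ reps9 ∨ -lam ∈ reps9 := by decide +kernel

theorem reps9_sum (m : (Fin 2 → Fin 3) → ℕ) (hm : ∀ lam, m (-lam) = m lam) :
    2 * ∑ lam ∈ reps9, m lam = (∑ lam, m lam) + m 0 := by
  have h : (Finset.univ : Finset (Fin 2 → Fin 3)) =
      {![0, 0], ![1, 0], ![0, 1], ![1, 1], ![1, 2], -![1, 0], -![0, 1], -![1, 1], -![1, 2]} := by decide +kernel
  rw [h]
  have e : (![0, 0] : Fin 2 → Fin 3) = 0 := by decide +kernel
  simp only [reps9]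
  repeat rw [Finset.sum_insert (by decide +kernel)]
  simp only [Finset.sum_singleton, hm, e]
  ring

/-- The shift of the weights of three Klein four groups. -/
def shift6 : Equiv.Perm (Fin 6 → Fin 2) where
  toFun lam i := lam (i + 4)
  invFun lam i := lam (i + 2)
  left_inv lam := funext fun i => congrArg lam (by revert i; decide)
  right_inv lam := funext fun i => congrArg lam (by revert i; decide)

/-- The code of a weight. -/
def code6 (lam : Fin 6 → Fin 2) : ℕ := ∑ i, (lam i : ℕ) * 2 ^ (i : ℕ)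

/-- The representatives of the orbits. -/
def reps6 : Finset (Fin 6 → Fin 2) :=
  Finset.univ.filter fun lam => code6 lam ≤ code6 (shift6 lam) ∧ code6 lam ≤ code6 (shift6 (shift6 lam))

theorem reps6_cover : ∀ lam, lam ∈ reps6 ∨ shift6 lam ∈ reps6 ∨ shift6 (shift6 lam) ∈ reps6 := by decide +kernel

theorem shift6_three : ∀ lam, shift6 (shift6 (shift6 lam)) = lam := by decide +kernel

theorem reps6_sum : (∑ lam ∈ reps6, ([1, 2, 1, 0] : List ℕ).getD (cls2 lam) 0) ≤ 16 ∧
    (∑ lam ∈ reps6, ([2, 1, 1, 0] : List ℕ).getD (cls2 lam) 0) ≤ 14 := by decide +kernel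

/-- The shift of the weights of the group of order eight. -/
def shift8 : Equiv.Perm (Fin 3 → Fin 2) where
  toFun lam i := lam (i + 2)
  invFun lam i := lam (i + 1)
  left_inv lam := funext fun i => congrArg lam (by revert i; decide)
  right_inv lam := funext fun i => congrArg lam (by revert i; decide)

/-- The representatives of the orbits. -/
def reps8 : Finset (Fin 3 → Fin 2) := {![0, 0, 0], ![1, 0, 0], ![1, 1, 0], ![1, 1, 1]}

theorem reps8_cover : ∀ lam, lam ∈ reps8 ∨ shift8 lam ∈ reps8 ∨ shift8 (shift8 lam) ∈ reps8 := by decide +kernel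

theorem shift8_three : ∀ lam, shift8 (shift8 (shift8 lam)) = lam := by decide +kernel

theorem reps8_sum : (∑ lam ∈ reps8, if lam = 0 then (3 : ℕ) else 5) = 18 := by decide +kernel

theorem orbit_three {α : Type*} (p : Equiv.Perm α) (h3 : ∀ a, p (p (p a)) = a) (R : Finset α)
    (h : ∀ a, a ∈ R ∨ p a ∈ R ∨ p (p a) ∈ R) (a : α) : ∃ b ∈ R, ∃ j : ℕ, (p^[j]) b = a := by
  rcases h a with h | h | h
  · exact ⟨a, h, 0, rfl⟩
  · exact ⟨_, h, 2, by simp [h3]⟩
  · exact ⟨_, h, 1, by simp [h3]⟩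

end Reps

/-- Fixed points of a permuting element of order three. -/
theorem shift_bound [FiniteDimensional k V] {n : ℕ} {s : Fin n → H} {ζ : k}
    (h : System (fun i => σ (s i)) ζ 2) {y : H} (v : Fin n → Fin n)
    (hy : ∀ i, σ (s i) * σ y = σ y * (List.ofFn fun j => σ (s j) ^ (if j = v i then 1 else 0)).prod)
    (p : Equiv.Perm (Fin n → Fin 2)) (hp : ∀ lam i, p lam i = lam (v i)) (R : Finset (Fin n → Fin 2))
    (hR : ∀ lam, ∃ a ∈ R, ∃ j : ℕ, (p^[j]) a = lam) :
    fixd (σ y) ≤ ∑ lam ∈ R, mult (fun i => σ (s i)) ζ lam := by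
  refine h.fixd_le_sum (σ y) p (fun a x hx => ?_) R hR
  refine map_wsp h.root.pow_eq_one _ (fun i j => if j = v i then 1 else 0) hy a _ (fun i => ?_) hx
  simp only [mul_ite, mul_one, mul_zero, Finset.sum_ite_eq', Finset.mem_univ, if_true]
  rw [hp, Nat.mod_eq_of_lt (a (v i)).2]

theorem negOne_root (h2 : (2 : k) ≠ 0) : IsPrimitiveRoot (-1 : k) 2 := by
  refine IsPrimitiveRoot.mk_of_lt _ (by norm_num) (by ring) fun l hl hl2 => ?_
  obtain rfl : l = 1 := by omega
  rw [pow_one]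
  exact fun e => h2 (by linear_combination (-1 : k) * e)

variable {p : ℕ} {ρ : H →* End k V}

theorem Setup.finite_dim (hS : Setup π ρ p) : FiniteDimensional k V :=
  FiniteDimensional.of_finrank_pos (by rw [hS.dim]; norm_num)

theorem Setup.three_ne (hS : Setup π ρ p) : ((3 : ℕ) : k) ≠ 0 := by
  obtain ⟨ζ, hζ⟩ := hS.root
  exact (hζ.neZero' (n := 3)).out

theorem Setup.triv_three (hS : Setup π ρ p) : Triv π ρ 3 := fun x hx j hj => by
  rw [hS.kernel.1 x hx j hj, map_one]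

/-- The dimensions on elements of order three. -/
theorem Setup.dd_three (hS : Setup π ρ p) {a : alternatingGroup (Fin 12)} (ha : a ^ 3 = 1) (ha1 : a ≠ 1) :
    dd π ρ 3 a ∈ ([24, 28, 30, 36, 46] : List ℕ) := by
  haveI : Fact (Nat.Prime 3) := ⟨Nat.prime_three⟩
  obtain ⟨h, hh1, j, hj⟩ := exists_liftOf hS.cover.surj ha
  rw [dd_eq hS.triv_three ⟨hh1, j, hj⟩]
  refine hS.three h (hS.kernel.1 _ (MonoidHom.mem_ker.2 (by rw [map_pow, hh1, ha])) j ?_)
    (fun e => ha1 (by rw [← hh1, e, map_one]))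
  rw [← pow_mul, mul_comm, pow_mul, hj, one_pow]

/-- The weights of four three cycles, and the dimensions for regular elements of order three. -/
theorem Setup.e81 (hS : Setup π ρ p) : dd π ρ 3 (tprod t81 (rep4 3)) = 24 ∧
    ∃ s : Fin 4 → H, IsLifts π 3 t81 s ∧ ∀ ζ : k, IsPrimitiveRoot ζ 3 →
      ((∀ lam : Fin 4 → Fin 3, mult (fun i => ρ (s i)) ζ lam = ([6, 2, 1, 0, 2] : List ℕ).getD (cls lam) 0) ∨
        ∀ lam : Fin 4 → Fin 3, mult (fun i => ρ (s i)) ζ lam = ([6, 1, 2, 0, 1] : List ℕ).getD (cls lam) 0) := by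
  haveI : Fact (Nat.Prime 3) := ⟨Nat.prime_three⟩
  haveI : Fact (Nat.Prime 2) := ⟨Nat.prime_two⟩
  haveI := hS.finite_dim
  obtain ⟨f1, f2, f3, f4, f5⟩ := t81_facts
  obtain ⟨s, hs⟩ := exists_lifts hS.cover.surj t81 f1 f2
  have key : ∀ ζ : k, IsPrimitiveRoot ζ 3 → dd π ρ 3 (tprod t81 (rep4 3)) = 24 ∧
      ((∀ lam : Fin 4 → Fin 3, mult (fun i => ρ (s i)) ζ lam = ([6, 2, 1, 0, 2] : List ℕ).getD (cls lam) 0) ∨
        ∀ lam : Fin 4 → Fin 3, mult (fun i => ρ (s i)) ζ lam = ([6, 1, 2, 0, 1] : List ℕ).getD (cls lam) 0) := by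
    intro ζ hζ
    have hsys := hs.system hS.triv_three f1 f2 hζ hS.three_ne
    obtain ⟨y, -, hy⟩ := hs.norm hS.triv_three (fun i j => if i = j then 2 else 0) f3 f4
    refine e81_V (D := fun j => dd π ρ 3 (tprod t81 (rep4 j))) ?_ (hsys.sum_mult.trans hS.dim) (fun v _ => ?_)
      (mult_neg hsys hy) fun j h1 h2 => ?_
    · rw [f5, dd_one hS.triv_three, hS.dim]
    · obtain ⟨c1, c2, -⟩ := t81_class v
      obtain ⟨d1, d2, d3, -⟩ := t81_cent _ (cls_le4 v)
      rw [← mult_data hs hS.triv_three hsys v]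
      exact (dd_class hS.cover.surj hS.triv_three d3 c1 c2 d1 d2).symm
    · obtain ⟨-, -, d3, d4⟩ := t81_cent j h2
      exact hS.dd_three d3 (d4.resolve_left (by omega))
  obtain ⟨ζ, hζ⟩ := hS.root
  exact ⟨(key ζ hζ).1, s, hs, fun ζ hζ => (key ζ hζ).2⟩

/-- The inverted regular group of order nine. -/
theorem Setup.e9 (hS : Setup π ρ p) : ∃ s : Fin 2 → H, IsLifts π 3 t9 s ∧
    ∀ ζ : k, IsPrimitiveRoot ζ 3 → mult (fun i => ρ (s i)) ζ (0 : Fin 2 → Fin 3) = 6 := by
  haveI : Fact (Nat.Prime 3) := ⟨Nat.prime_three⟩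
  haveI := hS.finite_dim
  obtain ⟨f1, f2, -, -, -⟩ := t9_facts
  obtain ⟨s, hs⟩ := exists_lifts hS.cover.surj t9 f1 f2
  refine ⟨s, hs, fun ζ hζ => ?_⟩
  have hsys := hs.system hS.triv_three f1 f2 hζ hS.three_ne
  refine nine_V (hsys.sum_mult.trans hS.dim) fun v hv => ?_
  obtain ⟨c1, c2⟩ := t9_class v hv
  obtain ⟨d1, d2, d3, -⟩ := t81_cent 3 (by norm_num)
  rw [← mult_data hs hS.triv_three hsys v, dd_class hS.cover.surj hS.triv_three d3 c1 c2 d1 d2, hS.e81.1]

/-- The dimension for four transpositions is bounded on a subrepresentation. -/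
theorem inverted_bound [FiniteDimensional k V] (hπ : Function.Surjective π) (h3 : Triv π σ 3) (h2 : Triv π σ 2)
    {s : Fin 2 → H} (hs : IsLifts π 3 t9 s) {ζ : k} (hζ : IsPrimitiveRoot ζ 3) (hk : ((3 : ℕ) : k) ≠ 0)
    (h0 : mult (fun i => σ (s i)) ζ (0 : Fin 2 → Fin 3) ≤ 6) : 2 * dd π σ 2 r24 ≤ finrank k V + 6 := by
  haveI : Fact (Nat.Prime 3) := ⟨Nat.prime_three⟩
  haveI : Fact (Nat.Prime 2) := ⟨Nat.prime_two⟩
  obtain ⟨f1, f2, f3, f4, f5⟩ := t9_facts
  obtain ⟨e1, e2, e3⟩ := r24_facts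
  have hsys := hs.system h3 f1 f2 hζ hk
  obtain ⟨y, hy, hyc⟩ := hs.norm h3 (fun i j => if i = j then 2 else 0) f3 f4
  have hd : dd π σ 2 r24 = fixd (σ y) := by
    rw [← dd_class hπ h2 e1 f3 f5 e2 e3, dd_eq h2 hy]
  have hle := hsys.fixd_le_sum (σ y) (Equiv.neg (Fin 2 → Fin 3)) (fun a x hx => by
    refine map_wsp hsys.root.pow_eq_one _ (fun i j => if i = j then 2 else 0) hyc a _ (fun i => ?_) hx
    simp only [Equiv.neg_apply, Pi.neg_apply, mul_ite, mul_zero, Finset.sum_ite_eq, Finset.mem_univ, if_true]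
    exact fin3_neg (a i)) reps9 (fun a => by
    rcases reps9_cover a with h | h
    · exact ⟨a, h, 0, rfl⟩
    · exact ⟨_, h, 1, by simp⟩)
  have hsum := reps9_sum _ (mult_neg hsys hyc)
  rw [hsys.sum_mult] at hsum
  omega

/-- The first case: there is no central involution. -/
theorem Setup.false_of_odd (hS : Setup π ρ p)
    (h : ∀ x ∈ π.ker, ∀ j : ℕ, x ^ (2 ^ j) = 1 → x = 1) : False := by
  haveI : Fact (Nat.Prime 2) := ⟨Nat.prime_two⟩
  haveI := hS.finite_dim
  have h2 : Triv π ρ 2 := fun x hx j hj => by rw [h x hx j hj, map_one]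
  obtain ⟨f1, f2, -, -, -, f6, f7⟩ := t64_facts
  obtain ⟨s, hs⟩ := exists_lifts hS.cover.surj t64 f1 f2
  have hsys := hs.system h2 f1 f2 (negOne_root hS.two) (by exact_mod_cast hS.two)
  have h46 := klein_V (m := mult (fun i => ρ (s i)) (-1)) (D := fun j => dd π ρ 2 (tprod t64 (rep6 j)))
    (by rw [f6, dd_one h2, hS.dim]) (hsys.sum_mult.trans hS.dim) (fun v _ => by
      obtain ⟨c1, c2⟩ := t64_class v
      obtain ⟨d1, d2, d3, -⟩ := t64_cent _ (cls2_lt v)
      rw [← mult_data hs h2 hsys v]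
      exact (dd_class hS.cover.surj h2 d3 c1 c2 d1 d2).symm) (fun j h1 hj => by
      obtain ⟨-, -, d3, d4⟩ := t64_cent j hj
      obtain ⟨u, hu1, i, hi⟩ := exists_liftOf hS.cover.surj d3
      rw [dd_eq h2 ⟨hu1, i, hi⟩]
      refine hS.inv u ?_ fun e => d4.resolve_left (by omega) (by rw [← hu1, e, map_one])
      refine h _ (MonoidHom.mem_ker.2 (by rw [map_mul, hu1, ← pow_two, d3])) i ?_
      rw [← pow_two, ← pow_mul, mul_comm, pow_mul, hi, one_pow])
  simp only [f7] at h46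
  obtain ⟨s9, hs9, h0⟩ := hS.e9
  obtain ⟨ζ, hζ⟩ := hS.root
  have h1 := inverted_bound hS.cover.surj hS.triv_three h2 hs9 hζ hS.three_ne (h0 ζ hζ).le
  rw [h46, hS.dim] at h1
  omega

/-- The dimension of the sign spaces of two commuting involutions. -/
theorem pair_facts2 [FiniteDimensional k V] (h2 : (2 : k) ≠ 0) {y z w : H} (hy : y * y = 1) (hz : z * z = 1)
    (hzc : ∀ g : H, g * z = z * g) (hw : w * y * w⁻¹ = y * z) :
    ∃ a b c : ℕ, finrank k V = a + 2 * b + c ∧ fixd (σ z) = a + c ∧ fixd (σ y) = a + b ∧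
      ∀ hU : ∀ h, ∀ x ∈ eig (σ z) 1, σ h x ∈ eig (σ z) 1, fixd (resRep σ (eig (σ z) 1) hU y) = a := by
  obtain ⟨T, hT⟩ : ∃ T : Fin 2 → End k V, T = ![σ y, σ z] := ⟨_, rfl⟩
  have hyz : σ y * σ z = σ z * σ y := by rw [← map_mul, ← map_mul, hzc]
  have hsys : System T (-1 : k) 2 := by
    refine ⟨fun i => ?_, fun i j => ?_, negOne_root h2, by exact_mod_cast h2⟩
    · fin_cases i <;> simp [hT, pow_two, ← map_mul, hy, hz]
    · fin_cases i <;> fin_cases j <;> simp [hT, commute_iff_eq, hyz]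
  obtain ⟨m, hm⟩ : ∃ m : (Fin 2 → Fin 2) → ℕ, ∀ a, m a = mult T (-1 : k) a := ⟨_, fun _ => rfl⟩
  have huniv : (Finset.univ : Finset (Fin 2 → Fin 2)) = {![0, 0], ![1, 0], ![0, 1], ![1, 1]} := by decide +kernel
  have htot := hsys.sum_mult
  rw [huniv] at htot
  have hfz := hsys.fixd_prod ![0, 1]
  have hfy := hsys.fixd_prod ![1, 0]
  rw [show (Finset.univ.filter fun lam : Fin 2 → Fin 2 => 2 ∣ ∑ i, (lam i : ℕ) * (![0, 1] : Fin 2 → ℕ) i) =
    {![0, 0], ![1, 0]} by decide +kernel] at hfz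
  rw [show (Finset.univ.filter fun lam : Fin 2 → Fin 2 => 2 ∣ ∑ i, (lam i : ℕ) * (![1, 0] : Fin 2 → ℕ) i) =
    {![0, 0], ![0, 1]} by decide +kernel] at hfy
  rw [show (List.ofFn fun i => T i ^ (![0, 1] : Fin 2 → ℕ) i).prod = σ z by simp [hT, List.ofFn_succ]] at hfz
  rw [show (List.ofFn fun i => T i ^ (![1, 0] : Fin 2 → ℕ) i).prod = σ y by simp [hT, List.ofFn_succ]] at hfy
  repeat rw [Finset.sum_insert (by decide +kernel)] at htot
  repeat rw [Finset.sum_insert (by decide +kernel)] at hfz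
  repeat rw [Finset.sum_insert (by decide +kernel)] at hfy
  simp only [Finset.sum_singleton, ← hm] at htot hfz hfy
  have hsym : m ![1, 1] = m ![0, 1] := by
    obtain ⟨p, hp⟩ : ∃ p : Equiv.Perm (Fin 2 → Fin 2), ∀ a, p a = ![a 0 + a 1, a 1] :=
      ⟨Function.Involutive.toPerm (fun a => ![a 0 + a 1, a 1]) (fun a => by revert a; decide +kernel), fun _ => rfl⟩
    have hwy : σ y * σ w = σ w * (σ y * σ z) := by
      rw [← map_mul, ← map_mul, ← map_mul]
      congr 1
      have e := mul_inv_eq_iff_eq_mul.1 hw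
      calc y * w = y * z * w * z := by
            rw [mul_assoc y z w, ← hzc w, mul_assoc y (w * z) z, mul_assoc w z z, hz, mul_one]
        _ = w * y * z := by rw [e]
        _ = w * (y * z) := mul_assoc _ _ _
    have h := hsys.mult_perm (σ w) (fun x x' e => by
      have := congrArg (σ w⁻¹) e
      rwa [← End.mul_apply, ← End.mul_apply, ← map_mul, inv_mul_cancel, map_one] at this) p
      (fun a x hx => by
        refine map_wsp hsys.root.pow_eq_one _ ![![1, 1], ![0, 1]] (fun i => ?_) a _ (fun i => ?_) hx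
        · fin_cases i
          · simpa [hT, List.ofFn_succ] using hwy
          · simp [hT, List.ofFn_succ, ← map_mul, hzc]
        · rw [hp]; clear hx; revert i; revert a; decide +kernel) ![0, 1]
    rw [hp, show ![(![0, 1] : Fin 2 → Fin 2) 0 + (![0, 1] : Fin 2 → Fin 2) 1, (![0, 1] : Fin 2 → Fin 2) 1] =
      ![1, 1] by decide +kernel] at h
    rw [hm, hm]; exact h
  refine ⟨m ![0, 0], m ![0, 1], m ![1, 0], by omega, hfz, hfy, fun hU => ?_⟩
  rw [hm]
  have h0 : wt (-1 : k) (![0, 0] : Fin 2 → Fin 2) = fun _ => 1 := by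
    funext i; fin_cases i <;> simp [wt]
  refine le_antisymm ?_ ?_
  · refine LinearMap.finrank_le_finrank_of_injective
      (f := LinearMap.codRestrict (wsp T (wt (-1 : k) (![0, 0] : Fin 2 → Fin 2)))
        ((eig (σ z) 1).subtype.comp (eig (resRep σ (eig (σ z) 1) hU y) 1).subtype) fun x => ?_) fun x x' e => ?_
    · refine mem_wsp.2 fun i => ?_
      rw [h0]
      have h1 := congrArg Subtype.val (mem_eig.1 x.2)
      rw [resRep_apply] at h1
      have hx2 := mem_eig.1 x.1.2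
      fin_cases i
      · simpa [hT] using h1
      · simpa [hT] using hx2
    · exact Subtype.ext (Subtype.ext (by have h' := congrArg Subtype.val e; exact h'))
  · have hmem : ∀ x : ↥(wsp T (wt (-1 : k) (![0, 0] : Fin 2 → Fin 2))), σ y x = x ∧ (x : V) ∈ eig (σ z) 1 := by
      intro x
      have h1 := mem_wsp.1 x.2 0
      have h1' := mem_wsp.1 x.2 1
      rw [show wt (-1 : k) (![0, 0] : Fin 2 → Fin 2) 0 = 1 from congrFun h0 0] at h1
      rw [show wt (-1 : k) (![0, 0] : Fin 2 → Fin 2) 1 = 1 from congrFun h0 1] at h1'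
      refine ⟨by simpa [hT] using h1, mem_eig.2 ?_⟩
      simpa [hT] using h1'
    refine LinearMap.finrank_le_finrank_of_injective
      (f := LinearMap.codRestrict (eig (resRep σ (eig (σ z) 1) hU y) 1)
        (LinearMap.codRestrict (eig (σ z) 1) (wsp T (wt (-1 : k) (![0, 0] : Fin 2 → Fin 2))).subtype
          fun x => (hmem x).2) fun x => ?_) fun x x' e => ?_
    · refine mem_eig.2 (Subtype.ext ?_)
      rw [resRep_apply, one_smul]
      exact (hmem x).1
    · exact Subtype.ext (by have h' := congrArg Subtype.val (congrArg Subtype.val e); exact h')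

/-- The second case: a central involution. -/
theorem Setup.false_of_even (hS : Setup π ρ p) {z : H} (hz : z ∈ π.ker) (hz1 : z ≠ 1) (hz2 : z * z = 1)
    (hzc : z ∈ Subgroup.center H) (h : ∀ x ∈ π.ker, ∀ j : ℕ, x ^ (2 ^ j) = 1 → x = 1 ∨ x = z) {N : Subgroup H}
    [N.Normal] (hNK : N ≤ π.ker) (hzN : z ∉ N) (hKN : ∀ x ∈ π.ker, x ∈ N ∨ z⁻¹ * x ∈ N)
    (hN2 : ∀ x ∈ N, ∀ j : ℕ, x ^ (2 ^ j) = 1 → x = 1) : False := by
  haveI : Fact (Nat.Prime 3) := ⟨Nat.prime_three⟩
  haveI : Fact (Nat.Prime 2) := ⟨Nat.prime_two⟩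
  haveI := hS.finite_dim
  have hπ := hS.cover.surj
  have hcz : ∀ g : H, g * z = z * g := fun g => Subgroup.mem_center_iff.1 hzc g
  obtain ⟨y, w, hy, hy2, hy1, hw⟩ := exists_anticommute hπ hS.cover.min hz hz2 hzc h hNK hzN hKN hN2
  obtain ⟨a, b, c, e78, ez, ey, ea⟩ := pair_facts2 (σ := ρ) hS.two hy2 hz2 hcz hw
  have hU : ∀ g, ∀ x ∈ eig (ρ z) 1, ρ g x ∈ eig (ρ z) 1 := fun g x hx => by
    rw [mem_eig, one_smul] at hx ⊢
    rw [← End.mul_apply, ← map_mul, ← hcz, map_mul, End.mul_apply, hx]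
  have ha := ea hU
  obtain ⟨σ, hσ⟩ : ∃ σ, σ = resRep ρ (eig (ρ z) 1) hU := ⟨_, rfl⟩
  have hdim : finrank k (eig (ρ z) 1) = a + c := ez
  have h3 : Triv π σ 3 := fun x hx j hj => by rw [hS.kernel.1 x hx j hj, map_one]
  have h2 : Triv π σ 2 := fun x hx j hj => by
    rcases h x hx j hj with rfl | rfl
    · exact map_one σ
    · refine LinearMap.ext fun v => Subtype.ext ?_
      rw [hσ, resRep_apply, End.one_apply]
      simpa using mem_eig.1 v.2
  rw [← hσ, ← dd_eq h2 hy] at ha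
  obtain ⟨ζ, hζ⟩ := hS.root
  -- four transpositions
  have hn := hS.inv z hz2 hz1
  have hdy := hS.inv y hy2 hy1
  rw [ez] at hn
  rw [ey] at hdy
  rw [hS.dim] at e78
  have hb : 2 * a ≤ a + c + 6 := by
    obtain ⟨s9, hs9, h0⟩ := hS.e9
    have h1 := inverted_bound (σ := σ) hπ h3 h2 hs9 hζ hS.three_ne
      (by rw [hσ]; exact (mult_res_le _ hU s9 ζ 0).trans (h0 ζ hζ).le)
    rw [ha, hdim] at h1
    exact h1
  -- three Klein four groups
  obtain ⟨f1, f2, f3, f4, f5, f6, f7⟩ := t64_facts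
  obtain ⟨s, hs⟩ := exists_lifts hπ t64 f1 f2
  have hsys := hs.system h2 f1 f2 (negOne_root hS.two) (by exact_mod_cast hS.two)
  have hK := klein_U (W := a + c) (m := mult (fun i => σ (s i)) (-1)) (D := fun j => dd π σ 2 (tprod t64 (rep6 j)))
    (by rw [f6, dd_one h2, hdim]) (hsys.sum_mult.trans hdim) (fun v _ => by
      obtain ⟨c1, c2⟩ := t64_class v
      obtain ⟨d1, d2, d3, -⟩ := t64_cent _ (cls2_lt v)
      rw [← mult_data hs h2 hsys v]
      exact (dd_class hπ h2 d3 c1 c2 d1 d2).symm) (by simp only [f7, ha]; omega)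
  obtain ⟨g, hg, hgc⟩ := hs.norm h2 (fun i j => if j = i + 4 then 1 else 0) f3 f4
  obtain ⟨d41, d42, d43, -⟩ := t81_cent 4 (by norm_num)
  have hg4 : dd π σ 3 (tprod t81 (rep4 4)) = fixd (σ g) := by
    rw [← dd_class hπ h3 d43 f3 f5 d41 d42, dd_eq h3 hg]
  have hgle := shift_bound hsys (fun i => i + 4) hgc shift6 (fun _ _ => rfl) reps6
    (orbit_three shift6 shift6_three reps6 reps6_cover)
  -- four three cycles
  obtain ⟨-, s81, hs81, hM⟩ := hS.e81
  obtain ⟨g1, g2, g3, g4, g5⟩ := t81_facts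
  have hsys81 := hs81.system h3 g1 g2 hζ hS.three_ne
  obtain ⟨v, -, hv⟩ := hs81.norm h3 (fun i j => if i = j then 2 else 0) g3 g4
  have hE := e81_U (W := a + c) (m := mult (fun i => σ (s81 i)) ζ) (D := fun j => dd π σ 3 (tprod t81 (rep4 j)))
    (by rw [g5, dd_one h3, hdim]) (hsys81.sum_mult.trans hdim) (fun u _ => by
      obtain ⟨c1, c2, -⟩ := t81_class u
      obtain ⟨d1, d2, d3, -⟩ := t81_cent _ (cls_le4 u)
      rw [← mult_data hs81 h3 hsys81 u]
      exact (dd_class hπ h3 d3 c1 c2 d1 d2).symm) (mult_neg hsys81 hv) (by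
      rcases hM ζ hζ with h' | h'
      · exact Or.inl fun lam => by rw [← h' lam, hσ]; exact mult_res_le _ hU s81 ζ lam
      · exact Or.inr fun lam => by rw [← h' lam, hσ]; exact mult_res_le _ hU s81 ζ lam)
  rcases hn with hn | hn
  · have h16 := hgle.trans_eq (Finset.sum_congr rfl fun lam _ => hK.1 hn lam)
    have := hE.1 hn
    have := reps6_sum.1
    omega
  · have h14 := hgle.trans_eq (Finset.sum_congr rfl fun lam _ => hK.2 hn lam)
    rcases hE.2 hn with h' | h'
    · have := reps6_sum.2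
      omega
    obtain ⟨q1, q2, q3, q4, q5⟩ := t8_facts
    obtain ⟨s8, hs8⟩ := exists_lifts hπ t8 q1 q2
    have hsys8 := hs8.system h2 q1 q2 (negOne_root hS.two) (by exact_mod_cast hS.two)
    obtain ⟨r1, r2, r3⟩ := r24_facts
    have h8 := eight_U (m := mult (fun i => σ (s8 i)) (-1)) (hsys8.sum_mult.trans (hdim.trans hn)) fun u hu => by
      obtain ⟨c1, c2⟩ := t8_class u hu
      rw [← mult_data hs8 h2 hsys8 u, dd_class hπ h2 r1 c1 c2 r2 r3, ha]
      omega
    obtain ⟨x, hx, hxc⟩ := hs8.norm h2 (fun i j => if j = i + 2 then 1 else 0) q3 q4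
    obtain ⟨d21, d22, d23, -⟩ := t81_cent 2 (by norm_num)
    have hx2 : dd π σ 3 (tprod t81 (rep4 2)) = fixd (σ x) := by
      rw [← dd_class hπ h3 d23 q3 q5 d21 d22, dd_eq h3 hx]
    have hxle := (shift_bound hsys8 (fun i => i + 2) hxc shift8 (fun _ _ => rfl) reps8
      (orbit_three shift8 shift8_three reps8 reps8_cover)).trans_eq
      ((Finset.sum_congr rfl fun lam _ => h8 lam).trans reps8_sum)
    omega

open Cfsg.Lie (chevE6) in
/-- The alternating group of degree twelve is no section. -/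
theorem not_altSect_twelve {F : Type*} [Field F] [Fintype F] {p : ℕ} [Fact p.Prime] [CharP F p] (hp : 7 ≤ p) :
    ¬ AltTorus.AltSect ↥(chevE6.group F) 12 := by
  intro h
  obtain ⟨L, _, _, H, _, _, π, ρ, hS⟩ := exists_setup hp h
  rcases hS.kernel.2 with h | ⟨z, hz, hz1, hz2, hzc, h, N, hN, hNK, hzN, hKN, hN2⟩
  · exact hS.false_of_odd h
  · haveI := hN
    exact hS.false_of_even hz hz1 hz2 hzc h hNK hzN hKN hN2

end CfsgLib.Known.AltE6
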