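import Cfsg.Agent.Lib.Known.AltE6.Weights
import Cfsg.Agent.Lib.Known.CyclicTorus.Weyl
import Cfsg.Agent.Lib.Lie.Rel.Torus
import Cfsg.Agent.Lib.Lie.Rel.Coxeter

/-!
# Monomial elements on the Lie algebra and the dimensions of their fixed points
-/

set_option autoImplicit false

namespace CfsgLib.Known.AltE6

open Cfsg.Lie (ChevalleyDatum)
open CfsgLib.Lie.Chev
open CfsgLib.Known.CyclicTorus (cvec wMat wMat_mul wMat_one vecMul_wMat cvec_sroot)
open CfsgLib.Lie.Exchange (wprod)
open scoped Matrix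

section Monomial

variable {F : Type*} [Field F] {n : Type*} [Fintype n] [DecidableEq n]

/-- A monomial matrix. -/
def monP (σ : Equiv.Perm n) (a : n → Fˣ) : Matrix n n F := Matrix.of fun u s => if u = σ s then (a s : F) else 0

theorem monP_mulVec (σ : Equiv.Perm n) (a : n → Fˣ) (x : n → F) (s : n) :
    (monP σ a *ᵥ x) (σ s) = (a s : F) * x s := by
  simp [monP, Matrix.mulVec, dotProduct]

theorem monP_mul (σ τ : Equiv.Perm n) (a b : n → Fˣ) :
    monP σ a * monP τ b = monP (σ * τ) fun r => a (τ r) * b r := by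
  ext u s
  simp [monP, Matrix.mul_apply]
  exact ite_congr rfl (fun _ => rfl) (fun _ => rfl)

theorem monP_one : monP (1 : Equiv.Perm n) (fun _ => (1 : Fˣ)) = (1 : Matrix n n F) := by
  ext u s
  simp [monP, Matrix.one_apply]
  exact ite_congr rfl (fun _ => rfl) (fun _ => rfl)

theorem monP_apply_self (σ : Equiv.Perm n) (a : n → Fˣ) (s : n) : monP σ a (σ s) s = (a s : F) := by
  simp [monP]

theorem fixd_monP_one (a : n → Fˣ) (R0 : Finset n) (hR : ∀ r, r ∈ R0 ↔ a r = 1) :
    fixd (Matrix.toLin' (monP 1 a)) = R0.card := by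
  classical
  obtain ⟨e, he⟩ : ∃ e : ↥(CfsgLib.Perm.AltSection.eig (Matrix.toLin' (monP 1 a)) (1 : F)) ≃ₗ[F] (↥R0 → F),
      ∀ x r, e x r = (x : n → F) r := by
    refine ⟨LinearEquiv.ofBijective ((LinearMap.funLeft F F (fun r : ↥R0 => (r : n))).comp (Submodule.subtype _))
      ⟨?_, fun y => ?_⟩, fun _ _ => rfl⟩
    · rw [injective_iff_map_eq_zero]
      intro x hx
      refine Subtype.ext (funext fun r => ?_)
      by_cases hr : r ∈ R0
      · exact congrFun hx ⟨r, hr⟩
      · have h := congrFun (CfsgLib.Perm.AltSection.mem_eig.1 x.2) r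
        rw [Matrix.toLin'_apply, one_smul] at h
        have h2 := monP_mulVec (1 : Equiv.Perm n) a (x : n → F) r
        rw [Equiv.Perm.one_apply, h] at h2
        rcases mul_eq_zero.1 (show ((a r : F) - 1) * (x : n → F) r = 0 by rw [sub_mul, ← h2, one_mul, sub_self])
          with h3 | h3
        · exact absurd ((hR r).2 (Units.ext (sub_eq_zero.1 h3))) hr
        · exact h3
    · refine ⟨⟨fun r => if h : r ∈ R0 then y ⟨r, h⟩ else 0, CfsgLib.Perm.AltSection.mem_eig.2 ?_⟩, ?_⟩
      · rw [Matrix.toLin'_apply, one_smul]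
        funext r
        refine (monP_mulVec (1 : Equiv.Perm n) a _ r).trans ?_
        by_cases hr : r ∈ R0
        · rw [(hR r).1 hr, Units.val_one, one_mul]
        · rw [dif_neg hr, mul_zero]
      · funext r
        exact dif_pos r.2
  rw [fixd, e.finrank_eq, Module.finrank_pi, Fintype.card_coe]

theorem fixd_monP (σ : Equiv.Perm n) (a : n → Fˣ) (h3 : ∀ r, σ (σ (σ r)) = r)
    (ha : ∀ r, a (σ (σ r)) * a (σ r) * a r = 1) (R0 : Finset n)
    (hfix : ∀ r ∈ R0, σ r = r → a r = 1) (hfix' : ∀ r, σ r = r → a r = 1 → r ∈ R0)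
    (hrep : ∀ r ∈ R0, σ r ≠ r → σ r ∉ R0 ∧ σ (σ r) ∉ R0)
    (hcov : ∀ r, σ r ≠ r → r ∈ R0 ∨ σ r ∈ R0 ∨ σ (σ r) ∈ R0) :
    fixd (Matrix.toLin' (monP σ a)) = R0.card := by
  classical
  have hfe : ∀ x : n → F, x ∈ CfsgLib.Perm.AltSection.eig (Matrix.toLin' (monP σ a)) (1 : F) ↔
      ∀ r, x (σ r) = (a r : F) * x r := by
    intro x
    rw [CfsgLib.Perm.AltSection.mem_eig, Matrix.toLin'_apply, one_smul]
    refine ⟨fun h r => by rw [← monP_mulVec σ a x r, h], fun h => funext fun u => ?_⟩
    obtain ⟨r, rfl⟩ := σ.surjective u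
    rw [monP_mulVec, h]
  obtain ⟨e, he⟩ : ∃ e : ↥(CfsgLib.Perm.AltSection.eig (Matrix.toLin' (monP σ a)) (1 : F)) ≃ₗ[F] (↥R0 → F),
      ∀ x r, e x r = (x : n → F) r := by
    refine ⟨LinearEquiv.ofBijective ((LinearMap.funLeft F F (fun r : ↥R0 => (r : n))).comp (Submodule.subtype _))
      ⟨?_, fun y => ?_⟩, fun _ _ => rfl⟩
    · rw [injective_iff_map_eq_zero]
      intro x hx
      have hx0 : ∀ r ∈ R0, (x : n → F) r = 0 := fun r hr => congrFun hx ⟨r, hr⟩
      have hx1 := (hfe _).1 x.2
      refine Subtype.ext (funext fun r => ?_)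
      show (x : n → F) r = 0
      by_cases hr : σ r = r
      · by_cases h1 : a r = 1
        · exact hx0 r (hfix' r hr h1)
        · have h := hx1 r
          rw [hr] at h
          rcases mul_eq_zero.1 (show ((a r : F) - 1) * (x : n → F) r = 0 by rw [sub_mul, ← h, one_mul, sub_self])
            with h3 | h3
          · exact absurd (Units.ext (sub_eq_zero.1 h3)) h1
          · exact h3
      · rcases hcov r hr with h | h | h
        · exact hx0 r h
        · have h2 := hx0 _ h
          rw [hx1] at h2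
          exact (mul_eq_zero.1 h2).resolve_left (a r).ne_zero
        · have h2 := hx0 _ h
          rw [hx1, hx1] at h2
          exact ((mul_eq_zero.1 ((mul_eq_zero.1 h2).resolve_left (a (σ r)).ne_zero))).resolve_left (a r).ne_zero
    · obtain ⟨z, hz⟩ : ∃ z : n → F, ∀ r, z r = if h : r ∈ R0 then y ⟨r, h⟩ else 0 := ⟨_, fun _ => rfl⟩
      refine ⟨⟨fun r => if σ r = r then z r else
        z r + (a (σ (σ r)) : F) * z (σ (σ r)) + (a (σ (σ r)) : F) * (a (σ r) : F) * z (σ r), (hfe _).2 fun r => ?_⟩, ?_⟩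
      · by_cases hr : σ r = r
        · simp only [hr, if_true]
          by_cases hr0 : r ∈ R0
          · rw [hfix r hr0 hr, Units.val_one, one_mul]
          · rw [hz, dif_neg hr0, mul_zero]
        · rw [if_neg hr, if_neg (fun e => hr (σ.injective e)), h3]
          have e := congrArg (fun u : Fˣ => (u : F)) (ha r)
          simp only [Units.val_mul, Units.val_one] at e
          linear_combination (-z (σ r)) * e
      · funext r
        show (if σ (r : n) = r then z r else _) = y r
        rw [hz r, dif_pos r.2]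
        split
        · rfl
        · next hr => rw [hz, hz, dif_neg (hrep r r.2 hr).2, dif_neg (hrep r r.2 hr).1, mul_zero, mul_zero,
            add_zero, add_zero]
  rw [fixd, e.finrank_eq, Module.finrank_pi, Fintype.card_coe]

/-- A product of submodules as a product. -/
def prodSubEquiv {M N : Type*} [AddCommGroup M] [Module F M] [AddCommGroup N] [Module F N] (p : Submodule F M)
    (q : Submodule F N) : ↥(p.prod q) ≃ₗ[F] ↥p × ↥q where
  toFun x := (⟨x.1.1, x.2.1⟩, ⟨x.1.2, x.2.2⟩)
  invFun y := ⟨(y.1.1, y.2.1), y.1.2, y.2.2⟩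
  map_add' _ _ := rfl
  map_smul' _ _ := rfl

theorem fixd_fromBlocks {m : Type*} [Fintype m] [DecidableEq m] (A : Matrix m m F) (B : Matrix n n F) :
    fixd (Matrix.toLin' (Matrix.fromBlocks A 0 0 B)) = fixd (Matrix.toLin' A) + fixd (Matrix.toLin' B) := by
  obtain ⟨e, he⟩ : ∃ e : (m ⊕ n → F) ≃ₗ[F] (m → F) × (n → F), ∀ x, e x = (x ∘ Sum.inl, x ∘ Sum.inr) :=
    ⟨LinearEquiv.sumArrowLequivProdArrow m n F F, fun _ => rfl⟩
  have hmap : (CfsgLib.Perm.AltSection.eig (Matrix.toLin' (Matrix.fromBlocks A 0 0 B)) (1 : F)).map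
      (e : (m ⊕ n → F) →ₗ[F] (m → F) × (n → F)) =
      (CfsgLib.Perm.AltSection.eig (Matrix.toLin' A) (1 : F)).prod
        (CfsgLib.Perm.AltSection.eig (Matrix.toLin' B) (1 : F)) := by
    have key : ∀ x : m ⊕ n → F, x ∈ CfsgLib.Perm.AltSection.eig (Matrix.toLin' (Matrix.fromBlocks A 0 0 B)) (1 : F) ↔
        (A *ᵥ (x ∘ Sum.inl) = x ∘ Sum.inl ∧ B *ᵥ (x ∘ Sum.inr) = x ∘ Sum.inr) := by
      intro x
      rw [CfsgLib.Perm.AltSection.mem_eig, Matrix.toLin'_apply, one_smul, Matrix.fromBlocks_mulVec]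
      simp only [Matrix.zero_mulVec, add_zero, zero_add]
      refine ⟨fun h => ⟨funext fun i => congrFun h (Sum.inl i), funext fun i => congrFun h (Sum.inr i)⟩,
        fun h => funext fun i => ?_⟩
      cases i with
      | inl i => exact congrFun h.1 i
      | inr i => exact congrFun h.2 i
    ext p
    rw [Submodule.mem_map_equiv, key, Submodule.mem_prod, CfsgLib.Perm.AltSection.mem_eig,
      CfsgLib.Perm.AltSection.mem_eig, Matrix.toLin'_apply, Matrix.toLin'_apply, one_smul, one_smul]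
    have hp := e.apply_symm_apply p
    rw [he] at hp
    rw [show (e.symm p) ∘ Sum.inl = p.1 from congrArg Prod.fst hp,
      show (e.symm p) ∘ Sum.inr = p.2 from congrArg Prod.snd hp]
  rw [fixd, ← LinearEquiv.finrank_map_eq e, hmap,
    LinearEquiv.finrank_eq (prodSubEquiv _ _), Module.finrank_prod]
  rfl

/-- The fixed points of a matrix of order three, by the trace. -/
theorem fixd_cube {m : Type*} [Fintype m] [DecidableEq m] (B : Matrix m m F) (hB : B ^ 3 = 1)
    (h3 : (3 : F) ≠ 0) : (3 * fixd (Matrix.toLin' B) : F) = Fintype.card m + B.trace + (B ^ 2).trace := by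
  obtain ⟨P, hP⟩ : ∃ P : (m → F) →ₗ[F] (m → F), P = Matrix.toLin' ((3 : F)⁻¹ • (1 + B + B ^ 2)) := ⟨_, rfl⟩
  have hproj : LinearMap.IsProj (CfsgLib.Perm.AltSection.eig (Matrix.toLin' B) (1 : F)) P := by
    refine ⟨fun x => CfsgLib.Perm.AltSection.mem_eig.2 ?_, fun x hx => ?_⟩
    · rw [hP, one_smul, ← Module.End.mul_apply, Module.End.mul_eq_comp, ← Matrix.toLin'_mul, Matrix.mul_smul]
      congr 3
      rw [mul_add, mul_add, mul_one, ← sq, ← pow_succ', hB]
      abel
    · have hx' := CfsgLib.Perm.AltSection.mem_eig.1 hx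
      rw [Matrix.toLin'_apply, one_smul] at hx'
      rw [hP, Matrix.toLin'_apply, Matrix.smul_mulVec, Matrix.add_mulVec, Matrix.add_mulVec, sq,
        ← Matrix.mulVec_mulVec, hx', hx', Matrix.one_mulVec, ← two_smul F x, ← one_smul F ((2 : F) • x + x)]
      rw [one_smul, show (2 : F) • x + x = (3 : F) • x by rw [show (3 : F) = 2 + 1 by norm_num, add_smul, one_smul],
        smul_smul, inv_mul_cancel₀ h3, one_smul]
  have ht := hproj.trace
  rw [hP, Matrix.trace_toLin'_eq, Matrix.trace_smul, Matrix.trace_add, Matrix.trace_add, Matrix.trace_one] at ht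
  rw [fixd, ← ht, smul_eq_mul, ← mul_assoc, mul_inv_cancel₀ h3, one_mul]

end Monomial

section Chevalley

variable {D : ChevalleyDatum} {X : Aux} {F : Type*} [Field F]

/-- The value of a character on a root. -/
def chi (X : Aux) (u : Fin D.rank → Fˣ) (r : ℕ) : Fˣ := ∏ j : Fin D.rank, u j ^ X.coef j r

theorem chi_comp {G : Type*} [Group G] (R : Rel D X F G) {σ : Equiv.Perm (Fin D.nroots)} (hσ : R.IsLin σ)
    (u : Fin D.rank → Fˣ) (r : Fin D.nroots) :
    chi X u (σ r : ℕ) = chi X (fun i => chi X u (σ (R.sroot i) : ℕ)) (r : ℕ) := by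
  simp only [chi]
  rw [Finset.prod_congr rfl fun j _ => congrArg (u j ^ ·) (hσ r j)]
  simp only [zpow_finset_sum]
  rw [Finset.prod_comm]
  refine Finset.prod_congr rfl fun i _ => ?_
  rw [← Finset.prod_zpow]
  exact Finset.prod_congr rfl fun j _ => by rw [← zpow_mul, mul_comm]

theorem chi_mul (u v : Fin D.rank → Fˣ) (r : ℕ) : chi X (u * v) r = chi X u r * chi X v r := by
  simp [chi, mul_zpow, Finset.prod_mul_distrib]

/-- The block of a monomial element on the Cartan algebra. -/
def cartBlock {G : Type*} [Group G] (R : Rel D X F G) (σ : Equiv.Perm (Fin D.nroots)) :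
    Matrix (Fin D.rank) (Fin D.rank) F := ((wMat R σ).map (Int.cast : ℤ → F))ᵀ

/-- The matrix of a monomial element. -/
def monMatrix {G : Type*} [Group G] (R : Rel D X F G) (σ : Equiv.Perm (Fin D.nroots))
    (a : Fin D.nroots → Fˣ) : Matrix D.Idx D.Idx F :=
  Matrix.fromBlocks (cartBlock R σ) 0 0 (monP σ a)

theorem cartBlock_one {G : Type*} [Group G] (R : Rel D X F G) : cartBlock R 1 = 1 := by
  rw [cartBlock, wMat_one, Matrix.map_one _ Int.cast_zero Int.cast_one, Matrix.transpose_one]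

theorem cartBlock_mul {G : Type*} [Group G] (R : Rel D X F G) {σ τ : Equiv.Perm (Fin D.nroots)}
    (hσ : R.IsLin σ) : cartBlock R (σ * τ) = cartBlock R σ * cartBlock R τ := by
  rw [cartBlock, cartBlock, cartBlock, wMat_mul R hσ,
    show (Int.cast : ℤ → F) = ⇑(Int.castRingHom F) from rfl, Matrix.map_mul, Matrix.transpose_mul]

theorem monMatrix_mul {G : Type*} [Group G] (R : Rel D X F G) {σ τ : Equiv.Perm (Fin D.nroots)}
    (hσ : R.IsLin σ) (a b : Fin D.nroots → Fˣ) :
    monMatrix R σ a * monMatrix R τ b = monMatrix R (σ * τ) fun r => a (τ r) * b r := by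
  rw [monMatrix, monMatrix, monMatrix, Matrix.fromBlocks_multiply]
  simp [cartBlock_mul R hσ, monP_mul]

theorem monMatrix_inj {G : Type*} [Group G] (R : Rel D X F G) {σ τ : Equiv.Perm (Fin D.nroots)}
    {a b : Fin D.nroots → Fˣ} (h : monMatrix R σ a = monMatrix R τ b) : σ = τ ∧ a = b := by
  have hP := (Matrix.fromBlocks_inj.1 h).2.2.2
  have hk : ∀ s, σ s = τ s ∧ a s = b s := fun s => by
    have h1 := congrFun (congrFun hP (σ s)) s
    rw [monP_apply_self, monP, Matrix.of_apply] at h1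
    by_cases e : σ s = τ s
    · rw [if_pos e] at h1; exact ⟨e, Units.ext h1⟩
    · rw [if_neg e] at h1; exact absurd h1 (a s).ne_zero
  exact ⟨Equiv.ext fun s => (hk s).1, funext fun s => (hk s).2⟩

variable (C : Cert D X) (F)

include C in
theorem torus_monMatrix {h : ↥(D.group F)} (hh : h ∈ (chevRel C F).HS) :
    ∃ v : Fin D.rank → Fˣ, (chevRel C F).mat h = monMatrix (chevRel C F) 1 fun r => chi X v (r : ℕ) := by
  obtain ⟨c, hc⟩ := (chevRel C F).torusHom_surjective ⟨h, hh⟩
  refine ⟨fun k => ∏ i, c i ^ D.cartan i (D.simple k), ?_⟩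
  have e : (((chevRel C F).torusHom c : (chevRel C F).HS) : ↥(D.group F)) = h := congrArg Subtype.val hc
  rw [← e, torusHom_mat C F c, monMatrix, cartBlock_one]
  have ha : ∀ s : Fin D.nroots, chi (D := D) X (fun k => ∏ i, c i ^ D.cartan i (D.simple k)) (s : ℕ) =
      ∏ i : Fin D.rank, c i ^ D.cartan i s := by
    intro s
    simp only [chi, C.cartan_eq s.2 (Fin.is_lt _), Finset.sum_range, zpow_finset_sum, ← Finset.prod_zpow]
    rw [Finset.prod_comm]
    exact Finset.prod_congr rfl fun i _ => Finset.prod_congr rfl fun k _ => by rw [← zpow_mul, mul_comm]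
  have hP : monP (1 : Equiv.Perm (Fin D.nroots)) (fun r => chi (D := D) X (fun k => ∏ i, c i ^ D.cartan i (D.simple k)) (r : ℕ))
      = Matrix.diagonal fun s : Fin D.nroots => ((∏ i : Fin D.rank, c i ^ D.cartan i s : Fˣ) : F) := by
    ext u s
    rw [monP, Matrix.of_apply, Matrix.diagonal_apply, Equiv.Perm.one_apply]
    split
    · next e' => rw [← ha, e']
    · rfl
  rw [hP, ← Matrix.diagonal_one, Matrix.fromBlocks_diagonal]

include C in
theorem nS_monMatrix (hsym : ∀ i j : Fin D.rank, D.cartan i (D.simple j) = D.cartan j (D.simple i))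
    (i : Fin D.rank) : ∃ a : Fin D.nroots → Fˣ,
      (chevRel C F).mat ((chevRel C F).nS i : ↥(D.group F)) = monMatrix (chevRel C F) ((chevRel C F).wperm i) a ∧
        ∀ r, a r ^ 4 = 1 := by
  refine ⟨fun r => Units.mk0 (X.eta i r : F) (left_ne_zero_of_mul_eq_one (X.eta_sq_cast i r)), ?_, fun r => ?_⟩
  · show (chevRel C F).mat ((chevRel C F).ne (D.simple i) 1) = _
    rw [show (chevRel C F).mat ((chevRel C F).ne (D.simple i) 1) = D.nMat F (D.simple i) 1 from xG_neOf_val C F _ _,
      C.nMat_simple i.2]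
    ext a b
    cases a with
    | inl j' =>
      cases b with
      | inl j =>
        simp only [nOne, monMatrix, Matrix.of_apply, Matrix.fromBlocks_apply₁₁, cartBlock, Matrix.transpose_apply,
          Matrix.map_apply, wMat, cvec, (chevRel C F).wperm_apply]
        rw [show (((chevRel C F).sroot j : Fin D.nroots) : ℕ) = D.simple j from rfl,
          C.coef_w i.2 (C.simple_lt j.2) j'.2, C.coef_simple j.2 j'.2]
        by_cases h : (j' : ℕ) = i
        · rw [if_pos h, if_pos h, ← hsym j i]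
          by_cases hj : j' = j
          · subst hj; simp
          · rw [if_neg hj, if_neg (fun e => hj (Fin.ext e))]; simp
        · rw [if_neg h, if_neg h]
          by_cases hj : j' = j
          · subst hj; simp
          · rw [if_neg hj, if_neg (fun e => hj (Fin.ext e))]; simp
      | inr s => simp [nOne, monMatrix]
    | inr u =>
      cases b with
      | inl j => simp [nOne, monMatrix]
      | inr s =>
        simp only [nOne, monMatrix, Matrix.of_apply, Matrix.fromBlocks_apply₂₂, monP, Units.val_mk0]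
        have e : u = (chevRel C F).wperm i s ↔ u.1 = X.w i s := Fin.ext_iff
        simp only [e]
  · refine Units.ext ?_
    rw [Units.val_pow_eq_pow_val, Units.val_mk0, Units.val_one,
      show ((X.eta i r : ℤ) : F) ^ 4 = ((X.eta i r : F) * (X.eta i r : F)) * ((X.eta i r : F) * (X.eta i r : F)) by ring,
      X.eta_sq_cast, one_mul]

include C in
/-- Monomial elements act by monomial matrices, with multipliers which are characters up to signs. -/
theorem exists_monMatrix (hsym : ∀ i j : Fin D.rank, D.cartan i (D.simple j) = D.cartan j (D.simple i))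
    (n : (chevRel C F).NS) : ∃ (a : Fin D.nroots → Fˣ) (u : Fin D.rank → Fˣ),
      (chevRel C F).mat (n : ↥(D.group F)) = monMatrix (chevRel C F) ((chevRel C F).nsPerm n) a ∧
        ∀ r : Fin D.nroots, a r ^ 4 = chi X u (r : ℕ) := by
  suffices h : ∀ (l : List (Fin D.rank)) (t : ↥(D.group F)), t ∈ (chevRel C F).HS → ∀ m : (chevRel C F).NS,
      (m : ↥(D.group F)) = t * ((l.map (chevRel C F).nS).prod : (chevRel C F).NS) → ∃ (a : Fin D.nroots → Fˣ) (u : Fin D.rank → Fˣ),
        (chevRel C F).mat (m : ↥(D.group F)) = monMatrix (chevRel C F) ((chevRel C F).nsPerm m) a ∧ ∀ r : Fin D.nroots, a r ^ 4 = chi X u (r : ℕ) by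
    obtain ⟨l, hl⟩ := (chevRel C F).exists_word n
    refine h l ((n : ↥(D.group F)) * ((((l.map (chevRel C F).nS).prod)⁻¹ : (chevRel C F).NS) : ↥(D.group F))) ?_ n
      (by rw [mul_assoc, ← Subgroup.coe_mul, inv_mul_cancel, OneMemClass.coe_one, mul_one])
    rw [← Subgroup.coe_mul]
    refine (chevRel C F).qmk_eq_one.1 ?_
    rw [map_mul, map_inv, hl, map_list_prod, List.map_map]
    exact mul_inv_cancel _
  intro l t ht
  obtain ⟨v, hv⟩ := torus_monMatrix F C ht
  have key : ∃ (a : Fin D.nroots → Fˣ) (u : Fin D.rank → Fˣ),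
      (chevRel C F).mat ((l.map (chevRel C F).nS).prod : (chevRel C F).NS) =
        monMatrix (chevRel C F) ((chevRel C F).nsPerm (l.map (chevRel C F).nS).prod) a ∧
        ∀ r : Fin D.nroots, a r ^ 4 = chi X u (r : ℕ) := by
    induction l with
    | nil =>
      refine ⟨fun _ => 1, 1, ?_, fun r => by simp [chi]⟩
      rw [List.map_nil, List.prod_nil, OneMemClass.coe_one, (chevRel C F).mat_one, map_one, monMatrix,
        cartBlock_one, monP_one, Matrix.fromBlocks_one]
    | cons k l ih =>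
      obtain ⟨a, u, ha, hu⟩ := ih
      obtain ⟨b, hb, hb4⟩ := nS_monMatrix F C hsym k
      refine ⟨fun r => b ((chevRel C F).nsPerm (l.map (chevRel C F).nS).prod r) * a r, u, ?_, fun r => ?_⟩
      · rw [List.map_cons, List.prod_cons, Subgroup.coe_mul, (chevRel C F).mat_mul, ha, hb,
          monMatrix_mul _ ((chevRel C F).isLin_wperm k), map_mul, (chevRel C F).nsPerm_nS]
      · rw [mul_pow, hb4, one_mul, hu]
  obtain ⟨a, u, ha, hu⟩ := key
  intro m hm
  have hperm : (chevRel C F).nsPerm m = (chevRel C F).nsPerm (l.map (chevRel C F).nS).prod := by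
    have e : m = ⟨t, (chevRel C F).HS_le_NS ht⟩ * (l.map (chevRel C F).nS).prod := Subtype.ext hm
    rw [e, map_mul, (chevRel C F).nsPerm_of_mem_HS ⟨t, (chevRel C F).HS_le_NS ht⟩ ht, one_mul]
  obtain ⟨σ, hσ⟩ : ∃ σ, σ = (chevRel C F).nsPerm (l.map (chevRel C F).nS).prod := ⟨_, rfl⟩
  rw [← hσ] at ha hperm
  refine ⟨fun r => chi X v (σ r : ℕ) * a r, (fun i => chi X (v ^ 4) (σ ((chevRel C F).sroot i) : ℕ)) * u, ?_,
    fun r => ?_⟩
  · rw [hperm, hm, (chevRel C F).mat_mul, hv, ha, monMatrix_mul _ (chevRel C F).isLin_one, one_mul]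
  · rw [mul_pow, hu, chi_mul, ← chi_comp _ (hσ ▸ (chevRel C F).isLin_nsPerm _)]
    congr 1
    simp only [chi, ← Finset.prod_pow, Pi.pow_apply]
    exact Finset.prod_congr rfl fun j _ => by rw [← zpow_natCast, ← zpow_mul, ← zpow_natCast, ← zpow_mul, mul_comm]

end Chevalley

end CfsgLib.Known.AltE6
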