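import Cfsg.Agent.Lib.Known.AltE6.W

/-!
# A Sylow subgroup for the prime two of the Weyl group of type E6
-/

set_option autoImplicit false
set_option maxRecDepth 20000

namespace CfsgLib.Known.AltE6

open Cfsg.Lie (chevE6)
open CfsgLib.Lie.Chev

/-- The words. -/
def w2Words : List (List ℕ) := [
  [], [0], [3, 4, 1, 3], [2, 3, 0, 2, 1, 3, 0, 2], [3, 4, 1, 3, 0], [2, 3, 0, 2, 1, 3, 0, 2, 0],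
  [3, 2, 1, 3, 4, 0, 2, 3], [2, 3, 0, 2, 1, 3, 0, 2, 1], [3, 4, 2, 3, 0, 2, 1, 3],
  [3, 2, 1, 3, 4, 0, 2, 3, 0], [2, 3, 0, 2, 1, 3, 0, 2, 1, 0], [3, 4, 2, 3, 0, 2, 1, 3, 0],
  [3, 0, 2, 1, 3, 4, 0, 2, 3], [2, 3, 4, 0, 2, 3, 0, 2], [3, 4, 2, 3, 0, 2, 1, 3, 1], [1],
  [3, 2, 1, 3, 4, 3, 2, 1, 3, 2], [3, 0, 2, 1, 3, 4, 0, 2, 3, 0], [2, 3, 4, 0, 2, 3, 0, 2, 0],
  [3, 4, 2, 3, 0, 2, 1, 3, 1, 0], [1, 0], [3, 2, 1, 3, 4, 3, 2, 1, 3, 2, 0],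
  [0, 2, 3, 4, 0, 2, 3, 0, 2], [1, 3, 4, 1, 3], [2, 3, 4, 1, 3, 2],
  [3, 2, 1, 3, 4, 3, 2, 1, 3, 2, 1], [3, 4, 1, 3, 1], [3, 0, 2, 1, 3, 4, 3, 2, 1, 3, 2],
  [0, 2, 3, 4, 0, 2, 3, 0, 2, 0], [1, 3, 4, 1, 3, 0], [2, 3, 4, 1, 3, 2, 0],
  [3, 2, 1, 3, 4, 3, 2, 1, 3, 2, 1, 0], [3, 4, 1, 3, 1, 0], [3, 0, 2, 1, 3, 4, 3, 2, 1, 3, 2, 0],
  [2, 1, 3, 4, 1, 3, 2], [4], [0, 2, 3, 4, 1, 3, 2], [3, 0, 2, 1, 3, 4, 3, 2, 1, 3, 2, 1],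
  [2, 3, 4, 1, 3, 2, 1], [3, 2, 1, 3, 4, 0, 2, 3, 1], [1, 3, 4, 2, 3, 0, 2, 1, 3],
  [2, 1, 3, 4, 1, 3, 2, 0], [4, 0], [0, 2, 3, 4, 1, 3, 2, 0],
  [3, 0, 2, 1, 3, 4, 3, 2, 1, 3, 2, 1, 0], [2, 3, 4, 1, 3, 2, 1, 0], [3, 2, 1, 3, 4, 0, 2, 3, 1, 0],
  [1, 3, 4, 2, 3, 0, 2, 1, 3, 0], [0, 2, 1, 3, 4, 1, 3, 2], [4, 3, 2, 1, 3, 4, 3, 2, 1, 3, 2],
  [2, 3, 0, 2, 1, 3, 4, 0, 2], [2, 1, 3, 4, 0, 2, 3, 0, 2], [0, 2, 3, 4, 1, 3, 2, 1],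
  [1, 3, 4, 2, 3, 0, 2, 1, 3, 1], [2, 3, 4, 0, 2, 3, 0, 2, 1], [3, 0, 2, 1, 3, 4, 0, 2, 3, 1],
  [4, 2, 3, 0, 2, 1, 3, 0, 2], [0, 2, 1, 3, 4, 1, 3, 2, 0], [4, 3, 2, 1, 3, 4, 3, 2, 1, 3, 2, 0],
  [2, 3, 0, 2, 1, 3, 4, 0, 2, 0], [2, 1, 3, 4, 0, 2, 3, 0, 2, 0], [0, 2, 3, 4, 1, 3, 2, 1, 0],
  [1, 3, 4, 2, 3, 0, 2, 1, 3, 1, 0], [2, 3, 4, 0, 2, 3, 0, 2, 1, 0],
  [3, 0, 2, 1, 3, 4, 0, 2, 3, 1, 0], [4, 2, 3, 0, 2, 1, 3, 0, 2, 0],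
  [4, 3, 0, 2, 1, 3, 4, 3, 2, 1, 3, 2], [0, 2, 1, 3, 4, 0, 2, 3, 0, 2], [3, 4, 2, 3, 0, 2, 1, 3, 4],
  [2, 3, 0, 2, 1, 3, 4, 0, 2, 1], [4, 3, 2, 1, 3, 4, 0, 2, 3], [2, 1, 3, 4, 0, 2, 3, 0, 2, 1],
  [4, 2, 3, 0, 2, 1, 3, 0, 2, 1], [0, 2, 3, 4, 0, 2, 3, 0, 2, 1], [1, 3, 4, 1, 3, 1],
  [2, 3, 0, 2, 1, 3, 4, 3, 2, 1, 3, 0, 2], [4, 3, 0, 2, 1, 3, 4, 3, 2, 1, 3, 2, 0],
  [0, 2, 1, 3, 4, 0, 2, 3, 0, 2, 0], [3, 4, 2, 3, 0, 2, 1, 3, 4, 0],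
  [2, 3, 0, 2, 1, 3, 4, 0, 2, 1, 0], [4, 3, 2, 1, 3, 4, 0, 2, 3, 0],
  [2, 1, 3, 4, 0, 2, 3, 0, 2, 1, 0], [4, 2, 3, 0, 2, 1, 3, 0, 2, 1, 0],
  [0, 2, 3, 4, 0, 2, 3, 0, 2, 1, 0], [1, 3, 4, 1, 3, 1, 0],
  [2, 3, 0, 2, 1, 3, 4, 3, 2, 1, 3, 0, 2, 0], [1, 3, 4, 2, 3, 0, 2, 1, 3, 4],
  [4, 3, 0, 2, 1, 3, 4, 0, 2, 3], [3, 4, 2, 3, 0, 2, 1, 3, 4, 1], [4, 1],
  [3, 4, 2, 3, 0, 2, 1, 3, 4, 2, 3, 0, 2, 1, 3, 0, 2], [0, 2, 1, 3, 4, 0, 2, 3, 0, 2, 1],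
  [4, 3, 2, 1, 3, 4, 0, 2, 3, 1], [2, 3, 0, 2, 1, 3, 4, 3, 2, 1, 3, 0, 2, 1],
  [2, 1, 3, 4, 1, 3, 2, 1], [1, 3, 4, 2, 3, 0, 2, 1, 3, 4, 0], [4, 3, 0, 2, 1, 3, 4, 0, 2, 3, 0],
  [3, 4, 2, 3, 0, 2, 1, 3, 4, 1, 0], [4, 1, 0],
  [3, 4, 2, 3, 0, 2, 1, 3, 4, 2, 3, 0, 2, 1, 3, 0, 2, 0], [0, 2, 1, 3, 4, 0, 2, 3, 0, 2, 1, 0],
  [4, 3, 2, 1, 3, 4, 0, 2, 3, 1, 0], [2, 3, 0, 2, 1, 3, 4, 3, 2, 1, 3, 0, 2, 1, 0],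
  [2, 1, 3, 4, 1, 3, 2, 1, 0], [1, 3, 4, 2, 3, 0, 2, 1, 3, 4, 1], [4, 2, 3, 0, 2, 1, 3, 4, 0, 2],
  [1, 3, 4, 2, 3, 0, 2, 1, 3, 4, 2, 3, 0, 2, 1, 3, 0, 2], [4, 3, 2, 1, 3, 4, 3, 2, 1, 3, 2, 1],
  [4, 3, 0, 2, 1, 3, 4, 0, 2, 3, 1], [0, 2, 1, 3, 4, 1, 3, 2, 1],
  [3, 4, 2, 3, 0, 2, 1, 3, 4, 2, 3, 0, 2, 1, 3, 0, 2, 1], [1, 3, 4, 2, 3, 0, 2, 1, 3, 4, 1, 0],
  [4, 2, 3, 0, 2, 1, 3, 4, 0, 2, 0], [1, 3, 4, 2, 3, 0, 2, 1, 3, 4, 2, 3, 0, 2, 1, 3, 0, 2, 0],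
  [4, 3, 2, 1, 3, 4, 3, 2, 1, 3, 2, 1, 0], [4, 3, 0, 2, 1, 3, 4, 0, 2, 3, 1, 0],
  [0, 2, 1, 3, 4, 1, 3, 2, 1, 0], [3, 4, 2, 3, 0, 2, 1, 3, 4, 2, 3, 0, 2, 1, 3, 0, 2, 1, 0],
  [4, 2, 3, 0, 2, 1, 3, 4, 0, 2, 1], [4, 3, 0, 2, 1, 3, 4, 3, 2, 1, 3, 2, 1],
  [4, 2, 3, 0, 2, 1, 3, 4, 3, 2, 1, 3, 0, 2],
  [1, 3, 4, 2, 3, 0, 2, 1, 3, 4, 2, 3, 0, 2, 1, 3, 0, 2, 1], [4, 2, 3, 0, 2, 1, 3, 4, 0, 2, 1, 0],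
  [4, 3, 0, 2, 1, 3, 4, 3, 2, 1, 3, 2, 1, 0], [4, 2, 3, 0, 2, 1, 3, 4, 3, 2, 1, 3, 0, 2, 0],
  [1, 3, 4, 2, 3, 0, 2, 1, 3, 4, 2, 3, 0, 2, 1, 3, 0, 2, 1, 0],
  [4, 2, 3, 0, 2, 1, 3, 4, 3, 2, 1, 3, 0, 2, 1], [4, 2, 3, 0, 2, 1, 3, 4, 3, 2, 1, 3, 0, 2, 1, 0]]

/-- The generators. -/
def w2Gens : List (List ℕ) := [
  [0], [3, 4, 1, 3], [2, 3, 0, 2, 1, 3, 0, 2]]

/-- The left multiplications. -/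
def w2Next : List (List ℕ) := [
  [1, 2, 3], [0, 4, 5], [4, 0, 6], [7, 8, 0], [2, 1, 9], [10, 11, 1], [12, 13, 2], [3, 14, 15],
  [14, 3, 16], [17, 18, 4], [5, 19, 20], [19, 5, 21], [6, 22, 23], [22, 6, 24], [8, 7, 25],
  [20, 26, 7], [27, 24, 8], [9, 28, 29], [28, 9, 30], [11, 10, 31], [15, 32, 10], [33, 30, 11],
  [13, 12, 34], [29, 35, 12], [36, 16, 13], [37, 38, 14], [32, 15, 39], [16, 36, 40], [18, 17, 41],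
  [23, 42, 17], [43, 21, 18], [44, 45, 19], [26, 20, 46], [21, 43, 47], [48, 49, 22], [42, 23, 50],
  [24, 27, 51], [25, 52, 53], [52, 25, 54], [55, 54, 26], [53, 56, 27], [57, 58, 28], [35, 29, 59],
  [30, 33, 60], [31, 61, 62], [61, 31, 63], [64, 63, 32], [62, 65, 33], [34, 66, 67], [66, 34, 68],
  [69, 68, 35], [67, 70, 36], [38, 37, 71], [40, 72, 37], [73, 39, 38], [39, 73, 74], [72, 40, 75],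
  [41, 76, 77], [76, 41, 78], [79, 78, 42], [77, 80, 43], [45, 44, 81], [47, 82, 44], [83, 46, 45],
  [46, 83, 84], [82, 47, 85], [49, 48, 86], [51, 87, 48], [88, 50, 49], [50, 88, 89], [87, 51, 90],
  [91, 92, 52], [56, 53, 93], [54, 55, 94], [84, 89, 55], [85, 90, 56], [58, 57, 95], [60, 96, 57],
  [97, 59, 58], [59, 97, 98], [96, 60, 99], [100, 101, 61], [65, 62, 102], [63, 64, 103],
  [74, 98, 64], [75, 99, 65], [104, 105, 66], [70, 67, 106], [68, 69, 107], [98, 74, 69],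
  [99, 75, 70], [71, 108, 109], [108, 71, 110], [102, 110, 72], [109, 107, 73], [111, 112, 76],
  [80, 77, 113], [78, 79, 114], [89, 84, 79], [90, 85, 80], [81, 115, 116], [115, 81, 117],
  [93, 117, 82], [116, 114, 83], [86, 118, 119], [118, 86, 120], [113, 120, 87], [119, 94, 88],
  [92, 91, 121], [94, 119, 91], [117, 93, 92], [95, 122, 123], [122, 95, 124], [106, 124, 96],
  [123, 103, 97], [101, 100, 125], [103, 123, 100], [110, 102, 101], [105, 104, 126],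
  [107, 109, 104], [124, 106, 105], [125, 126, 108], [112, 111, 127], [114, 116, 111],
  [120, 113, 112], [121, 127, 115], [127, 121, 118], [126, 125, 122]]

/-- The spanning tree. -/
def w2Par : List (ℕ × ℕ) := [
  (0, 0), (0, 0), (0, 1), (0, 2), (1, 1), (1, 2), (2, 2), (3, 0), (3, 1), (4, 2), (5, 0), (5, 1),
  (6, 0), (6, 1), (7, 1), (7, 2), (8, 2), (9, 0), (9, 1), (10, 1), (10, 2), (11, 2), (12, 1),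
  (12, 2), (13, 2), (14, 2), (15, 1), (16, 0), (17, 1), (17, 2), (18, 2), (19, 2), (20, 1), (21, 0),
  (22, 2), (23, 1), (24, 0), (25, 0), (25, 1), (26, 2), (27, 2), (28, 2), (29, 1), (30, 0), (31, 0),
  (31, 1), (32, 2), (33, 2), (34, 0), (34, 1), (35, 2), (36, 2), (37, 1), (37, 2), (38, 2), (39, 0),
  (40, 1), (41, 0), (41, 1), (42, 2), (43, 2), (44, 1), (44, 2), (45, 2), (46, 0), (47, 1), (48, 1),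
  (48, 2), (49, 2), (50, 0), (51, 1), (52, 2), (53, 1), (54, 0), (55, 2), (56, 2), (57, 1), (57, 2),
  (58, 2), (59, 0), (60, 1), (61, 2), (62, 1), (63, 0), (64, 2), (65, 2), (66, 2), (67, 1), (68, 0),
  (69, 2), (70, 2), (71, 0), (71, 1), (72, 2), (73, 2), (76, 2), (77, 1), (78, 0), (79, 2), (80, 2),
  (81, 0), (81, 1), (82, 2), (83, 2), (86, 0), (86, 1), (87, 2), (88, 2), (91, 1), (91, 2), (92, 2),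
  (95, 0), (95, 1), (96, 2), (97, 2), (100, 1), (100, 2), (101, 2), (104, 1), (104, 2), (105, 2),
  (108, 2), (111, 1), (111, 2), (112, 2), (115, 2), (118, 2), (122, 2)]

/-- The table. -/
def twoT : Table chevE6 auxE6 128 3 where
  wd i := w2Words.getD i []
  gn j := w2Gens.getD j []
  nx i j := ⟨(w2Next.getD i []).getD j 0 % 128, Nat.mod_lt _ (by norm_num)⟩
  par i := (⟨(w2Par.getD i (0, 0)).1 % 128, Nat.mod_lt _ (by norm_num)⟩, ⟨(w2Par.getD i (0, 0)).2 % 3, Nat.mod_lt _ (by norm_num)⟩)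

theorem twoT_ok : twoT.OK := ⟨by decide +kernel, by decide +kernel, by norm_num, by decide +kernel⟩

/-- The image in the largest elementary abelian quotient, in bits. -/
def w2Parity : List ℕ := [
  0, 1, 2, 4, 3, 5, 6, 5, 6, 7, 4, 7, 7, 4, 7, 1, 2, 6, 5, 6, 0, 3, 5, 3, 0, 3, 3, 3, 4, 2, 1, 2, 2,
  2, 1, 1, 1, 2, 1, 7, 7, 0, 0, 0, 3, 0, 6, 6, 0, 3, 5, 5, 0, 6, 5, 6, 5, 1, 2, 4, 4, 1, 7, 4, 7, 4,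
  2, 4, 7, 4, 7, 4, 4, 4, 2, 1, 3, 5, 6, 5, 6, 5, 5, 5, 3, 0, 6, 6, 6, 0, 3, 5, 6, 0, 0, 7, 7, 7, 1,
  2, 4, 7, 1, 1, 7, 4, 2, 2, 7, 1, 2, 6, 5, 3, 3, 6, 0, 3, 5, 3, 0, 3, 4, 2, 1, 2, 1, 0]

/-- The squares. -/
def w2Sq : List ℕ := [
  0, 0, 0, 0, 0, 20, 24, 20, 24, 41, 0, 45, 48, 0, 52, 0, 0, 43, 42, 43, 0, 85, 42, 89, 0, 0, 89,
  85, 0, 89, 85, 85, 89, 0, 89, 0, 85, 85, 89, 45, 48, 127, 0, 0, 0, 127, 94, 116, 127, 0, 120, 93,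
  127, 94, 93, 116, 120, 89, 85, 127, 127, 89, 41, 127, 52, 127, 85, 127, 41, 127, 52, 0, 127, 127,
  0, 0, 0, 93, 94, 120, 116, 42, 120, 93, 0, 0, 43, 94, 116, 0, 0, 42, 43, 0, 0, 52, 45, 48, 0, 0,
  0, 48, 0, 85, 45, 0, 89, 0, 41, 85, 89, 24, 20, 89, 85, 24, 0, 89, 20, 85, 0, 0, 0, 0, 0, 0, 0, 0]

/-- The involutions. -/
def w2Inv : List ℕ := [
  1, 2, 3, 4, 10, 13, 15, 16, 20, 24, 25, 28, 33, 35, 42, 43, 44, 49, 71, 74, 75, 76, 84, 85, 89,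
  90, 93, 94, 98, 99, 100, 102, 105, 107, 116, 120, 121, 122, 123, 124, 125, 126, 127]

/-- The value of a homomorphism with the given values on the generators. -/
def parVal (f : Fin 3 → Bool) (i : ℕ) : Bool :=
  (((f 0 && Nat.testBit (w2Parity.getD i 0) 0) ^^ (f 1 && Nat.testBit (w2Parity.getD i 0) 1)) ^^
    (f 2 && Nat.testBit (w2Parity.getD i 0) 2))

theorem parVal_step : ∀ (f : Fin 3 → Bool) (i : Fin 128) (j : Fin 3),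
    parVal f (twoT.nx i j) = (f j ^^ parVal f i) := by decide +kernel

theorem parVal_zero : ∀ f : Fin 3 → Bool, parVal f 0 = false := by decide +kernel

theorem w2Sq_ok : ∀ i : Fin 128, w2Sq.getD i 0 < 128 ∧
    keyW chevE6 auxE6 (twoT.wd i ++ twoT.wd i) = keyW chevE6 auxE6 (w2Words.getD (w2Sq.getD i 0) []) := by
  decide +kernel

theorem w2Sq_many : 4 < ((List.range 128).map fun i => w2Sq.getD i 0).toFinset.card ∧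
    ∀ f : Fin 3 → Bool, 2 < (((List.range 128).filter fun i => !parVal f i).map fun i => w2Sq.getD i 0).toFinset.card := by
  decide +kernel

theorem w2Inv_ok : ∀ i : Fin 128, (i : ℕ) ≠ 0 →
    keyW chevE6 auxE6 (twoT.wd i ++ twoT.wd i) = keyW chevE6 auxE6 [] → (i : ℕ) ∈ w2Inv := by decide +kernel

/-- The number of involutions commuting with one of them. -/
def commCount (i : ℕ) : ℕ :=
  w2Inv.countP fun j => keyW chevE6 auxE6 (w2Words.getD i [] ++ w2Words.getD j []) ==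
    keyW chevE6 auxE6 (w2Words.getD j [] ++ w2Words.getD i [])

theorem w2Inv_graph : (w2Inv.countP fun i => Nat.ble 31 (commCount i)) < 31 := by decide +kernel

end CfsgLib.Known.AltE6
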