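import Cfsg.Agent.Lib.Known.AltTorus.Action
import Cfsg.Agent.Lib.Known.Homocyclic.Types
import Cfsg.Agent.Lib.Lie.OddInvolution.Tower
import Cfsg.Agent.Lib.Lie.Rel.OrderData

/-!
# Tables for subgroups of the Weyl group of type E6
-/

set_option autoImplicit false

namespace CfsgLib.Known.AltE6

open Cfsg.Lie (ChevalleyDatum chevE6)
open CfsgLib.Lie.Chev
open CfsgLib.Known.CyclicTorus (cvec wMat vecMul_wMat cvec_sroot)
open CfsgLib.Lie.Exchange (wprod)

section General

variable {D : ChevalleyDatum} {X : Aux} {F : Type*} [Field F] {G : Type*} [Group G] (R : Rel D X F G)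

/-- A list of numbers as a word in the simple reflections. -/
def fins (D : ChevalleyDatum) (l : List ℕ) : List (Fin D.rank) :=
  l.filterMap fun i => if h : i < D.rank then some ⟨i, h⟩ else none

/-- The element of the Weyl group given by a word. -/
def wq (l : List ℕ) : R.WQ := wprod R.qgen (fins D l)

theorem fins_append (a b : List ℕ) : fins D (a ++ b) = fins D a ++ fins D b := List.filterMap_append ..

theorem wq_nil : wq R [] = 1 := rfl

theorem wq_append (a b : List ℕ) : wq R (a ++ b) = wq R a * wq R b := by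
  rw [wq, fins_append, CfsgLib.Lie.Exchange.wprod_append]; rfl

/-- The images of the simple roots under a word. -/
def keyW (D : ChevalleyDatum) (X : Aux) (l : List ℕ) : List ℕ :=
  (List.range D.rank).map fun i => wordAct X ((fins D l).map fun j : Fin D.rank => (j : ℕ)) (D.simple i)

theorem qact_wq (l : List ℕ) (r : Fin D.nroots) :
    (R.qact (wq R l) r : ℕ) = wordAct X ((fins D l).map fun j : Fin D.rank => (j : ℕ)) r :=
  R.qact_wprod_apply _ r

theorem key_wq (l : List ℕ) : AltTorus.key R (R.qact (wq R l)) = keyW D X l := by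
  refine List.ext_getElem (by simp [AltTorus.key, keyW]) fun i h1 h2 => ?_
  simp only [AltTorus.key, keyW, List.getElem_ofFn, List.getElem_map, List.getElem_range, qact_wq]
  rfl

include R in
theorem root_ext' {r s : Fin D.nroots} (h : cvec D X (r : ℕ) = cvec D X (s : ℕ)) : r = s :=
  Lie.OddInvolution.root_ext R fun j => congrFun h j

theorem qact_ext {u v : R.WQ} (h : AltTorus.key R (R.qact u) = AltTorus.key R (R.qact v)) : u = v := by
  refine R.qact_injective (Equiv.ext fun r => root_ext' R ?_)
  rw [← vecMul_wMat R (R.isLin_qact u), ← vecMul_wMat R (R.isLin_qact v), ← AltTorus.keyMat_key,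
    ← AltTorus.keyMat_key, h]

theorem wq_eq {a b : List ℕ} (h : keyW D X a = keyW D X b) : wq R a = wq R b :=
  qact_ext R (by rw [key_wq, key_wq, h])

theorem wq_ne {a b : List ℕ} (h : keyW D X a ≠ keyW D X b) : wq R a ≠ wq R b := fun e =>
  h (by rw [← key_wq R, e, key_wq R])

/-- A table of a generated subgroup: the left multiplications by the generators and a spanning tree. -/
structure Table (D : ChevalleyDatum) (X : Aux) (n k : ℕ) where
  /-- words of the elements -/
  wd : Fin n → List ℕ
  /-- words of the generators -/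
  gn : Fin k → List ℕ
  /-- the left multiplications -/
  nx : Fin n → Fin k → Fin n
  /-- the spanning tree -/
  par : Fin n → Fin n × Fin k

/-- The checks on a table. -/
structure Table.OK {n k : ℕ} (T : Table D X n k) : Prop where
  step : ∀ i j, keyW D X (T.gn j ++ T.wd i) = keyW D X (T.wd (T.nx i j))
  tree : ∀ i : Fin n, ((i : ℕ) = 0 ∧ T.wd i = []) ∨
    (((T.par i).1 : ℕ) < i ∧ T.nx (T.par i).1 (T.par i).2 = i)
  pos : 0 < n
  inj : ((List.finRange n).map fun i => keyW D X (T.wd i)).Nodup

variable {n k : ℕ} {T : Table D X n k}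

/-- The subgroup of a table. -/
def Table.sub (T : Table D X n k) : Subgroup R.WQ := Subgroup.closure (Set.range fun j => wq R (T.gn j))

theorem Table.OK.induct (h : T.OK) {P : Fin n → Prop} (h0 : ∀ i : Fin n, (i : ℕ) = 0 → P i)
    (hstep : ∀ i j, P i → P (T.nx i j)) (i : Fin n) : P i := by
  obtain ⟨m, hm⟩ : ∃ m : ℕ, (i : ℕ) = m := ⟨_, rfl⟩
  induction m using Nat.strong_induction_on generalizing i with
  | _ m ih =>
    rcases h.tree i with ⟨h1, -⟩ | ⟨h1, h2⟩
    · exact h0 i h1
    · rw [← h2]; exact hstep _ _ (ih _ (hm ▸ h1) _ rfl)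

theorem Table.OK.zero (h : T.OK) (i : Fin n) (hi : (i : ℕ) = 0) : wq R (T.wd i) = 1 := by
  rcases h.tree i with ⟨-, h1⟩ | ⟨h1, -⟩
  · rw [h1, wq_nil]
  · omega

theorem Table.OK.mul (h : T.OK) (i : Fin n) (j : Fin k) :
    wq R (T.gn j) * wq R (T.wd i) = wq R (T.wd (T.nx i j)) := by
  rw [← wq_append]; exact wq_eq R (h.step i j)

theorem Table.OK.injective (h : T.OK) : Function.Injective fun i => wq R (T.wd i) := by
  intro a b hab
  by_contra hne
  exact hne ((List.inj_on_of_nodup_map h.inj) (List.mem_finRange a) (List.mem_finRange b)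
    (by rw [← key_wq R, ← key_wq R]; exact congrArg (fun x => AltTorus.key R (R.qact x)) hab))

theorem Table.OK.mem_sub (h : T.OK) (i : Fin n) : wq R (T.wd i) ∈ T.sub R := by
  refine h.induct (P := fun i => wq R (T.wd i) ∈ T.sub R) (fun i hi => h.zero R i hi ▸ one_mem _) (fun i j hi => ?_) i
  rw [← h.mul]
  exact mul_mem (Subgroup.subset_closure ⟨j, rfl⟩) hi

theorem Table.OK.exists_of_mem (h : T.OK) {x : R.WQ} (hx : x ∈ T.sub R) : ∃ i, x = wq R (T.wd i) := by
  induction hx using Subgroup.closure_induction_left with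
  | one => exact ⟨⟨0, h.pos⟩, (h.zero R _ rfl).symm⟩
  | mul_left g hg x _ ih =>
    obtain ⟨j, rfl⟩ := hg
    obtain ⟨i, rfl⟩ := ih
    exact ⟨_, h.mul R i j⟩
  | inv_mul_cancel g hg x _ ih =>
    obtain ⟨j, rfl⟩ := hg
    obtain ⟨i, rfl⟩ := ih
    have hinj : Function.Injective fun a => T.nx a j := fun a b hab => h.injective R
      (mul_left_cancel (a := wq R (T.gn j))
        (by rw [h.mul, h.mul]; exact congrArg (fun z => wq R (T.wd z)) hab))
    obtain ⟨a, ha⟩ := Finite.injective_iff_surjective.1 hinj i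
    exact ⟨a, by rw [inv_mul_eq_iff_eq_mul, h.mul]; exact congrArg (fun z => wq R (T.wd z)) ha.symm⟩

/-- The elements of the subgroup are numbered by the table. -/
noncomputable def Table.OK.equiv (h : T.OK) : Fin n ≃ ↥(T.sub R) :=
  Equiv.ofBijective (fun i => ⟨wq R (T.wd i), h.mem_sub R i⟩)
    ⟨fun _ _ e => h.injective R (congrArg Subtype.val e),
      fun x => (h.exists_of_mem R x.2).imp fun i hi => Subtype.ext hi.symm⟩

theorem Table.OK.card (h : T.OK) : Nat.card ↥(T.sub R) = n := by
  rw [← Nat.card_congr (h.equiv R), Nat.card_eq_fintype_card, Fintype.card_fin]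

/-- A `p`-subgroup is conjugate into a table subgroup of index prime to `p`. -/
theorem Table.OK.conj_into [Finite R.WQ] (h : T.OK) {p : ℕ} [Fact p.Prime] {N : ℕ} (hN : Nat.card R.WQ = n * N)
    (hp : ¬ p ∣ N) {P : Subgroup R.WQ} (hP : IsPGroup p P) : ∃ g : R.WQ, ∀ s ∈ P, g * s * g⁻¹ ∈ T.sub R := by
  refine AltTorus.exists_conj_into ?_ hP
  have e := Subgroup.card_mul_index (T.sub R)
  rw [h.card, hN] at e
  rwa [Nat.eq_of_mul_eq_mul_left h.pos e]

end General

variable {F : Type*} [Field F] {G : Type*} [Group G] (R : Rel chevE6 auxE6 F G)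

include R in
theorem finite_WQ : Finite R.WQ := Finite.of_injective _ R.qact_injective

theorem card_WQ_E6 : Nat.card R.WQ = 51840 := by
  haveI := finite_WQ R
  haveI := Fintype.ofFinite R.WQ
  rw [Nat.card_eq_fintype_card, Lie.OddInvolution.card_WQ R cmat_E6]
  decide +kernel

end CfsgLib.Known.AltE6
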