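import Cfsg.Agent.Lib.Perm.AltSection.Lin

/-!
# Multiplicities of the weights of an elementary abelian group
-/

set_option autoImplicit false

namespace CfsgLib.Known.AltE6

open Module
open CfsgLib.Perm.AltSection (eig mem_eig wsp mem_wsp eq_zero_of_sum_eq_zero iSup_wsp)

variable {k W : Type*} [Field k] [AddCommGroup W] [Module k W]

/-- The dimension of the fixed points. -/
noncomputable def fixd (g : End k W) : ℕ := finrank k (eig g 1)

theorem fixd_one : fixd (1 : End k W) = finrank k W := by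
  rw [fixd, show eig (1 : End k W) (1 : k) = ⊤ from eq_top_iff.2 fun v _ => mem_eig.2 (by simp), finrank_top]

theorem fixd_le [FiniteDimensional k W] (g : End k W) : fixd g ≤ finrank k W := Submodule.finrank_le _

theorem fixd_conj (g : End k W) (u : (End k W)ˣ) : fixd ((u : End k W) * g * (↑u⁻¹ : End k W)) = fixd g := by
  obtain ⟨e, he⟩ : ∃ e : W ≃ₗ[k] W, ∀ v, e v = (u : End k W) v :=
    ⟨LinearMap.GeneralLinearGroup.generalLinearEquiv k W u, fun _ => rfl⟩
  have hes : ∀ v, e.symm v = (↑u⁻¹ : End k W) v := fun v => by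
    apply e.injective
    rw [e.apply_symm_apply, he, ← End.mul_apply, Units.mul_inv, End.one_apply]
  have hmap : eig ((u : End k W) * g * (↑u⁻¹ : End k W)) 1 = (eig g 1).map (e : W →ₗ[k] W) := by
    ext v
    simp only [Submodule.mem_map, mem_eig, one_smul, End.mul_apply, LinearEquiv.coe_coe]
    refine ⟨fun h => ⟨e.symm v, e.injective ?_, e.apply_symm_apply v⟩, ?_⟩
    · rw [e.apply_symm_apply, he, hes]; exact h
    · rintro ⟨w, hw, rfl⟩
      rw [← hes, e.symm_apply_apply, hw, he]
  rw [fixd, fixd, hmap, LinearEquiv.finrank_map_eq]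

variable {ι : Type*} {l : ℕ}

/-- A weight. -/
def wt (ζ : k) (lam : ι → Fin l) : ι → k := fun i => ζ ^ (lam i : ℕ)

theorem wt_injective {ζ : k} (hζ : IsPrimitiveRoot ζ l) : Function.Injective (wt ζ : (ι → Fin l) → ι → k) :=
  fun a b h => funext fun i => Fin.ext (hζ.pow_inj (a i).2 (b i).2 (congrFun h i))

/-- The multiplicity of a weight. -/
noncomputable def mult (t : ι → End k W) (ζ : k) (lam : ι → Fin l) : ℕ := finrank k (wsp t (wt ζ lam))

/-- Commuting operators of order dividing `l` with their root of unity. -/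
structure System (t : ι → End k W) (ζ : k) (l : ℕ) : Prop where
  pow : ∀ i, t i ^ l = 1
  comm : ∀ i j, Commute (t i) (t j)
  root : IsPrimitiveRoot ζ l
  unit : (l : k) ≠ 0

variable [Fintype ι] [DecidableEq ι] {t : ι → End k W} {ζ : k}

theorem System.exists_sum (h : System t ζ l) (x : W) :
    ∃ f : (ι → Fin l) → W, (∀ lam, f lam ∈ wsp t (wt ζ lam)) ∧ ∑ lam, f lam = x := by
  have hl : NeZero l := ⟨fun e => h.unit (by rw [e, Nat.cast_zero])⟩
  have hx : x ∈ ⨆ lam : ι → Fin l, wsp t (wt ζ lam) := by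
    have h1 : (⨆ (w : ι → k) (_ : ∀ i, w i ^ l = 1), wsp t w) ≤ ⨆ lam : ι → Fin l, wsp t (wt ζ lam) := by
      refine iSup₂_le fun w hw => ?_
      choose j hj using fun i => h.root.eq_pow_of_pow_eq_one (hw i)
      have e : w = wt ζ fun i => (⟨j i, (hj i).1⟩ : Fin l) := funext fun i => (hj i).2.symm
      rw [e]
      exact le_iSup (fun lam : ι → Fin l => wsp t (wt ζ lam)) _
    exact h1 (iSup_wsp t h.pow h.comm h.root h.unit ▸ Submodule.mem_top)
  obtain ⟨f, hf⟩ := (Submodule.mem_iSup_iff_exists_finsupp _ _).1 hx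
  exact ⟨f, hf.1, by rw [← hf.2, Finsupp.sum_fintype]; intro; rfl⟩

theorem System.eq_zero (h : System t ζ l) {f : (ι → Fin l) → W} (hf : ∀ lam, f lam ∈ wsp t (wt ζ lam))
    (h0 : ∑ lam, f lam = 0) (lam : ι → Fin l) : f lam = 0 := by
  classical
  have hinj := wt_injective (ι := ι) h.root
  obtain ⟨F, hF⟩ : ∃ F : (ι → k) → W, ∀ a, F (wt ζ a) = f a := ⟨_, fun a => hinj.extend_apply f 0 a⟩
  have h1 := eq_zero_of_sum_eq_zero t (Finset.univ.image (wt ζ)) F
    (fun w hw => by obtain ⟨a, -, rfl⟩ := Finset.mem_image.1 hw; rw [hF]; exact hf a)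
    (by rw [Finset.sum_image fun a _ b _ e => hinj e]; simpa [hF] using h0)
    (wt ζ lam) (Finset.mem_image_of_mem _ (Finset.mem_univ _))
  rwa [hF] at h1

/-- The weight spaces split the space. -/
theorem System.exists_equiv (h : System t ζ l) :
    ∃ Φ : (∀ lam : ι → Fin l, ↥(wsp t (wt ζ lam))) ≃ₗ[k] W, ∀ f, Φ f = ∑ lam, (f lam : W) := by
  classical
  obtain ⟨L, hL⟩ : ∃ L : (∀ lam : ι → Fin l, ↥(wsp t (wt ζ lam))) →ₗ[k] W, ∀ f, L f = ∑ lam, (f lam : W) :=
    ⟨∑ lam, (wsp t (wt ζ lam)).subtype.comp (LinearMap.proj lam), fun f => by simp⟩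
  refine ⟨LinearEquiv.ofBijective L ⟨?_, fun x => ?_⟩, hL⟩
  · rw [injective_iff_map_eq_zero]
    intro f hf
    funext lam
    exact Subtype.ext (h.eq_zero (fun a => (f a).2) ((hL f).symm.trans hf) lam)
  · obtain ⟨f, hf, hs⟩ := h.exists_sum x
    exact ⟨fun a => ⟨f a, hf a⟩, (hL _).trans hs⟩

variable [FiniteDimensional k W]

theorem System.sum_mult (h : System t ζ l) : ∑ lam : ι → Fin l, mult t ζ lam = finrank k W := by
  obtain ⟨Φ, -⟩ := h.exists_equiv
  rw [← Φ.finrank_eq, Module.finrank_pi_fintype]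
  rfl

/-- A subspace whose components live in the given weights is small. -/
theorem System.finrank_le_sum (h : System t ζ l) (U : Submodule k W) (R : Finset (ι → Fin l))
    (hU : ∀ f : (ι → Fin l) → W, (∀ lam, f lam ∈ wsp t (wt ζ lam)) → ∑ lam, f lam ∈ U →
      (∀ lam ∈ R, f lam = 0) → ∀ lam, f lam = 0) :
    finrank k U ≤ ∑ lam ∈ R, mult t ζ lam := by
  classical
  obtain ⟨Φ, hΦ⟩ := h.exists_equiv
  obtain ⟨P, hP⟩ : ∃ P : ↥U →ₗ[k] (∀ lam : R, ↥(wsp t (wt ζ (lam : ι → Fin l)))),
      ∀ x lam, P x lam = Φ.symm (x : W) lam :=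
    ⟨LinearMap.pi fun lam : R => (LinearMap.proj (lam : ι → Fin l)).comp (Φ.symm.toLinearMap.comp U.subtype),
      fun _ _ => rfl⟩
  have hi : Function.Injective P := by
    rw [injective_iff_map_eq_zero]
    intro x hx
    have h1 := hU (fun a => (Φ.symm (x : W) a : W)) (fun a => (Φ.symm (x : W) a).2)
      (by rw [← hΦ, Φ.apply_symm_apply]; exact x.2)
      (fun a ha => by
        have := congrArg Subtype.val (congrFun hx ⟨a, ha⟩)
        rw [hP] at this
        simpa using this)
    refine Subtype.ext ((Φ.apply_symm_apply (x : W)).symm.trans ?_)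
    rw [hΦ]
    exact Finset.sum_eq_zero fun a _ => h1 a
  refine (LinearMap.finrank_le_finrank_of_injective hi).trans (le_of_eq ?_)
  rw [Module.finrank_pi_fintype, ← Finset.sum_attach R fun a => mult t ζ a]
  rfl

theorem System.le_finrank (h : System t ζ l) (U : Submodule k W) (R : Finset (ι → Fin l))
    (hU : ∀ lam ∈ R, wsp t (wt ζ lam) ≤ U) : ∑ lam ∈ R, mult t ζ lam ≤ finrank k U := by
  classical
  have h1 := CfsgLib.Perm.AltSection.sum_finrank_le_of_le t (R.image (wt ζ)) U
    (fun w hw => by obtain ⟨a, ha, rfl⟩ := Finset.mem_image.1 hw; exact hU a ha)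
  rwa [Finset.sum_image fun a _ b _ e => wt_injective h.root e] at h1

/-- An operator acting as scalars on the weight spaces. -/
theorem System.fixd_eq (h : System t ζ l) (g : End k W) (c : (ι → Fin l) → k)
    (hg : ∀ lam, ∀ x ∈ wsp t (wt ζ lam), g x = c lam • x) (R : Finset (ι → Fin l))
    (hR : ∀ lam, lam ∈ R ↔ c lam = 1) : fixd g = ∑ lam ∈ R, mult t ζ lam := by
  refine le_antisymm (h.finrank_le_sum _ R fun f hf hs h0 lam => ?_)
    (h.le_finrank _ R fun lam hl x hx => mem_eig.2 (by rw [hg lam x hx, (hR lam).1 hl]))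
  by_cases hl : lam ∈ R
  · exact h0 lam hl
  have hs' := mem_eig.1 hs
  rw [one_smul, map_sum, ← sub_eq_zero, ← Finset.sum_sub_distrib] at hs'
  have h1 := h.eq_zero (f := fun a => g (f a) - f a) (fun a => by
    rw [hg a _ (hf a)]; exact Submodule.sub_mem _ (Submodule.smul_mem _ _ (hf a)) (hf a)) hs' lam
  rw [hg lam _ (hf lam), ← one_smul k (f lam), smul_smul, mul_one, ← sub_smul] at h1
  exact (smul_eq_zero.1 h1).resolve_left (sub_ne_zero.2 fun e => hl ((hR lam).2 e))

/-- An operator permuting the weight spaces: the components of a fixed vector on representatives of the orbits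
determine it. -/
theorem System.fixd_le_sum (h : System t ζ l) (g : End k W) (p : Equiv.Perm (ι → Fin l))
    (hg : ∀ lam, ∀ x ∈ wsp t (wt ζ lam), g x ∈ wsp t (wt ζ (p lam))) (R : Finset (ι → Fin l))
    (hR : ∀ lam, ∃ a ∈ R, ∃ j : ℕ, (p^[j]) a = lam) : fixd g ≤ ∑ lam ∈ R, mult t ζ lam := by
  refine h.finrank_le_sum _ R fun f hf hs h0 lam => ?_
  have hs' := mem_eig.1 hs
  rw [one_smul, map_sum, ← Equiv.sum_comp p f, ← sub_eq_zero, ← Finset.sum_sub_distrib] at hs'
  have hstep : ∀ a, f (p a) = g (f a) := fun a => by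
    have h1 := h.eq_zero (f := fun b => g (f (p.symm b)) - f b) (fun b => by
      have := hg (p.symm b) _ (hf (p.symm b))
      rw [Equiv.apply_symm_apply] at this
      exact Submodule.sub_mem _ this (hf b)) (by
        rw [← Equiv.sum_comp p (fun b => g (f (p.symm b)) - f b)]
        simpa using hs') (p a)
    rw [Equiv.symm_apply_apply] at h1
    exact (sub_eq_zero.1 h1).symm
  obtain ⟨a, ha, j, rfl⟩ := hR lam
  induction j with
  | zero => exact h0 a ha
  | succ j ih => rw [Function.iterate_succ_apply', hstep, ih, map_zero]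

/-- An injective operator mapping weight spaces into weight spaces permutes the multiplicities. -/
theorem System.mult_perm (h : System t ζ l) (g : End k W) (hgi : Function.Injective g)
    (p : Equiv.Perm (ι → Fin l)) (hg : ∀ lam, ∀ x ∈ wsp t (wt ζ lam), g x ∈ wsp t (wt ζ (p lam)))
    (lam : ι → Fin l) : mult t ζ (p lam) = mult t ζ lam := by
  have hle : ∀ a, mult t ζ a ≤ mult t ζ (p a) := fun a => by
    refine LinearMap.finrank_le_finrank_of_injective (f := g.restrict fun x hx => hg a x hx) fun x y e => ?_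
    exact Subtype.ext (hgi (congrArg Subtype.val e))
  by_contra hne
  exact (Finset.sum_lt_sum (fun a _ => hle a) ⟨lam, Finset.mem_univ _, lt_of_le_of_ne (hle lam) (Ne.symm hne)⟩).ne
    (Equiv.sum_comp p (mult t ζ)).symm

omit [Fintype ι] [DecidableEq ι] [FiniteDimensional k W] in
/-- A product of powers of the operators acts on a weight space as the value of the weight. -/
theorem prod_pow_apply {n : ℕ} (t : Fin n → End k W) (ζ : k) (v : Fin n → ℕ) (lam : Fin n → Fin l) {x : W}
    (hx : x ∈ wsp t (wt ζ lam)) :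
    (List.ofFn fun i => t i ^ v i).prod x = ζ ^ (∑ i, (lam i : ℕ) * v i) • x := by
  induction n with
  | zero => simp
  | succ n ih =>
    have h1 := mem_wsp.1 hx
    rw [List.ofFn_succ, List.prod_cons, End.mul_apply,
      ih (fun i => t i.succ) (fun i => v i.succ) (fun i => lam i.succ) (mem_wsp.2 fun i => h1 i.succ),
      map_smul, CfsgLib.Perm.AltSection.pow_eig (h1 0), smul_smul, Fin.sum_univ_succ, pow_add]
    congr 1
    rw [wt, ← pow_mul, mul_comm]

/-- The dimensions of the fixed points of the elements. -/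
theorem System.fixd_prod {n : ℕ} {t : Fin n → End k W} (h : System t ζ l) (v : Fin n → ℕ) :
    fixd (List.ofFn fun i => t i ^ v i).prod =
      ∑ lam ∈ Finset.univ.filter (fun lam : Fin n → Fin l => l ∣ ∑ i, (lam i : ℕ) * v i), mult t ζ lam := by
  refine h.fixd_eq _ (fun lam => ζ ^ (∑ i, (lam i : ℕ) * v i)) (fun lam x hx => prod_pow_apply t ζ v lam hx) _
    fun lam => ?_
  rw [Finset.mem_filter, h.root.pow_eq_one_iff_dvd]
  simp

omit [Fintype ι] [DecidableEq ι] [FiniteDimensional k W] in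
/-- An operator conjugating the generators to products of their powers maps weight spaces to weight spaces. -/
theorem map_wsp {n : ℕ} {t : Fin n → End k W} (hl : ζ ^ l = 1) (g : End k W) (v : Fin n → Fin n → ℕ)
    (hg : ∀ i, t i * g = g * (List.ofFn fun j => t j ^ v i j).prod) (lam : Fin n → Fin l) (lam' : Fin n → Fin l)
    (hlam : ∀ i, (lam' i : ℕ) = (∑ j, (lam j : ℕ) * v i j) % l) {x : W} (hx : x ∈ wsp t (wt ζ lam)) :
    g x ∈ wsp t (wt ζ lam') := by
  refine mem_wsp.2 fun i => ?_
  have h1 := congrArg (fun T : End k W => T x) (hg i)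
  simp only [End.mul_apply, prod_pow_apply t ζ (v i) lam hx, map_smul] at h1
  rw [h1, wt, hlam i, ← pow_eq_pow_mod _ hl]

end CfsgLib.Known.AltE6
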